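import Cfsg.Agent.Lib.Helper3.BG12Pieces
import Cfsg.Agent.Lib.Helper15.BG10Asm
import Cfsg.Agent.Lib.Helper28.BG12xK1
import Cfsg.Agent.Lib.Helper58.BG12Q20A
import Cfsg.Agent.Lib.Helper66.BG12Q20B
import Cfsg.Agent.Lib.Helper34.BG12Q20C
import Cfsg.Agent.Lib.Helper89.BG12Q20D
import Cfsg.Agent.Lib.Helper16.BG12Q20E
import Cfsg.Agent.Lib.Helper90.BG12Q20F
import Cfsg.Agent.Lib.Helper3.BG12Q20G

/-!
# B&G 12.6 and 12.10 (rows S1418, S1420) modulo S1416, S1417 (helper3)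

`h18_of` is helper28's; `h20_of` is assembled here from the job pieces of note 1496.
-/

set_option autoImplicit false

open Cfsg Cfsg.Agent.Lib.Helper32 Cfsg.Agent.Lib.Helper32.BG10 Cfsg.Agent.Lib.Helper3.BG12

namespace Cfsg.Agent.Lib.Helper3.BG12T

universe u

variable {G : Type u} [Group G] [Finite G]

/-! ## the job pieces (note 1496), re-exported -/

theorem isMulCommutative_of_nilpotent {N : Subgroup G} (hN : Group.IsNilpotent ↥N)
    (h : ∀ (r : ℕ) [Fact r.Prime] (R : Subgroup G), R ≤ N → IsPGroup r R → r ∣ Nat.card N →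
      IsMulCommutative ↥R) :
    IsMulCommutative ↥N :=
  Cfsg.Agent.Lib.Helper58.BG12.isMulCommutative_of_nilpotent hN h

theorem pgroup_comm_of_not_sigma (hG : IsMinSimpleOddOrder G) (h17 : H17 G) {M : Subgroup G}
    (hM : IsCoatom M) {r : ℕ} [Fact r.Prime] (hr : r ∉ sigma M) {R : Subgroup G}
    (hR : IsPGroup r R) (hRM : R ≤ M) : IsMulCommutative ↥R :=
  Cfsg.Agent.Lib.Helper66.BG12.pgroup_comm_of_not_sigma hG h17 hM hr hR hRM

theorem not_mem_sigma_of_dvd_compl (hG : IsMinSimpleOddOrder G) {M : Subgroup G} (hM : IsCoatom M)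
    {E : Subgroup G} (hE : IsComplIn E (sigmaCore M) M) {p : ℕ} (hp : p.Prime)
    (h : p ∣ Nat.card E) : p ∉ sigma M :=
  Cfsg.Agent.Lib.Helper34.BG12.not_mem_sigma_of_dvd_compl hG hM hE hp h

theorem exists_tau2_elemAb (hG : IsMinSimpleOddOrder G) {M : Subgroup G}
    (hM : IsCoatom M) {E : Subgroup G} (hE : IsComplIn E (sigmaCore M) M) {p : ℕ} [Fact p.Prime]
    (hp : p ∈ tau2 M) :
    ∃ A : Subgroup G, A ≤ E ∧ IsElementaryAbelian p A ∧ Nat.card A = p ^ 2 :=
  Cfsg.Agent.Lib.Helper34.BG12.exists_tau2_elemAb hG hM hE hp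

theorem normalizer_le_of_noncyclic (hG : IsMinSimpleOddOrder G) (h16 : H16 G) {M : Subgroup G}
    (hM : IsCoatom M) {p : ℕ} [Fact p.Prime] (hp : p ∈ sigma M) {P : Subgroup G}
    (hP : IsPGroup p P) (hPM : P ≤ M) (hnc : ¬ IsCyclic ↥P) :
    Subgroup.normalizer (P : Set G) ≤ M :=
  Cfsg.Agent.Lib.Helper89.BG12.normalizer_le_of_noncyclic hG h16 hM hp hP hPM hnc

theorem exists_compl_mem (hG : IsMinSimpleOddOrder G) {M : Subgroup G} (hM : IsCoatom M)
    {E : Subgroup G} (hE : IsComplIn E (sigmaCore M) M) {x : G} (hxM : x ∈ M)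
    (hx : ∀ p : ℕ, p.Prime → p ∣ orderOf x → p ∉ sigma M) :
    ∃ E₁ : Subgroup G, IsComplIn E₁ (sigmaCore M) M ∧ x ∈ E₁ :=
  Cfsg.Agent.Lib.Helper16.BG12.exists_compl_mem hG hM hE hxM hx

theorem mem_centralizer_of_minFac {p : ℕ} [Fact p.Prime] (hp2 : p ≠ 2) {A : Subgroup G}
    (hA : Nat.card A = p ^ 2) {x : G} (hx : x ∈ Subgroup.normalizer (A : Set G))
    (hodd : Odd (orderOf x)) (hmin : ∀ r : ℕ, r.Prime → r ∣ orderOf x → p ≤ r)
    (hp : ∀ y ∈ Subgroup.zpowers x, IsPGroup p (Subgroup.zpowers y) →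
      y ∈ Subgroup.centralizer (A : Set G)) :
    x ∈ Subgroup.centralizer (A : Set G) :=
  Cfsg.Agent.Lib.Helper90.BG12.mem_centralizer_of_minFac hp2 hA hx hodd hmin hp

theorem pelt_centralizes (h17 : H17 G) {M : Subgroup G} (hM : IsCoatom M) {E : Subgroup G}
    (hEM : E ≤ M) {p : ℕ} [Fact p.Prime] (hp : p ∈ tau2 M) {A : Subgroup G}
    (hA : A ≤ E ∧ IsElementaryAbelian p A ∧ Nat.card A = p ^ 2)
    (hEA : E ≤ Subgroup.normalizer (A : Set G)) {y : G} (hy : y ∈ E)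
    (hyp : IsPGroup p (Subgroup.zpowers y)) : y ∈ Subgroup.centralizer (A : Set G) :=
  Cfsg.Agent.Lib.Helper3.BG12G.pelt_centralizes h17 hM hEM hp hA hEA hy hyp

end Cfsg.Agent.Lib.Helper3.BG12T

namespace Cfsg.Agent.Lib.Helper3.BG12

open Cfsg.Agent.Lib.Helper3.BG12T

universe u

variable {G : Type u} [Group G] [Finite G]

/-- uniqueness of `M` over a centralizer from B&G 12.5(e) -/
theorem cent_uniq_of_inf_ne_bot (hG : IsMinSimpleOddOrder G) {M N A : Subgroup G}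
    {S : Set G} (hS : ∃ x ∈ S, x ≠ 1) (hAS : A ≤ Subgroup.centralizer S)
    (hNS : N ⊓ Subgroup.centralizer S ≠ ⊥)
    (he : ∀ L : Subgroup G, IsCoatom L → L ≠ M → A ≤ L → N ⊓ L = ⊥) :
    Subgroup.centralizer S ≤ M ∧
      ∀ L : Subgroup G, IsCoatom L → Subgroup.centralizer S ≤ L → L = M := by
  have huniq : ∀ L : Subgroup G, IsCoatom L → Subgroup.centralizer S ≤ L → L = M := by
    intro L hL hSL
    by_contra hne
    have h1 := he L hL hne (hAS.trans hSL)
    apply hNS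
    rw [eq_bot_iff, ← h1]
    exact inf_le_inf_left N hSL
  refine ⟨?_, huniq⟩
  obtain ⟨x, hxS, hx1⟩ := hS
  have hne : Subgroup.centralizer S ≠ ⊤ := by
    intro h
    apply minSimple_centralizer_singleton_ne_top hG hx1
    rw [eq_top_iff, ← h]
    exact Subgroup.centralizer_le (Set.singleton_subset_iff.mpr hxS)
  obtain ⟨L, hL, hSL⟩ := exists_coatom_ge hne
  rw [← huniq L hL hSL]
  exact hSL

/-- B&G 12.6 = S1418 (helper28's proof) -/
theorem h18_of (hG : IsMinSimpleOddOrder G) (h16 : H16 G) (h17 : H17 G) : H18 G :=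
  Cfsg.Agent.Lib.Helper28.BG12x.h18_of hG h16 h17

/-- B&G 12.10 = S1420 -/
theorem h20_of (hG : IsMinSimpleOddOrder G) (h16 : H16 G) (h17 : H17 G) :
    H20 G := by
  have h18 : H18 G := h18_of hG h16 h17
  intro M hM E hE
  have hnil : ∀ N : Subgroup G, N ≤ M → Group.IsNilpotent N →
      (∀ p : ℕ, p.Prime → p ∣ Nat.card N → p ∉ Cfsg.sigma M) → IsMulCommutative N := by
    intro N hNM hN hNσ
    refine isMulCommutative_of_nilpotent hN ?_
    intro r _ R hRN hR hrN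
    exact pgroup_comm_of_not_sigma hG h17 hM (hNσ r (Fact.out) hrN) hR (hRN.trans hNM)
  refine ⟨hnil, ?_, ?_, ?_⟩
  · have h2 : H2 G := h2_of hG
    have h15 := (Cfsg.Agent.Lib.Helper15.BG10.bg10_12 hG h2 M hM E hE).1
    refine hnil _ ((Subgroup.commutator_le_self E).trans hE.1) h15 ?_
    intro p hp hpd
    refine not_mem_sigma_of_dvd_compl hG hM hE hp ?_
    exact hpd.trans (Subgroup.card_dvd_of_le (Subgroup.commutator_le_self E))
  · intro p P hp hP hPM hnc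
    have : Fact p.Prime := ⟨hp.1⟩
    exact normalizer_le_of_noncyclic hG h16 hM hp hP hPM hnc
  · intro x hxM hx1 hτ hσ
    have hτσ : ∀ p : ℕ, p.Prime → p ∣ orderOf x → p ∉ sigma M := fun p hp hpd => (hτ p hp hpd).2.1
    obtain ⟨E₁, hE₁, hxE₁⟩ := exists_compl_mem hG hM hE hxM hτσ
    have hord1 : orderOf x ≠ 1 := fun h => hx1 (orderOf_eq_one_iff.mp h)
    have hpp : (orderOf x).minFac.Prime := Nat.minFac_prime hord1
    have : Fact (orderOf x).minFac.Prime := ⟨hpp⟩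
    have hpd : (orderOf x).minFac ∣ orderOf x := Nat.minFac_dvd _
    have hpτ : (orderOf x).minFac ∈ tau2 M := hτ _ hpp hpd
    have hodd : Odd (orderOf x) := Odd.of_dvd_nat hG.1 (orderOf_dvd_natCard x)
    have hp2 : (orderOf x).minFac ≠ 2 := by
      intro h
      rw [h] at hpd
      exact (Nat.not_even_iff_odd.mpr hodd) (even_iff_two_dvd.mpr hpd)
    obtain ⟨A, hAE, hAel, hAc⟩ := exists_tau2_elemAb hG hM hE₁ hpτ
    have hAM : A ≤ M := hAE.trans hE₁.1
    have hEA := (h18 M hM E₁ hE₁ _ hpτ A ⟨hAE, hAel, hAc⟩).1.1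
    have hxc : x ∈ Subgroup.centralizer (A : Set G) := by
      refine mem_centralizer_of_minFac hp2 hAc (hEA hxE₁) hodd
        (fun r hr hrd => Nat.minFac_le_of_dvd hr.two_le hrd) ?_
      intro y hy hyp
      have hyE : y ∈ E₁ := by
        obtain ⟨k, rfl⟩ := Subgroup.mem_zpowers_iff.mp hy
        exact E₁.zpow_mem hxE₁ k
      exact pelt_centralizes h17 hM hE₁.1 hpτ ⟨hAE, hAel, hAc⟩ hEA hyE hyp
    obtain ⟨-, -, -, -, he, -⟩ := h17 M hM _ hpτ A ⟨hAM, hAel, hAc⟩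
    obtain ⟨-, y, hyσ, hy1, hxy⟩ := hσ
    refine cent_uniq_of_inf_ne_bot hG ⟨x, rfl, hx1⟩ ?_ ?_ he
    · intro a ha
      rw [Subgroup.mem_centralizer_iff]
      intro z hz
      rw [Set.mem_singleton_iff] at hz
      subst hz
      exact ((Subgroup.mem_centralizer_iff.mp hxc) a ha).symm
    · intro h
      have hmem : y ∈ sigmaCore M ⊓ Subgroup.centralizer ({x} : Set G) := by
        refine Subgroup.mem_inf.mpr ⟨hyσ, ?_⟩
        rw [Subgroup.mem_centralizer_iff]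
        intro z hz
        rw [Set.mem_singleton_iff] at hz
        subst hz
        exact hxy
      rw [h, Subgroup.mem_bot] at hmem
      exact hy1 hmem

end Cfsg.Agent.Lib.Helper3.BG12
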