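import Cfsg.Agent.Lib.Helper3.BG12Pieces
import Cfsg.Agent.Lib.Helper3.BG12a
import Cfsg.Agent.Lib.Helper3.BG12f
import Cfsg.Agent.Lib.Helper31.BG13P27D
import Cfsg.Agent.Lib.Helper31.BG13P27R
import Cfsg.Agent.Lib.Helper37.BG13P27N
import Cfsg.Agent.Lib.Helper37.BG13P27Z
import Cfsg.Agent.Lib.Helper4.BG13P27K
import Cfsg.Agent.S1409

/-!
# B&G Corollary 13.3(a) (S1427): assembly (helper3)

The pieces `P27*` were proved by helper4, helper31, helper37 (and two here).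
-/

set_option autoImplicit false

open Cfsg Cfsg.Agent.Lib.Helper32 Cfsg.Agent.Lib.Helper32.BG10 Cfsg.Agent.Lib.Helper3.BG12

namespace Cfsg.Agent.Lib.Helper3.BG13T

universe u

variable {G : Type u} [Group G] [Finite G]

/-! ## pieces (S1427) -/

theorem exists_cj_of_sigma_alpha (hG : IsMinSimpleOddOrder G) {M L : Subgroup G}
    (hM : IsCoatom M) (hL : IsCoatom L) {q : ℕ} [Fact q.Prime] (hqM : q ∈ sigma M)
    (hqL : q ∈ alpha L) : ∃ g : G, L = cj g M := by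
  have hq : q.Prime := Fact.out
  have hqσL : q ∈ sigma L := alpha_sub_sigma hG (ut_of hG) hL hqL
  obtain ⟨QL, hQL⟩ := sylSet_nonempty q L
  obtain ⟨QM, hQM⟩ := sylSet_nonempty q M
  have h1 := (sigma_sylSet hqσL hQL).2
  have h2 := (sigma_sylSet hqM hQM).2
  obtain ⟨g, -, hg⟩ := sylSet_conj h2 h1
  have hr : ¬ PRankLE q 2 ↥QL := fun h => hqL.2 (prankLE_of_sylSet hQL 2 h)
  have hU : UniqIn L QL := uniqIn_of_rank3 (ut_of hG) hL hQL.1 hq hr
  exact ⟨g, (hU (cj g M) (isCoatom_cj g hM) (hg ▸ cj_mono g hQM.1)).symm⟩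

theorem le_npc_of_coprime {q : ℕ} [Fact q.Prime] {N T : Subgroup G}
    (h : HasNormalPComplement q ↥N) (hTN : T ≤ N) (hT : (Nat.card T).Coprime q) :
    ∃ K : Subgroup G, K ≤ N ∧ (Nat.card K).Coprime q ∧
      Subgroup.normalizer (N : Set G) ≤ Subgroup.normalizer (K : Set G) ∧ T ≤ K :=
  Cfsg.Agent.Lib.Helper37.BG13.le_npc_of_coprime h hTN hT

theorem exists_cj_of_sigma_sigma_nilpotent (hG : IsMinSimpleOddOrder G) {M H : Subgroup G}
    (hM : IsCoatom M) (hH : IsCoatom H) (hnil : Group.IsNilpotent ↥(sigmaCore H)) {q : ℕ}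
    [Fact q.Prime] (hqM : q ∈ sigma M) (hqH : q ∈ sigma H) : ∃ g : G, M = cj g H :=
  Cfsg.Agent.Lib.Helper31.BG13.exists_cj_of_sigma_sigma_nilpotent hG hM hH hnil hqM hqH

theorem exists_compl_ge (hG : IsMinSimpleOddOrder G) {M : Subgroup G} (hM : IsCoatom M)
    {W : Subgroup G} (hWM : W ≤ M) (hW : (Nat.card W).Coprime (Nat.card (sigmaCore M))) :
    ∃ E₁ : Subgroup G, IsComplIn E₁ (sigmaCore M) M ∧ W ≤ E₁ := by
  obtain ⟨E, hE⟩ := Cfsg.Agent.Lib.Helper3.BG12S.exCompl_of hG M hM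
  haveI : Group.IsSolvable ↥M := minSimple_solvable hG hM.1
  have hn : M ≤ Subgroup.normalizer ((sigmaCore M : Subgroup G) : Set G) :=
    le_normalizer_map_subtype M _
  have hME : M ≤ sigmaCore M ⊔ E := by
    intro m hm
    obtain ⟨a, ha, b, hb, rfl⟩ := hE.2.2.2 m hm
    have h1 : a * b = (a * b * a⁻¹) * a := by group
    rw [h1]
    exact Subgroup.mul_mem _
      ((le_sup_left : sigmaCore M ≤ sigmaCore M ⊔ E)
        ((Subgroup.mem_normalizer_iff.mp (hn (hE.1 ha)) b).mp hb))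
      ((le_sup_right : E ≤ sigmaCore M ⊔ E) ha)
  obtain ⟨x, hx, hxW⟩ := Cfsg.Agent.Lib.Helper3.BG12S.exists_cj_le_of_coprime
    hE.2.1 hn hE.1 hME hWM hW
  refine ⟨cj x⁻¹ E, Cfsg.Agent.Lib.Helper3.BG12S.isComplIn_cj hE hn (M.inv_mem hx), ?_⟩
  have h2 := cj_mono x⁻¹ hxW
  rwa [cj_inv_cj] at h2

theorem cyclic_sylow_compl (hG : IsMinSimpleOddOrder G) {M : Subgroup G} (hM : IsCoatom M)
    {E : Subgroup G} (hE : IsComplIn E (sigmaCore M) M) {p : ℕ} [Fact p.Prime] (S : Sylow p E)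
    (hS1 : (S : Subgroup E) ≠ ⊥) (hSc : IsCyclic (S : Subgroup E)) :
    p ∉ sigma M ∧ PRankLE p 1 M ∧ IsPGroup p ((S : Subgroup E).map E.subtype) ∧
      IsCyclic ↥((S : Subgroup E).map E.subtype) :=
  Cfsg.Agent.Lib.Helper31.BG13.cyclic_sylow_compl hG hM hE S hS1 hSc

theorem le_normalizer_inf_centralizer {N X T : Subgroup G}
    (hTN : T ≤ Subgroup.normalizer (N : Set G)) (hTX : T ≤ Subgroup.normalizer (X : Set G)) :
    T ≤ Subgroup.normalizer ((N ⊓ Subgroup.centralizer (X : Set G) : Subgroup G) : Set G) :=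
  Cfsg.Agent.Lib.Helper37.BG13.le_normalizer_inf_centralizer hTN hTX

theorem coprime_card_sup {Y T : Subgroup G} (hTY : T ≤ Subgroup.normalizer (Y : Set G)) {n : ℕ}
    (hY : (Nat.card Y).Coprime n) (hT : (Nat.card T).Coprime n) :
    (Nat.card ↥(Y ⊔ T)).Coprime n :=
  Cfsg.Agent.Lib.Helper37.BG13.coprime_card_sup hTY hY hT

theorem prankLE_cj {p k : ℕ} {M : Subgroup G} (g : G) (h : PRankLE p k ↥M) :
    PRankLE p k ↥(cj g M) :=
  Cfsg.Agent.Lib.Helper4.BG13.prankLE_cj g h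

theorem exists_card_prime_le_zpowers {p : ℕ} [Fact p.Prime] {S : Subgroup G} (hS : IsPGroup p S)
    {x : G} (hx : x ∈ S) (hx1 : x ≠ 1) :
    ∃ X : Subgroup G, X ≤ Subgroup.zpowers x ∧ Nat.card X = p :=
  Cfsg.Agent.Lib.Helper4.BG13.exists_card_prime_le_zpowers hS hx hx1

theorem coprime_of_sigma (hG : IsMinSimpleOddOrder G) {M : Subgroup G} {p : ℕ} [Fact p.Prime]
    (hp : p ∉ sigma M) {T Y : Subgroup G} (hT : IsPGroup p T) (hY : Y ≤ sigmaCore M) :
    (Nat.card T).Coprime (Nat.card Y) :=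
  Cfsg.Agent.Lib.Helper31.BG13.coprime_of_sigma hG hp hT hY

theorem exists_tau2_elemAb (hG : IsMinSimpleOddOrder G) {M : Subgroup G}
    (hM : IsCoatom M) {E : Subgroup G} (hE : IsComplIn E (sigmaCore M) M) {p : ℕ} [Fact p.Prime]
    (hp : p ∈ tau2 M) :
    ∃ A : Subgroup G, A ≤ E ∧ IsElementaryAbelian p A ∧ Nat.card A = p ^ 2 :=
  Cfsg.Agent.Lib.Helper3.BG12T.exists_tau2_elemAb hG hM hE hp

end Cfsg.Agent.Lib.Helper3.BG13T

namespace Cfsg.Agent.Lib.Helper3.BG13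

open Cfsg.Agent.Lib.Helper3.BG13T Cfsg.Agent.Lib.Helper3.BG12S

universe u

variable {G : Type u} [Group G] [Finite G]

theorem h6_of (hG : IsMinSimpleOddOrder G) : H6 G :=
  fun M hM p _ hp X hX hNX => Cfsg.Agent.S1409.result hG M hM p hp X hX hNX

omit [Finite G] in
theorem le_normalizer_commutator (L : Subgroup G) :
    L ≤ Subgroup.normalizer ((⁅L, L⁆ : Subgroup G) : Set G) := by
  intro x hx
  rw [← cj_eq_self_iff]
  have h1 : cj x L = L := cj_eq_self_iff.mpr (Subgroup.le_normalizer hx)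
  unfold cj at h1 ⊢
  rw [Subgroup.map_commutator, h1]

/-- the `σ`-argument: a subgroup `T` of `L'` centralizes every `T`-invariant subgroup of
`M_σ ∩ L` of coprime order, if `L` is not conjugate to `M`. -/
theorem sigArg (hG : IsMinSimpleOddOrder G) (h14 : H14 G) {M L : Subgroup G} (hM : IsCoatom M)
    (hL : IsCoatom L) {p : ℕ} (hpL : p ∈ sigma L) (hpM : p ∉ sigma M)
    {T Y : Subgroup G} (hTL : T ≤ ⁅L, L⁆) (hYM : Y ≤ sigmaCore M) (hYL : Y ≤ L)
    (hTY : T ≤ Subgroup.normalizer (Y : Set G)) (hcop : (Nat.card T).Coprime (Nat.card Y)) :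
    T ≤ Subgroup.centralizer (Y : Set G) := by
  have hpp : Fact p.Prime := ⟨hpL.1⟩
  -- the commutators lie in every normal q-complement
  have key : ∀ q : ℕ, q.Prime → q ∣ Nat.card Y → ∀ t ∈ T, ∀ y ∈ Y,
      ∃ K : Subgroup G, (Nat.card K).Coprime q ∧ t * y * t⁻¹ * y⁻¹ ∈ K := by
    intro q hq hqY t ht y hy
    have : Fact q.Prime := ⟨hq⟩
    have hqM : q ∈ sigma M :=
      mem_sigma_of_dvd_sigmaCore hq (hqY.trans (Subgroup.card_dvd_of_le hYM))
    have hqα : q ∉ alpha L := by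
      intro hα
      obtain ⟨g, hg⟩ := exists_cj_of_sigma_alpha hG hM hL hqM hα
      have h1 : p ∈ sigma (cj g⁻¹ L) := sigma_cj hpL g⁻¹
      rw [hg, cj_inv_cj] at h1
      exact hpM h1
    have hqβ : q ∉ beta L := fun h => hqα h.1
    have hqL : q ∣ Nat.card L := hqY.trans (Subgroup.card_dvd_of_le hYL)
    have hnpc := ((h14 L hL).2.2.2.2 q hq hqL hqβ).1
    have hTq : (Nat.card T).Coprime q :=
      Nat.Coprime.coprime_dvd_right hqY hcop
    obtain ⟨K, -, hKq, hKn, hTK⟩ := le_npc_of_coprime hnpc hTL hTq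
    refine ⟨K, hKq, ?_⟩
    have hLK : L ≤ Subgroup.normalizer (K : Set G) := (le_normalizer_commutator L).trans hKn
    have h1 : y * t⁻¹ * y⁻¹ ∈ K := by
      have := (Subgroup.mem_normalizer_iff.mp (hLK (hYL hy))) t⁻¹
      exact this.mp (K.inv_mem (hTK ht))
    have h2 : t * y * t⁻¹ * y⁻¹ = t * (y * t⁻¹ * y⁻¹) := by group
    rw [h2]
    exact K.mul_mem (hTK ht) h1
  intro t ht
  rw [Subgroup.mem_centralizer_iff]
  intro y hy
  by_contra hne
  have hc1 : t * y * t⁻¹ * y⁻¹ ≠ 1 := by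
    intro h
    apply hne
    have : t * y = y * t := by
      have h3 : t * y * t⁻¹ * y⁻¹ * (y * t) = y * t := by rw [h, one_mul]
      rw [← h3]; group
    exact this.symm
  have hcY : t * y * t⁻¹ * y⁻¹ ∈ Y := by
    have h1 : t * y * t⁻¹ ∈ Y := (Subgroup.mem_normalizer_iff.mp (hTY ht) y).mp hy
    exact Y.mul_mem h1 (Y.inv_mem hy)
  have hord : orderOf (t * y * t⁻¹ * y⁻¹) ≠ 1 := fun h => hc1 (orderOf_eq_one_iff.mp h)
  obtain ⟨q, hq, hqd⟩ := Nat.exists_prime_and_dvd hord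
  have hqY : q ∣ Nat.card Y := hqd.trans (Subgroup.orderOf_dvd_natCard Y hcY)
  obtain ⟨K, hKq, hcK⟩ := key q hq hqY t ht y hy
  have hqK : q ∣ Nat.card K := hqd.trans (Subgroup.orderOf_dvd_natCard K hcK)
  exact hq.one_lt.ne' (Nat.eq_one_of_dvd_coprimes hKq hqK dvd_rfl)

/-- for an elementary abelian `A` of order `p ^ 2`, a maximal subgroup containing `N_G(A)`
has `p` in its `σ` (B&G 12.6(b)). -/
theorem mem_sigma_of_normalizer_elemAb_le (hG : IsMinSimpleOddOrder G) (h18 : H18 G)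
    {L : Subgroup G} (hL : IsCoatom L) {p : ℕ} [Fact p.Prime] {A : Subgroup G}
    (hA : IsElementaryAbelian p A) (hAc : Nat.card A = p ^ 2)
    (hNA : Subgroup.normalizer (A : Set G) ≤ L) : p ∈ sigma L := by
  have hpp : p.Prime := Fact.out
  have hAL : A ≤ L := Subgroup.le_normalizer.trans hNA
  by_contra hp
  have hr2 : PRankLE p 2 L := by
    by_contra h
    exact hp (alpha_sub_sigma hG (ut_of hG) hL ⟨hpp, h⟩)
  have hr1 : ¬ PRankLE p 1 L := by
    refine not_prankLE_of_le hAL (fun a ha b hb => ?_) hA.2 ?_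
    · exact congrArg Subtype.val (hA.1.is_comm.comm ⟨a, ha⟩ ⟨b, hb⟩)
    · rw [hAc, pow_one]
      nth_rewrite 1 [← pow_one p]
      exact Nat.pow_lt_pow_right hpp.one_lt (by norm_num)
  have hτ : p ∈ tau2 L := ⟨hpp, hp, hr2, hr1⟩
  have hcop : (Nat.card A).Coprime (Nat.card (sigmaCore L)) := by
    rw [hAc]
    refine Nat.Coprime.pow_left 2 ?_
    rw [Nat.Prime.coprime_iff_not_dvd hpp]
    intro hd
    exact hp (mem_sigma_of_dvd_sigmaCore hpp hd)
  obtain ⟨E₁, hE₁, hAE⟩ := exists_compl_ge hG hL hAL hcop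
  exact (h18 L hL E₁ hE₁ p hτ A ⟨hAE, hA, hAc⟩).2.1.2.2 hNA

/-- the main lemma: a cyclic `p`-subgroup `S` of `M` (`p ∉ σ(M)`, `M` of `p`-rank one)
centralizes `C_{M_σ}(X)` for `X ≤ S` of order `p`. -/
theorem cyclic_centralizes (hG : IsMinSimpleOddOrder G) (h14 : H14 G) (h17 : H17 G)
    (h18 : H18 G) {M : Subgroup G} (hM : IsCoatom M) {p : ℕ} [Fact p.Prime]
    (hpσ : p ∉ sigma M) (hr : PRankLE p 1 M) {X S : Subgroup G} (hX : Nat.card X = p)
    (hXS : X ≤ S) (hSM : S ≤ M) (hSp : IsPGroup p S) (hSc : IsCyclic S) :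
    S ≤ Subgroup.centralizer
      ((sigmaCore M ⊓ Subgroup.centralizer (X : Set G) : Subgroup G) : Set G) := by
  have hpp : p.Prime := Fact.out
  set Y : Subgroup G := sigmaCore M ⊓ Subgroup.centralizer (X : Set G) with hYdef
  have hX1 : X ≠ ⊥ := by
    rintro rfl
    rw [Subgroup.card_bot] at hX
    exact hpp.one_lt.ne hX
  have hXtop : X ≠ ⊤ := by
    rintro rfl
    exact hM.1 (top_le_iff.mp (hXS.trans hSM))
  have hSNX : S ≤ Subgroup.normalizer (X : Set G) :=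
    Subgroup.le_normalizer.trans (normalizer_le_normalizer_of_cyclic hSc hXS)
  obtain ⟨H, hH, hNH⟩ := exists_coatom_ge (minSimple_normalizer_ne_top hG hX1 hXtop)
  have hSH : S ≤ H := hSNX.trans hNH
  have hYH : Y ≤ H :=
    (inf_le_right.trans (Subgroup.centralizer_le_normalizer _)).trans hNH
  have hYM : Y ≤ sigmaCore M := inf_le_left
  have hSY : S ≤ Subgroup.normalizer (Y : Set G) :=
    le_normalizer_inf_centralizer (hSM.trans (le_normalizer_map_subtype M _)) hSNX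
  have hcop : (Nat.card S).Coprime (Nat.card Y) := coprime_of_sigma hG hpσ hSp hYM
  by_cases hpH : p ∈ sigma H
  · -- `p ∈ σ(H)`
    have hSH' : S ≤ ⁅H, H⁆ :=
      (pgroup_le_sigmaCore hG hH hpH hSp hSH).trans (sigmaCore_le_comm hG hH)
    exact sigArg hG h14 hM hH hpH hpσ hSH' hYM hYH hSY hcop
  · -- `p ∈ τ₂(H)`
    obtain ⟨⟨hr2, hr1⟩, -, -⟩ := h6_of hG H hH p hpH X hX hNH
    have hτ : p ∈ tau2 H := ⟨hpp, hpH, hr2, hr1⟩
    obtain ⟨A₀, hA₀E, hA₀el, hA₀c⟩ : ∃ A₀ : Subgroup G, A₀ ≤ H ∧ IsElementaryAbelian p A₀ ∧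
        Nat.card A₀ = p ^ 2 := by
      obtain ⟨Q, hQ⟩ := sylSet_nonempty p H
      obtain ⟨A₀, hA₀, h1, h2⟩ := exists_elemAb2_le_sylSet hr1 hQ
      exact ⟨A₀, hA₀.trans hQ.1, h1, h2⟩
    have hnil : Group.IsNilpotent ↥(sigmaCore H) := (h17 H hH p hτ A₀ ⟨hA₀E, hA₀el, hA₀c⟩).1
    -- `σ(M) ∩ σ(H) = ∅`
    have hdisj : ∀ q : ℕ, q.Prime → q ∈ sigma M → q ∉ sigma H := by
      intro q hq hqM hqH
      have : Fact q.Prime := ⟨hq⟩
      obtain ⟨g, hg⟩ := exists_cj_of_sigma_sigma_nilpotent hG hM hH hnil hqM hqH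
      have h1 : PRankLE p 1 ↥(cj g⁻¹ M) := prankLE_cj g⁻¹ hr
      rw [hg, cj_inv_cj] at h1
      exact hr1 h1
    -- `Y S` is a `σ(H)'`-group
    have hcopH : (Nat.card ↥(Y ⊔ S)).Coprime (Nat.card (sigmaCore H)) := by
      refine coprime_card_sup hSY ?_ ?_
      · refine Nat.coprime_of_dvd ?_
        intro q hq hq1 hq2
        exact hdisj q hq (mem_sigma_of_dvd_sigmaCore hq (hq1.trans (Subgroup.card_dvd_of_le hYM)))
          (mem_sigma_of_dvd_sigmaCore hq hq2)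
      · exact coprime_of_sigma hG hpH hSp le_rfl
    obtain ⟨E₁, hE₁, hWE⟩ := exists_compl_ge hG hH (sup_le hYH hSH) hcopH
    obtain ⟨A, hAE, hAel, hAc⟩ := exists_tau2_elemAb hG hH hE₁ hτ
    have hEA := (h18 H hH E₁ hE₁ p hτ A ⟨hAE, hAel, hAc⟩).1.1
    have hA1 : A ≠ ⊥ := by
      rintro rfl
      rw [Subgroup.card_bot] at hAc
      exact (Nat.one_lt_pow (by norm_num) hpp.one_lt).ne hAc
    have hAtop : A ≠ ⊤ := by
      rintro rfl
      exact hH.1 (top_le_iff.mp (hAE.trans hE₁.1))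
    obtain ⟨L, hL, hNL⟩ := exists_coatom_ge (minSimple_normalizer_ne_top hG hA1 hAtop)
    have hpL : p ∈ sigma L := mem_sigma_of_normalizer_elemAb_le hG h18 hL hAel hAc hNL
    have hWL : Y ⊔ S ≤ L := (hWE.trans hEA).trans hNL
    have hSL' : S ≤ ⁅L, L⁆ :=
      (pgroup_le_sigmaCore hG hL hpL hSp (le_sup_right.trans hWL)).trans (sigmaCore_le_comm hG hL)
    exact sigArg hG h14 hM hL hpL hpσ hSL' hYM (le_sup_left.trans hWL) hSY hcop

/-- B&G Corollary 13.3(a) = S1427 -/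
theorem bg13_3a (hG : IsMinSimpleOddOrder G) (h14 : H14 G) (h17 : H17 G) (h18 : H18 G)
    (M : Subgroup G) (hM : IsCoatom M) (E : Subgroup G)
    (hE : Cfsg.IsComplIn E (Cfsg.sigmaCore M) M) (p : ℕ) [Fact p.Prime] (S : Sylow p E)
    (hS1 : (S : Subgroup E) ≠ ⊥) (hSc : IsCyclic (S : Subgroup E)) :
    ∀ x ∈ (S : Subgroup E).map E.subtype, x ≠ 1 →
        Cfsg.sigmaCore M ⊓ Subgroup.centralizer ({x} : Set G) = Cfsg.sigmaCore M ⊓ Subgroup.centralizer (((S : Subgroup E).map E.subtype : Subgroup G) : Set G) := by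
  intro x hx hx1
  obtain ⟨hpσ, hr, hSp, hSc'⟩ := cyclic_sylow_compl hG hM hE S hS1 hSc
  have hSM : (S : Subgroup E).map E.subtype ≤ M := (Subgroup.map_subtype_le _).trans hE.1
  apply le_antisymm
  · obtain ⟨X, hXx, hXc⟩ := exists_card_prime_le_zpowers hSp hx hx1
    have hXS : X ≤ (S : Subgroup E).map E.subtype :=
      hXx.trans ((Subgroup.zpowers_le).mpr hx)
    have hmain := cyclic_centralizes hG h14 h17 h18 hM hpσ hr hXc hXS hSM hSp hSc'
    intro y hy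
    obtain ⟨hy1, hy2⟩ := Subgroup.mem_inf.mp hy
    refine Subgroup.mem_inf.mpr ⟨hy1, ?_⟩
    have hyX : y ∈ Subgroup.centralizer (X : Set G) := by
      rw [Subgroup.mem_centralizer_iff]
      intro z hz
      obtain ⟨k, rfl⟩ := Subgroup.mem_zpowers_iff.mp (hXx hz)
      have hxy : x * y = y * x := (Subgroup.mem_centralizer_iff.mp hy2) x rfl
      exact (Commute.zpow_left (show Commute x y from hxy) k).eq
    rw [Subgroup.mem_centralizer_iff]
    intro s hs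
    have h1 := Subgroup.mem_centralizer_iff.mp (hmain hs) y (Subgroup.mem_inf.mpr ⟨hy1, hyX⟩)
    exact h1.symm
  · exact inf_le_inf_left _ (Subgroup.centralizer_le (Set.singleton_subset_iff.mpr hx))

end Cfsg.Agent.Lib.Helper3.BG13
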