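import Mathlib
import Cfsg.Prelude.Def_Transfer
import Cfsg.Agent.Lib.Helper14.Replacement

set_option autoImplicit false

namespace Cfsg.Agent.Lib.Helper3.ZJ

open scoped commutatorElement

section basic

variable {G : Type*} [Group G]

/-- power of a product when the commutator is central in `⟨g, h⟩` -/
theorem mul_pow_of_comm_central {g h z : G} (hz : h * g = g * h * z) (hzg : z * g = g * z)
    (hzh : z * h = h * z) (n : ℕ) :
    (g * h) ^ n = g ^ n * h ^ n * z ^ (n * (n - 1) / 2) := by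
  have h1 : ∀ m : ℕ, h ^ m * g = g * h ^ m * z ^ m := by
    intro m
    induction m with
    | zero => simp
    | succ m ih =>
      have hc : z ^ m * h = h * z ^ m := (Commute.pow_left (show Commute z h from hzh) m).eq
      calc h ^ (m + 1) * g = h ^ m * (h * g) := by rw [pow_succ, mul_assoc]
        _ = h ^ m * (g * h * z) := by rw [hz]
        _ = (h ^ m * g) * h * z := by simp only [mul_assoc]
        _ = (g * h ^ m * z ^ m) * h * z := by rw [ih]
        _ = g * h ^ m * (z ^ m * h) * z := by simp only [mul_assoc]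
        _ = g * h ^ m * (h * z ^ m) * z := by rw [hc]
        _ = g * h ^ (m + 1) * z ^ (m + 1) := by rw [pow_succ, pow_succ]; simp only [mul_assoc]
  induction n with
  | zero => simp
  | succ n ih =>
    have he : (n + 1) * (n + 1 - 1) / 2 = n + n * (n - 1) / 2 := by
      have : (n + 1) * (n + 1 - 1) = 2 * n + n * (n - 1) := by
        rcases n with _ | k
        · simp
        · simp only [Nat.add_sub_cancel]; ring
      rw [this, Nat.mul_add_div (by norm_num : 0 < 2)]
    have hcg : ∀ k : ℕ, z ^ k * g = g * z ^ k := fun k =>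
      (Commute.pow_left (show Commute z g from hzg) k).eq
    have hch : ∀ k : ℕ, z ^ k * h = h * z ^ k := fun k =>
      (Commute.pow_left (show Commute z h from hzh) k).eq
    calc (g * h) ^ (n + 1) = (g * h) ^ n * (g * h) := pow_succ _ _
      _ = g ^ n * h ^ n * z ^ (n * (n - 1) / 2) * (g * h) := by rw [ih]
      _ = g ^ n * h ^ n * (z ^ (n * (n - 1) / 2) * g) * h := by simp only [mul_assoc]
      _ = g ^ n * h ^ n * (g * z ^ (n * (n - 1) / 2)) * h := by rw [hcg]
      _ = g ^ n * (h ^ n * g) * (z ^ (n * (n - 1) / 2) * h) := by simp only [mul_assoc]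
      _ = g ^ n * (g * h ^ n * z ^ n) * (h * z ^ (n * (n - 1) / 2)) := by rw [h1, hch]
      _ = g ^ n * g * h ^ n * (z ^ n * h) * z ^ (n * (n - 1) / 2) := by simp only [mul_assoc]
      _ = g ^ n * g * h ^ n * (h * z ^ n) * z ^ (n * (n - 1) / 2) := by rw [hch]
      _ = g ^ (n + 1) * h ^ (n + 1) * z ^ ((n + 1) * (n + 1 - 1) / 2) := by
        rw [he, pow_succ, pow_succ, pow_add]; simp only [mul_assoc]

/-- `p ∣ p (p-1)/2` for odd `p`. -/
theorem dvd_choose_two {p : ℕ} (hp : p.Prime) (hp2 : p ≠ 2) : p ∣ p * (p - 1) / 2 := by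
  have hodd : Odd p := hp.odd_of_ne_two hp2
  obtain ⟨k, hk⟩ := hodd
  have : p * (p - 1) / 2 = p * k := by
    have h1 : p - 1 = 2 * k := by omega
    rw [h1, ← mul_assoc, mul_comm p 2, mul_assoc, Nat.mul_div_cancel_left _ (by norm_num : 0 < 2)]
  rw [this]; exact dvd_mul_right p k

theorem comm_mem (B : Subgroup G) {x y : G} (hx : x ∈ B) (hy : y ∈ B) : ⁅x, y⁆ ∈ B := by
  rw [commutatorElement_def]
  exact B.mul_mem (B.mul_mem (B.mul_mem hx hy) (B.inv_mem hx)) (B.inv_mem hy)

section class2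

variable (B : Subgroup G)
  (hB2 : ∀ x ∈ B, ∀ y ∈ B, ∀ w ∈ B, ⁅x, y⁆ * w = w * ⁅x, y⁆)

include hB2

theorem c2_mul_left {x y w : G} (hx : x ∈ B) (hy : y ∈ B) (hw : w ∈ B) :
    ⁅x * y, w⁆ = ⁅x, w⁆ * ⁅y, w⁆ := by
  have e1 := hB2 y hy w hw x hx
  have e2 := hB2 y hy w hw ⁅x, w⁆ (comm_mem B hx hw)
  have key : ⁅x * y, w⁆ = x * ⁅y, w⁆ * x⁻¹ * ⁅x, w⁆ := by
    simp only [commutatorElement_def]; group
  rw [key, ← e1, mul_inv_cancel_right, e2]

theorem c2_mul_right {x y w : G} (hx : x ∈ B) (hy : y ∈ B) (hw : w ∈ B) :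
    ⁅x, y * w⁆ = ⁅x, y⁆ * ⁅x, w⁆ := by
  have e1 := hB2 x hx w hw y hy
  have key : ⁅x, y * w⁆ = ⁅x, y⁆ * (y * ⁅x, w⁆ * y⁻¹) := by
    simp only [commutatorElement_def]; group
  rw [key, ← e1, mul_inv_cancel_right]

theorem c2_inv_left {x y : G} (hx : x ∈ B) (hy : y ∈ B) : ⁅x⁻¹, y⁆ = ⁅x, y⁆⁻¹ := by
  have h := c2_mul_left B hB2 (B.inv_mem hx) hx hy
  rw [inv_mul_cancel, commutatorElement_one_left] at h
  exact eq_inv_of_mul_eq_one_left h.symm

theorem c2_inv_right {x y : G} (hx : x ∈ B) (hy : y ∈ B) : ⁅x, y⁻¹⁆ = ⁅x, y⁆⁻¹ := by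
  have h := c2_mul_right B hB2 hx (B.inv_mem hy) hy
  rw [inv_mul_cancel, commutatorElement_one_right] at h
  exact eq_inv_of_mul_eq_one_left h.symm

theorem c2_pow_left {x y : G} (hx : x ∈ B) (hy : y ∈ B) (n : ℕ) : ⁅x ^ n, y⁆ = ⁅x, y⁆ ^ n := by
  induction n with
  | zero => simp
  | succ n ih => rw [pow_succ, c2_mul_left B hB2 (B.pow_mem hx n) hx hy, ih, pow_succ]

theorem c2_pow_right {x y : G} (hx : x ∈ B) (hy : y ∈ B) (n : ℕ) : ⁅x, y ^ n⁆ = ⁅x, y⁆ ^ n := by
  induction n with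
  | zero => simp
  | succ n ih => rw [pow_succ, c2_mul_right B hB2 hx (B.pow_mem hy n) hy, ih, pow_succ]

end class2


/-- a `p'`-element normalizing a `p`-group `B` of class at most two (`p` odd) and centralizing
the elements of order dividing `p` centralizes `B`. -/
theorem cop {p : ℕ} [Fact p.Prime] (hp2 : p ≠ 2) (B : Subgroup G) (hBp : IsPGroup p B)
    (hB2 : ∀ x ∈ B, ∀ y ∈ B, ∀ w ∈ B, ⁅x, y⁆ * w = w * ⁅x, y⁆) (g : G)
    (hgB : ∀ b ∈ B, g * b * g⁻¹ ∈ B) (hg : (orderOf g).Coprime p)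
    (hΩ : ∀ w ∈ B, w ^ p = 1 → g * w = w * g) : ∀ b ∈ B, g * b = b * g := by
  have hp : p.Prime := Fact.out
  have key : ∀ k : ℕ, ∀ b ∈ B, b ^ p ^ k = 1 → g * b = b * g := by
    intro k
    induction k with
    | zero =>
      intro b _ hb
      rw [pow_zero, pow_one] at hb
      rw [hb, mul_one, one_mul]
    | succ k ih =>
      intro b hb hbk
      obtain ⟨b', hb'def⟩ : ∃ b', b' = g * b * g⁻¹ := ⟨_, rfl⟩
      have hb' : b' ∈ B := hb'def ▸ hgB b hb
      have hbp : g * b ^ p = b ^ p * g :=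
        ih (b ^ p) (B.pow_mem hb p) (by rw [← pow_mul, ← pow_succ']; exact hbk)
      have hb'p : b' ^ p = b ^ p := by
        rw [hb'def, conj_pow, hbp, mul_inv_cancel_right]
      obtain ⟨z, hzdef⟩ : ∃ z, z = ⁅b'⁻¹, b⁆ := ⟨_, rfl⟩
      have hz : b' * b⁻¹ = b⁻¹ * b' * z := by rw [hzdef, commutatorElement_def]; group
      have hzg : z * b⁻¹ = b⁻¹ * z := by
        rw [hzdef]; exact hB2 _ (B.inv_mem hb') _ hb _ (B.inv_mem hb)
      have hzh : z * b' = b' * z := by
        rw [hzdef]; exact hB2 _ (B.inv_mem hb') _ hb _ hb'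
      have hzp : z ^ p = 1 := by
        rw [hzdef, ← c2_pow_right B hB2 (B.inv_mem hb') hb p, ← hb'p]
        rw [commutatorElement_eq_one_iff_commute]
        exact ((Commute.refl b').inv_left).pow_right p
      have he := mul_pow_of_comm_central hz hzg hzh p
      have hep : (b⁻¹ * b') ^ p = 1 := by
        rw [he, hb'p, inv_pow, inv_mul_cancel, one_mul]
        obtain ⟨m, hm⟩ := dvd_choose_two hp hp2
        rw [hm, pow_mul, hzp, one_pow]
      have hge := hΩ (b⁻¹ * b') (B.mul_mem (B.inv_mem hb) hb') hep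
      obtain ⟨e, hedef⟩ : ∃ e, e = b⁻¹ * b' := ⟨_, rfl⟩
      rw [← hedef] at hge hep
      have h1 : g * b = b * e * g := by rw [hedef, hb'def]; group
      have h2 : ∀ n : ℕ, g ^ n * b = b * e ^ n * g ^ n := by
        intro n
        induction n with
        | zero => simp
        | succ n ihn =>
          have hcn : g * e ^ n = e ^ n * g := (Commute.pow_right (show Commute g e from hge) n).eq
          calc g ^ (n + 1) * b = g * (g ^ n * b) := by rw [pow_succ']; simp only [mul_assoc]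
            _ = g * (b * e ^ n * g ^ n) := by rw [ihn]
            _ = (g * b) * e ^ n * g ^ n := by simp only [mul_assoc]
            _ = b * e * (g * e ^ n) * g ^ n := by rw [h1]; simp only [mul_assoc]
            _ = b * e * (e ^ n * g) * g ^ n := by rw [hcn]
            _ = b * e ^ (n + 1) * g ^ (n + 1) := by
              rw [pow_succ' e, pow_succ' g]; simp only [mul_assoc]
      have h3 := h2 (orderOf g)
      rw [pow_orderOf_eq_one, one_mul, mul_one] at h3
      have h4 : e ^ orderOf g = 1 := by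
        have : b * e ^ orderOf g = b * 1 := by rw [mul_one]; exact h3.symm
        exact mul_left_cancel this
      have h5 : e = 1 := by
        have d1 : orderOf e ∣ orderOf g := orderOf_dvd_of_pow_eq_one h4
        have d2 : orderOf e ∣ p := orderOf_dvd_of_pow_eq_one hep
        have d3 : orderOf e ∣ 1 := by
          have := Nat.dvd_gcd d1 d2
          rwa [hg.gcd_eq_one] at this
        exact orderOf_eq_one_iff.mp (Nat.dvd_one.mp d3)
      rw [h1, h5, mul_one]
  intro b hb
  obtain ⟨k, hk⟩ := hBp ⟨b, hb⟩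
  exact key k b hb (congrArg Subtype.val hk)

/-- the abstract "torsion" predicate defining a Thompson-type family. -/
structure TP (p : ℕ) (T : G → Prop) : Prop where
  one : T 1
  mul : ∀ a b, T a → T b → a * b = b * a → T (a * b)
  inv : ∀ a, T a → T a⁻¹
  conj : ∀ a g, T a → T (g * a * g⁻¹)
  step : ∀ g h z, T g → T (g * h) → T z → h * g = g * h * z → z * g = g * z → z * h = h * z → T h
  comm : ∀ B : Subgroup G, (∀ x ∈ B, ∀ y ∈ B, ∀ w ∈ B, ⁅x, y⁆ * w = w * ⁅x, y⁆) →
    ∀ d ∈ B, ∀ x ∈ B, T d → T ⁅d, x⁆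
  cop : ∀ B : Subgroup G, IsPGroup p B →
    (∀ x ∈ B, ∀ y ∈ B, ∀ w ∈ B, ⁅x, y⁆ * w = w * ⁅x, y⁆) → ∀ g : G,
    (∀ b ∈ B, g * b * g⁻¹ ∈ B) → (orderOf g).Coprime p → (∀ w ∈ B, T w → g * w = w * g) →
    ∀ b ∈ B, g * b = b * g

theorem tp_true (p : ℕ) : TP p (fun _ : G => True) where
  one := trivial
  mul := fun _ _ _ _ _ => trivial
  inv := fun _ _ => trivial
  conj := fun _ _ _ => trivial
  step := fun _ _ _ _ _ _ _ _ _ => trivial
  comm := fun _ _ _ _ _ _ _ => trivial
  cop := fun _ _ _ _ _ _ h b hb => h b hb trivial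

theorem tp_pow {p : ℕ} [Fact p.Prime] (hp2 : p ≠ 2) : TP p (fun w : G => w ^ p = 1) where
  one := one_pow p
  mul := fun a b ha hb hab => by
    show (a * b) ^ p = 1
    rw [(show Commute a b from hab).mul_pow, ha, hb, one_mul]
  inv := fun a ha => by show a⁻¹ ^ p = 1; rw [inv_pow, ha, inv_one]
  conj := fun a g ha => by show (g * a * g⁻¹) ^ p = 1; rw [conj_pow, ha, mul_one, mul_inv_cancel]
  step := fun g h z hg hgh hzp hz hzg hzh => by
    have he := mul_pow_of_comm_central hz hzg hzh p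
    obtain ⟨m, hm⟩ := dvd_choose_two (Fact.out : p.Prime) hp2
    have hgh' : (g * h) ^ p = 1 := hgh
    have hg' : g ^ p = 1 := hg
    have hzp' : z ^ p = 1 := hzp
    rw [hgh', hg', hm, pow_mul, hzp', one_pow, one_mul, mul_one] at he
    exact he.symm
  comm := fun B hB2 d hd x hx hdp => by
    show ⁅d, x⁆ ^ p = 1
    have hdp' : d ^ p = 1 := hdp
    rw [← c2_pow_left B hB2 hd hx p, hdp', commutatorElement_one_left]
  cop := fun B hBp hB2 g hgB hg hΩ => cop hp2 B hBp hB2 g hgB hg hΩ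

/-- abelian subgroups all of whose elements satisfy `T`. -/
def Good (T : G → Prop) (A : Subgroup G) : Prop :=
  (∀ a ∈ A, ∀ b ∈ A, a * b = b * a) ∧ ∀ a ∈ A, T a

/-- the `Good` subgroups of `D` of largest order. -/
def Fam (T : G → Prop) (D : Subgroup G) : Set (Subgroup G) :=
  {A | A ≤ D ∧ Good T A ∧ ∀ E : Subgroup G, E ≤ D → Good T E → Nat.card E ≤ Nat.card A}

theorem good_closure {p : ℕ} {T : G → Prop} (hT : TP p T) (S : Set G)
    (hc : ∀ x ∈ S, ∀ y ∈ S, x * y = y * x) (hTS : ∀ x ∈ S, T x) :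
    Good T (Subgroup.closure S) := by
  have h1 : Subgroup.closure S ≤ Subgroup.centralizer S := by
    rw [Subgroup.closure_le]
    intro x hx
    rw [SetLike.mem_coe, Subgroup.mem_centralizer_iff]
    intro y hy
    exact hc y hy x hx
  have h2 : Subgroup.closure S ≤ Subgroup.centralizer (Subgroup.closure S : Set G) := by
    rw [Subgroup.closure_le]
    intro x hx
    rw [SetLike.mem_coe, Subgroup.mem_centralizer_iff]
    intro y hy
    exact (Subgroup.mem_centralizer_iff.mp (h1 hy) x hx).symm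
  have hcomm : ∀ a ∈ Subgroup.closure S, ∀ b ∈ Subgroup.closure S, a * b = b * a := by
    intro a ha b hb
    exact Subgroup.mem_centralizer_iff.mp (h2 hb) a ha
  refine ⟨hcomm, ?_⟩
  intro a ha
  induction ha using Subgroup.closure_induction with
  | mem x hx => exact hTS x hx
  | one => exact hT.one
  | mul x y hx hy ihx ihy => exact hT.mul x y ihx ihy (hcomm x hx y hy)
  | inv x _ ihx => exact hT.inv x ihx

theorem maxin [Finite G] {p : ℕ} {T : G → Prop} (hT : TP p T) {A D : Subgroup G}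
    (hA : A ∈ Fam T D) {w : G} (hwD : w ∈ D) (hTw : T w) (hc : ∀ a ∈ A, w * a = a * w) :
    w ∈ A := by
  obtain ⟨hAD, ⟨hAc, hAT⟩, hAmax⟩ := hA
  have hgood : Good T (Subgroup.closure ((A : Set G) ∪ {w})) := by
    apply good_closure hT
    · intro x hx y hy
      rcases hx with hx | hx <;> rcases hy with hy | hy
      · exact hAc x hx y hy
      · rw [Set.mem_singleton_iff] at hy; rw [hy]; exact (hc x hx).symm
      · rw [Set.mem_singleton_iff] at hx; rw [hx]; exact hc y hy
      · rw [Set.mem_singleton_iff] at hx hy; rw [hx, hy]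
    · intro x hx
      rcases hx with hx | hx
      · exact hAT x hx
      · rw [Set.mem_singleton_iff] at hx; rw [hx]; exact hTw
  have hle : A ≤ Subgroup.closure ((A : Set G) ∪ {w}) := fun a ha =>
    Subgroup.subset_closure (Or.inl ha)
  have hED : Subgroup.closure ((A : Set G) ∪ {w}) ≤ D := by
    rw [Subgroup.closure_le]
    intro x hx
    rcases hx with hx | hx
    · exact hAD hx
    · rw [Set.mem_singleton_iff] at hx; rw [hx]; exact hwD
  have heq := Subgroup.eq_of_le_of_card_ge hle (hAmax _ hED hgood)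
  rw [heq]
  exact Subgroup.subset_closure (Or.inr rfl)

theorem fam_conj {p : ℕ} {T : G → Prop} (hT : TP p T) {A D : Subgroup G} (hA : A ∈ Fam T D)
    (g : G) (hg : A.map (MulAut.conj g).toMonoidHom ≤ D) :
    A.map (MulAut.conj g).toMonoidHom ∈ Fam T D := by
  obtain ⟨hAD, ⟨hAc, hAT⟩, hAmax⟩ := hA
  refine ⟨hg, ⟨?_, ?_⟩, ?_⟩
  · rintro _ ⟨a, ha, rfl⟩ _ ⟨b, hb, rfl⟩
    simp only [MulEquiv.coe_toMonoidHom, MulAut.conj_apply]
    have := hAc a ha b hb
    calc g * a * g⁻¹ * (g * b * g⁻¹) = g * (a * b) * g⁻¹ := by group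
      _ = g * (b * a) * g⁻¹ := by rw [this]
      _ = g * b * g⁻¹ * (g * a * g⁻¹) := by group
  · rintro _ ⟨a, ha, rfl⟩
    simp only [MulEquiv.coe_toMonoidHom, MulAut.conj_apply]
    exact hT.conj a g (hAT a ha)
  · intro E hE hEg
    rw [Subgroup.card_map_of_injective (MulAut.conj g).injective]
    exact hAmax E hE hEg

end basic

end Cfsg.Agent.Lib.Helper3.ZJ
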