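import Mathlib
import Cfsg.Agent.Lib.Helper3.ZJ1

set_option autoImplicit false

namespace Cfsg.Agent.Lib.Helper3.ZJ

open scoped commutatorElement

section repl

variable {G : Type*} [Group G]

theorem mem_normalizer_of_conj_le [Finite G] (A : Subgroup G) (s : G)
    (h : ∀ a ∈ A, s * a * s⁻¹ ∈ A) : s ∈ Subgroup.normalizer (A : Set G) := by
  rw [Subgroup.mem_normalizer_iff_map_conj_eq]
  apply Subgroup.eq_of_le_of_card_ge
  · rintro _ ⟨a, ha, rfl⟩
    exact h a ha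
  · rw [Subgroup.card_map_of_injective (MulAut.conj s).injective]

/-- Glauberman's replacement theorem, for a Thompson-type family. -/
theorem repl {p : ℕ} [Fact p.Prime] (hp2 : p ≠ 2) {T : G → Prop} (hT : TP p T) [Finite G]
    (P D B A : Subgroup G) (hP : IsPGroup p P) (hDP : D ≤ P) (hBD : B ≤ D)
    (hBn : ∀ u ∈ P, ∀ b ∈ B, u * b * u⁻¹ ∈ B) (hA : A ∈ Fam T D)
    (hB2 : ∀ x ∈ B, ∀ y ∈ B, ∀ w ∈ B, ⁅x, y⁆ * w = w * ⁅x, y⁆)
    (hBA : ∀ x ∈ B, ∀ y ∈ B, ∀ a ∈ A, ⁅x, y⁆ * a = a * ⁅x, y⁆)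
    (hn : ¬ ∀ b ∈ B, ∀ a ∈ A, b * a * b⁻¹ ∈ A) :
    ∃ A' ∈ Fam T D, Nat.card ↥(A ⊓ B) < Nat.card ↥(A' ⊓ B) ∧
      ∀ s ∈ A', ∀ a ∈ A, s * a * s⁻¹ ∈ A := by
  classical
  have hp : p.Prime := Fact.out
  have hAfam := hA
  obtain ⟨hAD, ⟨hAc, hAT⟩, hAmax⟩ := hA
  have hAP : A ≤ P := hAD.trans hDP
  have hBP : B ≤ P := hBD.trans hDP
  -- step 1: the element `x`
  have hx : ∃ x ∈ B, (∃ a ∈ A, ⁅a, x⁆ ∉ A) ∧ ∀ a ∈ A, ∀ b ∈ A, ⁅b, ⁅a, x⁆⁆ ∈ A := by
    have hnil : Group.IsNilpotent ↥P := hP.isNilpotent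
    obtain ⟨N, hN⟩ := (Subgroup.isNilpotent_iff_lowerCentralSeries (S := P)).mp hnil
    have main : ∀ k n : ℕ, n + k = N → ∀ x ∈ B, (∃ a ∈ A, ⁅a, x⁆ ∉ A) →
        x ∈ P.lowerCentralSeries n →
        ∃ x ∈ B, (∃ a ∈ A, ⁅a, x⁆ ∉ A) ∧ ∀ a ∈ A, ∀ b ∈ A, ⁅b, ⁅a, x⁆⁆ ∈ A := by
      intro k
      induction k with
      | zero =>
        intro n hn x hxB ⟨a, ha, hax⟩ hlcs
        exfalso
        rw [show n = N by omega, hN, Subgroup.mem_bot] at hlcs
        apply hax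
        rw [hlcs, commutatorElement_one_right]; exact A.one_mem
      | succ k ih =>
        intro n hn x hxB hS hlcs
        by_cases hgood : ∀ a ∈ A, ∀ b ∈ A, ⁅b, ⁅a, x⁆⁆ ∈ A
        · exact ⟨x, hxB, hS, hgood⟩
        · push Not at hgood
          obtain ⟨a, ha, b, hb, hab⟩ := hgood
          have haxB : ⁅a, x⁆ ∈ B := by
            rw [commutatorElement_def]
            exact B.mul_mem (hBn a (hAP ha) x hxB) (B.inv_mem hxB)
          apply ih (n + 1) (by omega) ⁅a, x⁆ haxB ⟨b, hb, hab⟩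
          rw [Subgroup.lowerCentralSeries_succ]
          have h2 : ⁅x, a⁆ ∈ ⁅P.lowerCentralSeries n, P⁆ :=
            Subgroup.commutator_mem_commutator hlcs (hAP ha)
          have h3 := Subgroup.inv_mem _ h2
          rwa [commutatorElement_inv] at h3
    have hn' : ∃ b ∈ B, ∃ a ∈ A, ⁅a, b⁆ ∉ A := by
      by_contra hcon
      push Not at hcon
      apply hn
      intro b hb a ha
      have h1 := hcon b hb a⁻¹ (A.inv_mem ha)
      have e : b * a * b⁻¹ = a * ⁅a⁻¹, b⁆ := by rw [commutatorElement_def]; group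
      rw [e]; exact A.mul_mem ha h1
    obtain ⟨b, hb, a, ha, hab⟩ := hn'
    exact main N 0 (by omega) b hb ⟨a, ha, hab⟩
      (by rw [Subgroup.lowerCentralSeries_zero]; exact hBP hb)
  obtain ⟨x, hxB, ⟨a0, ha0, ha0x⟩, hxq⟩ := hx
  obtain ⟨u, hu⟩ : ∃ u : G → G, ∀ a, u a = ⁅a, x⁆ := ⟨fun a => ⁅a, x⁆, fun _ => rfl⟩
  have huB : ∀ a ∈ A, u a ∈ B := by
    intro a ha; rw [hu, commutatorElement_def]
    exact B.mul_mem (hBn a (hAP ha) x hxB) (B.inv_mem hxB)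
  have hcA : ∀ a ∈ A, ∀ b ∈ A, ⁅a, u b⁆ ∈ A := fun a ha b hb => by
    rw [hu]; exact hxq b hb a ha
  have hcB : ∀ a ∈ A, ∀ b ∈ A, ⁅a, u b⁆ ∈ B := by
    intro a ha b hb; rw [commutatorElement_def]
    exact B.mul_mem (hBn a (hAP ha) _ (huB b hb)) (B.inv_mem (huB b hb))
  have F1 : ∀ a b, u (a * b) = ⁅a, u b⁆ * u b * u a := by
    intro a b; simp only [hu, commutatorElement_def]; group
  -- elements of `A ∩ B` commute with the `u a`
  have F2 : ∀ d ∈ A, d ∈ B → ∀ a ∈ A, d * u a = u a * d := by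
    intro d hdA hdB a ha
    have h1 : d * a = a * d := hAc d hdA a ha
    obtain ⟨w, hw⟩ : ∃ w, w = ⁅d, x⁆ := ⟨_, rfl⟩
    have h2 : w * a = a * w := by rw [hw]; exact hBA d hdB x hxB a ha
    have h3 : w * u a = u a * w := by rw [hw]; exact hB2 d hdB x hxB (u a) (huB a ha)
    have e1 : d * a * d⁻¹ = a := by rw [h1, mul_inv_cancel_right]
    have e2 : d * x * d⁻¹ = w * x := by rw [hw, commutatorElement_def]; group
    have step1 : d * u a * d⁻¹ =
        (d * a * d⁻¹) * (d * x * d⁻¹) * (d * a * d⁻¹)⁻¹ * (d * x * d⁻¹)⁻¹ := by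
      rw [hu, commutatorElement_def]; group
    have key : d * u a * d⁻¹ = w * u a * w⁻¹ := by
      rw [step1, e1, e2]
      calc a * (w * x) * a⁻¹ * (w * x)⁻¹ = (a * w) * x * a⁻¹ * x⁻¹ * w⁻¹ := by group
        _ = (w * a) * x * a⁻¹ * x⁻¹ * w⁻¹ := by rw [h2]
        _ = w * u a * w⁻¹ := by rw [hu, commutatorElement_def]; group
    rw [h3, mul_inv_cancel_right] at key
    calc d * u a = (d * u a * d⁻¹) * d := by group
      _ = u a * d := by rw [key]
  -- the two formulas for `⁅u b, u a⁆`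
  have beta : ∀ a ∈ A, ∀ b ∈ A, ⁅u b, u a⁆ = (⁅a, u b⁆)⁻¹ * ⁅b, u a⁆ := by
    intro a ha b hb
    have h1 := F1 a b
    have h2 := F1 b a
    rw [hAc a ha b hb, h2] at h1
    -- h1 : ⁅b, u a⁆ * u a * u b = ⁅a, u b⁆ * u b * u a
    have h3 : u b * u a = (⁅a, u b⁆)⁻¹ * (⁅b, u a⁆ * u a * u b) := by
      rw [h1]; group
    rw [commutatorElement_def, h3]; group
  have star : ∀ a ∈ A, ∀ b ∈ A, ⁅u b, u a⁆ = ⁅⁅b, u a⁆, x⁆ := by
    intro a ha b hb
    obtain ⟨c, hc⟩ : ∃ c, c = ⁅b, u a⁆ := ⟨_, rfl⟩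
    have hcA' : c ∈ A := hc ▸ hcA b hb a ha
    have hcB' : c ∈ B := hc ▸ hcB b hb a ha
    have huaB := huB a ha
    have hubB := huB b hb
    have hfix : b * ⁅x, u a⁆ * b⁻¹ = ⁅x, u a⁆ := by
      have := hBA x hxB (u a) huaB b hb
      rw [← this, mul_inv_cancel_right]
    have e1 : b * x * b⁻¹ = u b * x := by rw [hu, commutatorElement_def]; group
    have e2 : b * u a * b⁻¹ = c * u a := by rw [hc, commutatorElement_def]; group
    have e3 : b * ⁅x, u a⁆ * b⁻¹ = ⁅b * x * b⁻¹, b * u a * b⁻¹⁆ := by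
      simp only [commutatorElement_def]; group
    rw [e3, e1, e2] at hfix
    rw [c2_mul_left B hB2 hubB hxB (B.mul_mem hcB' huaB), c2_mul_right B hB2 hubB hcB' huaB,
      c2_mul_right B hB2 hxB hcB' huaB] at hfix
    have h4 : ⁅u b, c⁆ = 1 := by
      rw [commutatorElement_eq_one_iff_mul_comm]
      exact (F2 c hcA' hcB' b hb).symm
    rw [h4, one_mul] at hfix
    -- hfix : ⁅u b, u a⁆ * (⁅x, c⁆ * ⁅x, u a⁆) = ⁅x, u a⁆
    have h5 : ⁅u b, u a⁆ * ⁅x, c⁆ = 1 := by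
      have : ⁅u b, u a⁆ * ⁅x, c⁆ * ⁅x, u a⁆ = 1 * ⁅x, u a⁆ := by
        rw [one_mul, mul_assoc]; exact hfix
      exact mul_right_cancel this
    rw [eq_inv_of_mul_eq_one_left h5, commutatorElement_inv, hc]
  have hodd : ∀ y ∈ P, y = y⁻¹ → y = 1 := by
    intro y hy hyy
    have h2 : y ^ 2 = 1 := by
      rw [pow_two]; nth_rewrite 2 [hyy]; exact mul_inv_cancel y
    obtain ⟨k, hk⟩ := hP ⟨y, hy⟩
    have hk' : y ^ p ^ k = 1 := congrArg Subtype.val hk
    have d1 : orderOf y ∣ 2 := orderOf_dvd_of_pow_eq_one h2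
    have d2 : orderOf y ∣ p ^ k := orderOf_dvd_of_pow_eq_one hk'
    have hcop : Nat.Coprime 2 (p ^ k) :=
      Nat.Coprime.pow_right k ((Nat.coprime_primes Nat.prime_two hp).mpr (Ne.symm hp2))
    have d3 : orderOf y ∣ 1 := by
      have := Nat.dvd_gcd d1 d2
      rwa [hcop.gcd_eq_one] at this
    exact orderOf_eq_one_iff.mp (Nat.dvd_one.mp d3)
  have F3 : ∀ a ∈ A, ∀ b ∈ A, u a * u b = u b * u a := by
    intro a ha b hb
    have huaB := huB a ha
    have hubB := huB b hb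
    have c1A := hcA a ha b hb
    have c1B := hcB a ha b hb
    have c2A := hcA b hb a ha
    have c2B := hcB b hb a ha
    have hb1 := beta a ha b hb
    have hs1 := star a ha b hb
    have hs2 := star b hb a ha
    -- ⁅⁅u b, u a⁆, x⁆ = 1
    have h0 : ⁅⁅u b, u a⁆, x⁆ = 1 := by
      rw [commutatorElement_eq_one_iff_mul_comm]
      exact hB2 _ hubB _ huaB x hxB
    rw [hb1, c2_mul_left B hB2 (B.inv_mem c1B) c2B hxB, c2_inv_left B hB2 c1B hxB] at h0
    have h1 : ⁅⁅a, u b⁆, x⁆ = ⁅⁅b, u a⁆, x⁆ := by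
      exact inv_injective (eq_inv_of_mul_eq_one_left h0)
    have h2 : ⁅u a, u b⁆ = ⁅u a, u b⁆⁻¹ := by
      rw [commutatorElement_inv, hs2, hs1, h1]
    have h3 := hodd _ (hBP (comm_mem B huaB hubB)) h2
    exact commutatorElement_eq_one_iff_mul_comm.mp h3
  have F6 : ∀ a ∈ A, T (u a) := by
    intro a ha
    have hcAa := hcA a ha a ha
    have hcBa := hcB a ha a ha
    have hcu : ⁅a, u a⁆ * u a = u a * ⁅a, u a⁆ := F2 _ hcAa hcBa a ha
    refine hT.step a⁻¹ (u a) ⁅a, u a⁆ (hT.inv a (hAT a ha)) ?_ (hAT _ hcAa) ?_ ?_ hcu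
    · have e : a⁻¹ * u a = x * a⁻¹ * x⁻¹ := by rw [hu, commutatorElement_def]; group
      rw [e]; exact hT.conj _ x (hT.inv a (hAT a ha))
    · rw [mul_assoc, ← hcu]
      rw [commutatorElement_def]; group
    · exact hAc _ hcAa _ (A.inv_mem ha)
  -- the subgroups
  obtain ⟨A1, hA1⟩ : ∃ A1 : Subgroup G, A1 = A ⊓ A.comap (MulAut.conj x).toMonoidHom :=
    ⟨_, rfl⟩
  have mem_A1 : ∀ a, a ∈ A1 ↔ a ∈ A ∧ x * a * x⁻¹ ∈ A := by
    intro a; rw [hA1, Subgroup.mem_inf, Subgroup.mem_comap]; rfl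
  obtain ⟨A2, hA2⟩ : ∃ A2 : Subgroup G, A2 = A1.map (MulAut.conj x).toMonoidHom := ⟨_, rfl⟩
  have mem_A2 : ∀ d, d ∈ A2 ↔ ∃ a ∈ A1, x * a * x⁻¹ = d := by
    intro d; rw [hA2, Subgroup.mem_map]; rfl
  have hA2A : A2 ≤ A := by
    intro d hd
    obtain ⟨a, ha, rfl⟩ := (mem_A2 d).mp hd
    exact ((mem_A1 a).mp ha).2
  have F5 : ∀ d ∈ A2, ∀ a ∈ A, d * u a = u a * d := by
    intro d hd a ha
    obtain ⟨a', ha', rfl⟩ := (mem_A2 d).mp hd
    obtain ⟨ha'A, ha'x⟩ := (mem_A1 a').mp ha'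
    have k1 : (x * a' * x⁻¹) * a = a * (x * a' * x⁻¹) := hAc _ ha'x _ ha
    have k2 : a' * a⁻¹ = a⁻¹ * a' := hAc _ ha'A _ (A.inv_mem ha)
    rw [hu, commutatorElement_def]
    calc x * a' * x⁻¹ * (a * x * a⁻¹ * x⁻¹) = ((x * a' * x⁻¹) * a) * x * a⁻¹ * x⁻¹ := by group
      _ = (a * (x * a' * x⁻¹)) * x * a⁻¹ * x⁻¹ := by rw [k1]
      _ = a * x * (a' * a⁻¹) * x⁻¹ := by group
      _ = a * x * (a⁻¹ * a') * x⁻¹ := by rw [k2]
      _ = a * x * a⁻¹ * x⁻¹ * (x * a' * x⁻¹) := by group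
  obtain ⟨S, hS⟩ : ∃ S : Set G, S = {y | ∃ a ∈ A, y = u a} := ⟨_, rfl⟩
  obtain ⟨M, hM⟩ : ∃ M : Subgroup G, M = Subgroup.closure S := ⟨_, rfl⟩
  obtain ⟨A', hA'⟩ : ∃ A' : Subgroup G, A' = Subgroup.closure (S ∪ (A2 : Set G)) := ⟨_, rfl⟩
  have hgood : Good T A' := by
    rw [hA']
    apply good_closure hT
    · intro y hy y' hy'
      rcases hy with hy | hy <;> rcases hy' with hy' | hy'
      · rw [hS] at hy hy'
        obtain ⟨a, ha, rfl⟩ := hy
        obtain ⟨b, hb, rfl⟩ := hy'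
        exact F3 a ha b hb
      · rw [hS] at hy
        obtain ⟨a, ha, rfl⟩ := hy
        exact (F5 y' hy' a ha).symm
      · rw [hS] at hy'
        obtain ⟨a, ha, rfl⟩ := hy'
        exact F5 y hy a ha
      · exact hAc _ (hA2A hy) _ (hA2A hy')
    · intro y hy
      rcases hy with hy | hy
      · rw [hS] at hy
        obtain ⟨a, ha, rfl⟩ := hy
        exact F6 a ha
      · exact hAT _ (hA2A hy)
  have hMB : M ≤ B := by
    rw [hM, Subgroup.closure_le]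
    intro y hy
    rw [hS] at hy
    obtain ⟨a, ha, rfl⟩ := hy
    exact huB a ha
  have hMA' : M ≤ A' := by
    rw [hM, hA']; exact Subgroup.closure_mono Set.subset_union_left
  have hA2A' : A2 ≤ A' := by
    rw [hA']; intro d hd; exact Subgroup.subset_closure (Or.inr hd)
  have huM : ∀ a ∈ A, u a ∈ M := by
    intro a ha; rw [hM]; exact Subgroup.subset_closure (by rw [hS]; exact ⟨a, ha, rfl⟩)
  have hA'D : A' ≤ D := by
    rw [hA', Subgroup.closure_le]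
    intro y hy
    rcases hy with hy | hy
    · rw [hS] at hy
      obtain ⟨a, ha, rfl⟩ := hy
      exact hBD (huB a ha)
    · exact hAD (hA2A hy)
  -- `A'` normalizes `A`
  have hnorm : A' ≤ Subgroup.normalizer (A : Set G) := by
    rw [hA', Subgroup.closure_le]
    intro y hy
    rcases hy with hy | hy
    · rw [hS] at hy
      obtain ⟨b, hb, rfl⟩ := hy
      apply mem_normalizer_of_conj_le
      intro a ha
      have e : u b * a * (u b)⁻¹ = (⁅a, u b⁆)⁻¹ * a := by rw [commutatorElement_def]; group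
      rw [e]; exact A.mul_mem (A.inv_mem (hcA a ha b hb)) ha
    · exact Subgroup.le_normalizer (hA2A hy)
  -- counting
  have hMc : ∀ m ∈ M, ∀ m' ∈ M, m * m' = m' * m := by
    intro m hm m' hm'
    exact hgood.1 m (hMA' hm) m' (hMA' hm')
  have hcM : ∀ a ∈ A, ∀ e ∈ A, ⁅a, u e⁆ ∈ M := by
    intro a ha e he
    have e1 : ⁅a, u e⁆ = u (a * e) * (u a)⁻¹ * (u e)⁻¹ := by
      rw [F1 a e]; group
    rw [e1]
    exact M.mul_mem (M.mul_mem (huM _ (A.mul_mem ha he)) (M.inv_mem (huM a ha)))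
      (M.inv_mem (huM e he))
  have hfib : Nat.card A ≤ Nat.card A1 * Nat.card (↥M ⧸ (A.subgroupOf M)) := by
    have h1 := Cfsg.Agent.Lib.Helper14.card_le_card_mul_card_of_fiber (A := ↥A)
      (T := ↥M ⧸ (A.subgroupOf M)) (A1.subgroupOf A)
      (fun a => QuotientGroup.mk (⟨u a, huM a a.2⟩ : ↥M)) (by
        intro a a' haa'
        rw [QuotientGroup.eq, Subgroup.mem_subgroupOf] at haa'
        have h2 : (u a)⁻¹ * u a' ∈ A := haa'
        rw [Subgroup.mem_subgroupOf, mem_A1]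
        have hmem : ((a⁻¹ * a' : ↥A) : G) ∈ A := (a⁻¹ * a').2
        refine ⟨hmem, ?_⟩
        obtain ⟨e, he⟩ : ∃ e : G, e = ((a⁻¹ * a' : ↥A) : G) := ⟨_, rfl⟩
        rw [← he] at hmem ⊢
        have h3 := F1 (a : G) e
        have h4 : (a : G) * e = a' := by rw [he]; simp
        rw [h4] at h3
        -- h3 : u a' = ⁅a, u e⁆ * u e * u a
        have h5 : u e = (⁅(a : G), u e⁆)⁻¹ * ((u a)⁻¹ * u a') := by
          rw [h3]
          have hc1 : (u (a : G))⁻¹ * (⁅(a : G), u e⁆ * u e * u a) =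
              ⁅(a : G), u e⁆ * u e * u a * (u (a : G))⁻¹ :=
            hMc _ (M.inv_mem (huM a a.2)) _
              (M.mul_mem (M.mul_mem (hcM a a.2 e hmem) (huM e hmem)) (huM a a.2))
          rw [hc1]; group
        have h6 : u e ∈ A := by
          rw [h5]; exact A.mul_mem (A.inv_mem (hcA a a.2 e hmem)) h2
        have h7 : x * e * x⁻¹ = (e⁻¹ * u e)⁻¹ := by rw [hu, commutatorElement_def]; group
        rw [h7]
        exact A.inv_mem (A.mul_mem (A.inv_mem hmem) h6))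
    have h8 : Nat.card ↥(A1.subgroupOf A) = Nat.card A1 := by
      have hle : A1 ≤ A := by rw [hA1]; exact inf_le_left
      exact Nat.card_congr (Subgroup.subgroupOfEquivOfLe hle).toEquiv
    rw [h8] at h1
    exact h1
  have hMcard : Nat.card M = Nat.card (↥M ⧸ (A.subgroupOf M)) * Nat.card ↥(M ⊓ A) := by
    rw [Subgroup.card_eq_card_quotient_mul_card_subgroup (A.subgroupOf M)]
    congr 1
    have : (A.subgroupOf M) = (M ⊓ A).subgroupOf M := by
      ext y; simp [Subgroup.mem_subgroupOf]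
    rw [this]
    exact Nat.card_congr (Subgroup.subgroupOfEquivOfLe inf_le_left).toEquiv
  have hA12 : Nat.card A2 = Nat.card A1 := by
    rw [hA2]; exact Subgroup.card_map_of_injective (MulAut.conj x).injective
  have hcard : Nat.card A ≤ Nat.card A' := by
    have h1 := Cfsg.Agent.Lib.Helper14.card_mul_card_le_inf_sup M A2
    have h2 : Nat.card ↥(M ⊓ A2) ≤ Nat.card ↥(M ⊓ A) :=
      Subgroup.card_le_of_le (inf_le_inf_left M hA2A)
    have h3 : Nat.card ↥(M ⊔ A2) ≤ Nat.card A' :=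
      Subgroup.card_le_of_le (sup_le hMA' hA2A')
    have hpos : 0 < Nat.card ↥(M ⊓ A) := Nat.card_pos
    have h4 : Nat.card A * Nat.card ↥(M ⊓ A) ≤ Nat.card A' * Nat.card ↥(M ⊓ A) := by
      calc Nat.card A * Nat.card ↥(M ⊓ A)
          ≤ (Nat.card A1 * Nat.card (↥M ⧸ (A.subgroupOf M))) * Nat.card ↥(M ⊓ A) :=
            Nat.mul_le_mul_right _ hfib
        _ = Nat.card M * Nat.card A2 := by rw [hMcard, hA12]; ring
        _ ≤ Nat.card ↥(M ⊓ A2) * Nat.card ↥(M ⊔ A2) := h1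
        _ ≤ Nat.card ↥(M ⊓ A) * Nat.card A' := Nat.mul_le_mul h2 h3
        _ = Nat.card A' * Nat.card ↥(M ⊓ A) := by ring
    exact Nat.le_of_mul_le_mul_right h4 hpos
  have hA'fam : A' ∈ Fam T D :=
    ⟨hA'D, hgood, fun E hE hEg => (hAmax E hE hEg).trans hcard⟩
  refine ⟨A', hA'fam, ?_, ?_⟩
  · -- strict growth of the intersection with `B`
    have hle : A ⊓ B ≤ A' ⊓ B := by
      intro d hd
      obtain ⟨hdA, hdB⟩ := Subgroup.mem_inf.mp hd
      refine Subgroup.mem_inf.mpr ⟨hA2A' ?_, hdB⟩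
      rw [mem_A2]
      refine ⟨x⁻¹ * d * x, ?_, by group⟩
      rw [mem_A1]
      have hw : ⁅d⁻¹, x⁻¹⁆ ∈ A := by
        apply maxin hT hAfam (hBD (comm_mem B (B.inv_mem hdB) (B.inv_mem hxB)))
        · exact hT.comm B hB2 d⁻¹ (B.inv_mem hdB) x⁻¹ (B.inv_mem hxB) (hT.inv d (hAT d hdA))
        · intro a ha
          exact hBA _ (B.inv_mem hdB) _ (B.inv_mem hxB) a ha
      constructor
      · have e : x⁻¹ * d * x = d * ⁅d⁻¹, x⁻¹⁆ := by rw [commutatorElement_def]; group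
        rw [e]; exact A.mul_mem hdA hw
      · have e : x * (x⁻¹ * d * x) * x⁻¹ = d := by group
        rw [e]; exact hdA
    by_contra hlt
    have heq := Subgroup.eq_of_le_of_card_ge hle (not_lt.mp hlt)
    apply ha0x
    have h1 : u a0 ∈ A' ⊓ B := Subgroup.mem_inf.mpr ⟨hMA' (huM a0 ha0), huB a0 ha0⟩
    rw [← heq] at h1
    rw [← hu]
    exact (Subgroup.mem_inf.mp h1).1
  · intro s hs a ha
    have := hnorm hs
    rw [Subgroup.mem_normalizer_iff] at this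
    exact (this a).mp ha

end repl

end Cfsg.Agent.Lib.Helper3.ZJ
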