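import Mathlib
import Cfsg.Prelude.Def_PLocal
import Cfsg.Prelude.Def_TwoFusion
import Cfsg.Agent.Lib.Helper3.ZJ2
import Cfsg.Agent.Lib.Helper14.Coprime

set_option autoImplicit false

namespace Cfsg.Agent.Lib.Helper3.ZJ

open Cfsg
open scoped commutatorElement

section zj

variable {G : Type*} [Group G]

/-- the Thompson-type subgroup generated by the family -/
def JT (T : G → Prop) (D : Subgroup G) : Subgroup G := sSup (Fam T D)

/-- its centre -/
def ZT (T : G → Prop) (D : Subgroup G) : Subgroup G :=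
  JT T D ⊓ Subgroup.centralizer (JT T D : Set G)

theorem JT_le (T : G → Prop) (D : Subgroup G) : JT T D ≤ D := sSup_le (fun _ hA => hA.1)

theorem ZT_comm_fam {T : G → Prop} {D : Subgroup G} {z : G} (hz : z ∈ ZT T D) {A : Subgroup G}
    (hA : A ∈ Fam T D) {a : G} (ha : a ∈ A) : z * a = a * z := by
  have h1 : a ∈ JT T D := (le_sSup hA : A ≤ JT T D) ha
  exact (Subgroup.mem_centralizer_iff.mp hz.2 a h1).symm

theorem ZT_comm {T : G → Prop} {D : Subgroup G} {z z' : G} (hz : z ∈ ZT T D)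
    (hz' : z' ∈ ZT T D) : z * z' = z' * z :=
  (Subgroup.mem_centralizer_iff.mp hz.2 z' hz'.1).symm

theorem JT_conj {p : ℕ} {T : G → Prop} (hT : TP p T) {D : Subgroup G} (g : G)
    (h : ∀ A ∈ Fam T D, A.map (MulAut.conj g).toMonoidHom ≤ D) :
    ∀ j ∈ JT T D, g * j * g⁻¹ ∈ JT T D := by
  have h1 : JT T D ≤ (JT T D).comap (MulAut.conj g).toMonoidHom := by
    apply sSup_le
    intro A hA
    rw [← Subgroup.map_le_iff_le_comap]
    exact le_sSup (fam_conj hT hA g (h A hA))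
  intro j hj
  exact h1 hj

theorem ZT_conj {p : ℕ} {T : G → Prop} (hT : TP p T) {D : Subgroup G} (g : G)
    (h : ∀ A ∈ Fam T D, A.map (MulAut.conj g).toMonoidHom ≤ D)
    (h' : ∀ A ∈ Fam T D, A.map (MulAut.conj g⁻¹).toMonoidHom ≤ D) :
    ∀ z ∈ ZT T D, g * z * g⁻¹ ∈ ZT T D := by
  intro z hz
  refine Subgroup.mem_inf.mpr ⟨JT_conj hT g h z hz.1, ?_⟩
  rw [Subgroup.mem_centralizer_iff]
  intro j hj
  have h1 := JT_conj hT g⁻¹ h' j hj
  rw [inv_inv] at h1
  have h2 := Subgroup.mem_centralizer_iff.mp hz.2 _ h1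
  calc j * (g * z * g⁻¹) = g * ((g⁻¹ * j * g) * z) * g⁻¹ := by group
    _ = g * (z * (g⁻¹ * j * g)) * g⁻¹ := by rw [h2]
    _ = g * z * g⁻¹ * j := by group

/-- the largest normal subgroup that is a `p`-group modulo the normal subgroup `C`. -/
theorem p_closure {p : ℕ} [Fact p.Prime] [Finite G] (C : Subgroup G) (hCn : C.Normal) :
    ∃ L : Subgroup G, L.Normal ∧ C ≤ L ∧ (∀ l ∈ L, ∃ j : ℕ, l ^ p ^ j ∈ C) ∧
      (∀ L' : Subgroup G, L'.Normal → (∀ l ∈ L', ∃ j : ℕ, l ^ p ^ j ∈ C) → L' ≤ L) ∧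
      (∀ S : Sylow p G, ∀ l ∈ L, ∃ s ∈ S, ∃ c ∈ C, l = s * c) ∧
      (∀ S : Sylow p G, ∀ g : G, ∃ n ∈ Subgroup.normalizer
        (((S : Subgroup G) ⊓ L : Subgroup G) : Set G), ∃ c ∈ C, g = n * c) := by
  have := hCn
  have hsurj : Function.Surjective (QuotientGroup.mk' C) := QuotientGroup.mk'_surjective C
  obtain ⟨L, hLdef⟩ : ∃ L : Subgroup G, L = (pCore p (G ⧸ C)).comap (QuotientGroup.mk' C) :=
    ⟨_, rfl⟩
  have hLn : L.Normal := by rw [hLdef]; exact Subgroup.Normal.comap inferInstance _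
  have hLmap : L.map (QuotientGroup.mk' C) = pCore p (G ⧸ C) := by
    rw [hLdef]; exact Subgroup.map_comap_eq_self_of_surjective hsurj _
  have hLpg : IsPGroup p (L.map (QuotientGroup.mk' C)) := by
    rw [hLmap]; exact Cfsg.Agent.Lib.Helper14.pCore_isPGroup
  have hCL : C ≤ L := by
    intro c hc
    rw [hLdef]
    show QuotientGroup.mk' C c ∈ pCore p (G ⧸ C)
    have : QuotientGroup.mk' C c = 1 := by
      rw [← MonoidHom.mem_ker, QuotientGroup.ker_mk']; exact hc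
    rw [this]; exact Subgroup.one_mem _
  have hLs : ∀ S : Sylow p G, ∀ l ∈ L, ∃ s ∈ S, ∃ c ∈ C, l = s * c := fun S l hl =>
    Cfsg.Agent.Lib.Helper14.exists_sylow_mul_of_map_isPGroup C L hLpg S l hl
  refine ⟨L, hLn, hCL, ?_, ?_, hLs, ?_⟩
  · intro l hl
    obtain ⟨j, hj⟩ := hLpg ⟨QuotientGroup.mk' C l, Subgroup.mem_map_of_mem _ hl⟩
    refine ⟨j, ?_⟩
    have hj' : (QuotientGroup.mk' C l) ^ p ^ j = 1 := congrArg Subtype.val hj
    rw [← map_pow, ← MonoidHom.mem_ker, QuotientGroup.ker_mk'] at hj'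
    exact hj'
  · intro L' hL'n hL'p
    have h1 : (L'.map (QuotientGroup.mk' C)).Normal := Subgroup.Normal.map hL'n _ hsurj
    have h2 : IsPGroup p (L'.map (QuotientGroup.mk' C)) := by
      rintro ⟨y, l, hl, rfl⟩
      obtain ⟨j, hj⟩ := hL'p l hl
      refine ⟨j, Subtype.ext ?_⟩
      show (QuotientGroup.mk' C l) ^ p ^ j = 1
      rw [← map_pow, ← MonoidHom.mem_ker, QuotientGroup.ker_mk']
      exact hj
    have h3 := Cfsg.Agent.Lib.Helper14.le_pCore h1 h2
    rw [hLdef]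
    exact Subgroup.map_le_iff_le_comap.mp h3
  · intro S g
    have := hLn
    have hfr := Cfsg.Agent.Lib.Helper14.normalizer_inf_sup_eq_top L S
    obtain ⟨l, hl, n, hn, rfl⟩ := Cfsg.Agent.Lib.Helper14.exists_mul_of_sup_normal_eq_top hfr g
    have hl' : n⁻¹ * l * n ∈ L := by
      have := hLn.conj_mem l hl n⁻¹
      rwa [inv_inv] at this
    obtain ⟨s, hs, c, hc, hsc⟩ := hLs S _ hl'
    have hsL : s ∈ L := by
      have : s = (n⁻¹ * l * n) * c⁻¹ := by rw [hsc]; group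
      rw [this]; exact L.mul_mem hl' (L.inv_mem (hCL hc))
    refine ⟨n * s, ?_, c, hc, ?_⟩
    · exact Subgroup.mul_mem _ hn (Subgroup.le_normalizer (Subgroup.mem_inf.mpr ⟨hs, hsL⟩))
    · calc l * n = n * (n⁻¹ * l * n) := by group
        _ = n * (s * c) := by rw [hsc]
        _ = n * s * c := by group

/-- Glauberman's ZJ-theorem for a Thompson-type family of a strongly closed subgroup. -/
theorem zj_general {p : ℕ} [Fact p.Prime] (hp2 : p ≠ 2) {T : G → Prop} (hT : TP p T) [Finite G]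
    (P : Sylow p G) (D : Subgroup G) (hD : IsStronglyClosed D (P : Subgroup G))
    (hst : ∀ B : Subgroup G, B.Normal → IsPGroup p B → ∀ a : G,
      (∀ v ∈ B, a * ⁅a, v⁆ = ⁅a, v⁆ * a) →
      ∃ L : Subgroup G, L.Normal ∧ a ∈ L ∧
        ∀ l ∈ L, ∃ j : ℕ, l ^ p ^ j ∈ Subgroup.centralizer (B : Set G))
    (hc : Subgroup.centralizer (pCore p G : Set G) ≤ pCore p G) :
    ∀ g : G, ∀ z ∈ ZT T D, g * z * g⁻¹ ∈ ZT T D := by
  classical
  have hp : p.Prime := Fact.out
  obtain ⟨hDP, hDsc⟩ := hD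
  obtain ⟨H, hHdef⟩ : ∃ H : Subgroup G, H = pCore p G := ⟨_, rfl⟩
  have hHn : H.Normal := by rw [hHdef]; infer_instance
  have hHp : IsPGroup p H := by rw [hHdef]; exact Cfsg.Agent.Lib.Helper14.pCore_isPGroup
  have hHP : H ≤ (P : Subgroup G) := by
    rw [hHdef]; exact Cfsg.Agent.Lib.Helper14.pCore_le_sylow P
  have hHmax : ∀ Q : Subgroup G, Q.Normal → IsPGroup p Q → Q ≤ H := fun Q hQ hQp => by
    rw [hHdef]; exact Cfsg.Agent.Lib.Helper14.le_pCore hQ hQp
  have hCH : Subgroup.centralizer (H : Set G) ≤ H := by rw [hHdef]; exact hc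
  have hDn : ∀ u ∈ (P : Subgroup G), ∀ d ∈ D, u * d * u⁻¹ ∈ D := fun u hu d hd =>
    hDsc d hd u ((P : Subgroup G).mul_mem ((P : Subgroup G).mul_mem hu (hDP hd))
      ((P : Subgroup G).inv_mem hu))
  have hFamP : ∀ u ∈ (P : Subgroup G), ∀ A ∈ Fam T D,
      A.map (MulAut.conj u).toMonoidHom ≤ D := by
    rintro u hu A hA _ ⟨a, ha, rfl⟩
    exact hDn u hu a (hA.1 ha)
  have hZP : ∀ u ∈ (P : Subgroup G), ∀ z ∈ ZT T D, u * z * u⁻¹ ∈ ZT T D := fun u hu =>
    ZT_conj hT u (hFamP u hu) (hFamP u⁻¹ ((P : Subgroup G).inv_mem hu))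
  have hZD : ZT T D ≤ D := inf_le_left.trans (JT_le T D)
  -- step 0: `Z ≤ H`
  have hZH : ZT T D ≤ H := by
    intro a ha
    have hq : ∀ v ∈ H, a * ⁅a, v⁆ = ⁅a, v⁆ * a := by
      intro v hv
      have h1 : ⁅a, v⁆ ∈ ZT T D := by
        have e : ⁅a, v⁆ = a * (v * a⁻¹ * v⁻¹) := by rw [commutatorElement_def]; group
        rw [e]
        exact (ZT T D).mul_mem ha (hZP v (hHP hv) a⁻¹ ((ZT T D).inv_mem ha))
      exact ZT_comm ha h1
    obtain ⟨L, hLn, haL, hLp⟩ := hst H hHn hHp a hq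
    have hLpg : IsPGroup p L := by
      rintro ⟨l, hl⟩
      obtain ⟨j, hj⟩ := hLp l hl
      obtain ⟨i, hi⟩ := hHp ⟨l ^ p ^ j, hCH hj⟩
      refine ⟨j + i, Subtype.ext ?_⟩
      have hi' : (l ^ p ^ j) ^ p ^ i = 1 := congrArg Subtype.val hi
      show l ^ p ^ (j + i) = 1
      rw [pow_add, pow_mul]; exact hi'
    exact hHmax L hLn hLpg haL
  -- main claim
  have claim : ∀ n : ℕ, ∀ B : Subgroup G, B.Normal → IsPGroup p B → Nat.card B = n →
      ∀ g : G, ∀ z ∈ ZT T D, z ∈ B → g * z * g⁻¹ ∈ ZT T D := by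
    intro n
    induction n using Nat.strong_induction_on with
    | _ n ih =>
    intro B hBn hBp hBcard
    by_contra hbad
    push Not at hbad
    obtain ⟨g0, z0, hz0Z, hz0B, hz0bad⟩ := hbad
    have hBH : B ≤ H := hHmax B hBn hBp
    have hBP : B ≤ (P : Subgroup G) := hBH.trans hHP
    have hgen : ∀ N : Subgroup G, N.Normal → (∀ z ∈ ZT T D, z ∈ B → z ∈ N) → B ≤ N := by
      intro N hN hZN
      have hinfn : (N ⊓ B).Normal := by
        have := hN; have := hBn; infer_instance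
      have hinfp : IsPGroup p ↥(N ⊓ B) := hBp.to_le inf_le_right
      by_cases hcard : Nat.card ↥(N ⊓ B) < Nat.card B
      · exfalso
        have := ih _ (hBcard ▸ hcard) (N ⊓ B) hinfn hinfp rfl g0 z0 hz0Z
          (Subgroup.mem_inf.mpr ⟨hZN z0 hz0Z hz0B, hz0B⟩)
        exact hz0bad this
      · have := Subgroup.eq_of_le_of_card_ge (inf_le_right : N ⊓ B ≤ B) (not_lt.mp hcard)
        rw [← this]; exact inf_le_left
    have hBD : B ≤ D := by
      have hDHn : (D ⊓ H).Normal := by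
        constructor
        intro d hd g
        have h1 : g * d * g⁻¹ ∈ H := hHn.conj_mem d hd.2 g
        exact Subgroup.mem_inf.mpr ⟨hDsc d hd.1 g (hHP h1), h1⟩
      exact (hgen (D ⊓ H) hDHn
        (fun z hz hzB => Subgroup.mem_inf.mpr ⟨hZD hz, hBH hzB⟩)).trans inf_le_left
    have hB1 : B ≠ ⊥ := by
      rintro rfl
      rw [Subgroup.mem_bot] at hz0B
      apply hz0bad
      rw [hz0B, mul_one, mul_inv_cancel]; exact (ZT T D).one_mem
    have hDcn : (⁅B, B⁆ : Subgroup G).Normal := by have := hBn; infer_instance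
    have hDcle : ⁅B, B⁆ ≤ B := Subgroup.commutator_le.mpr (fun g1 h1 g2 h2 => comm_mem B h1 h2)
    have hDclt : Nat.card ↥(⁅B, B⁆ : Subgroup G) < Nat.card B := by
      by_contra hge
      have heq := Subgroup.eq_of_le_of_card_ge hDcle (not_lt.mp hge)
      have hnt : Nontrivial ↥B := (Subgroup.nontrivial_iff_ne_bot B).mpr hB1
      have hnil : Group.IsNilpotent ↥B := hBp.isNilpotent
      have hlt := Group.IsSolvable.commutator_lt_top_of_nontrivial ↥B
      apply hlt.ne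
      apply Subgroup.map_injective B.subtype_injective
      rw [commutator_def, Subgroup.map_commutator, ← MonoidHom.range_eq_map,
        Subgroup.range_subtype]
      exact heq
    have hY0 : ∀ g : G, ∀ z ∈ ZT T D, z ∈ (⁅B, B⁆ : Subgroup G) → g * z * g⁻¹ ∈ ZT T D :=
      ih _ (hBcard ▸ hDclt) ⁅B, B⁆ hDcn (hBp.to_le hDcle) rfl
    obtain ⟨Y0, hY0def⟩ : ∃ Y0 : Subgroup G, Y0 = ZT T D ⊓ ⁅B, B⁆ := ⟨_, rfl⟩
    have hY0n : Y0.Normal := by
      constructor
      intro y hy g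
      rw [hY0def] at hy ⊢
      exact Subgroup.mem_inf.mpr ⟨hY0 g y hy.1 hy.2, hDcn.conj_mem y hy.2 g⟩
    have hBY : ∀ b ∈ B, ∀ y ∈ Y0, y * b = b * y := by
      have hCn : (Subgroup.centralizer (Y0 : Set G)).Normal := by
        have := hY0n; infer_instance
      have h1 := hgen _ hCn (by
        intro z hz _
        rw [Subgroup.mem_centralizer_iff]
        intro y hy
        rw [hY0def] at hy
        exact ZT_comm hy.1 hz)
      intro b hb y hy
      exact Subgroup.mem_centralizer_iff.mp (h1 hb) y hy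
    have hcomm : ∀ x ∈ B, ∀ y ∈ B, ⁅x, y⁆ ∈ Y0 := by
      have := hY0n
      have hSKn : (sectionKernel B Y0).Normal := by
        unfold sectionKernel
        have : (B.map (QuotientGroup.mk' Y0)).Normal :=
          Subgroup.Normal.map hBn _ (QuotientGroup.mk'_surjective Y0)
        infer_instance
      have h1 := hgen _ hSKn (by
        intro z hz hzB
        rw [Cfsg.Agent.Lib.Helper14.mem_sectionKernel_iff]
        intro k hk
        rw [hY0def]
        refine Subgroup.mem_inf.mpr ⟨?_, Subgroup.commutator_mem_commutator hk hzB⟩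
        have e : ⁅k, z⁆ = (k * z * k⁻¹) * z⁻¹ := by rw [commutatorElement_def]
        rw [e]
        exact (ZT T D).mul_mem (hZP k (hBP hk) z hz) ((ZT T D).inv_mem hz))
      intro x hx y hy
      exact (Cfsg.Agent.Lib.Helper14.mem_sectionKernel_iff B Y0 y).mp (h1 hy) x hx
    have hB2 : ∀ x ∈ B, ∀ y ∈ B, ∀ w ∈ B, ⁅x, y⁆ * w = w * ⁅x, y⁆ :=
      fun x hx y hy w hw => hBY w hw _ (hcomm x hx y hy)
    have hBZ : ∀ x ∈ B, ∀ y ∈ B, ⁅x, y⁆ ∈ ZT T D := fun x hx y hy => by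
      have := hcomm x hx y hy; rw [hY0def] at this; exact this.1
    obtain ⟨C, hCdef⟩ : ∃ C : Subgroup G, C = Subgroup.centralizer (B : Set G) := ⟨_, rfl⟩
    have hCn : C.Normal := by rw [hCdef]; have := hBn; infer_instance
    obtain ⟨L, hLn, hCL, hLp, hLmax, hLsyl, hLfr⟩ := p_closure (p := p) C hCn
    have hfix : ∀ c ∈ C, ∀ w ∈ B, c * w * c⁻¹ = w := by
      intro c hcC w hw
      rw [hCdef] at hcC
      have := Subgroup.mem_centralizer_iff.mp hcC w hw
      rw [← this, mul_inv_cancel_right]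
    have hquadL : ∀ a : G, (∀ v ∈ B, a * ⁅a, v⁆ = ⁅a, v⁆ * a) → a ∈ L := by
      intro a ha
      obtain ⟨L', hL'n, haL', hL'p⟩ := hst B hBn hBp a ha
      exact hLmax L' hL'n (by intro l hl; rw [hCdef]; exact hL'p l hl) haL'
    have hNfam : ∀ n ∈ Subgroup.normalizer (((P : Subgroup G) ⊓ L : Subgroup G) : Set G),
        ∀ A ∈ Fam T D, A ≤ L →
        A.map (MulAut.conj n).toMonoidHom ∈ Fam T D ∧
          A.map (MulAut.conj n).toMonoidHom ≤ L := by
      intro n hn A hA hAL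
      have hle : A.map (MulAut.conj n).toMonoidHom ≤ (P : Subgroup G) ⊓ L := by
        rintro _ ⟨a, ha, rfl⟩
        have haPL : a ∈ (P : Subgroup G) ⊓ L := Subgroup.mem_inf.mpr ⟨hDP (hA.1 ha), hAL ha⟩
        exact (Subgroup.mem_normalizer_iff.mp hn a).mp haPL
      refine ⟨fam_conj hT hA n ?_, hle.trans inf_le_right⟩
      rintro _ ⟨a, ha, rfl⟩
      exact hDsc a (hA.1 ha) n (hle ⟨a, ha, rfl⟩).1
    have hBcent : ∀ b ∈ B, ∀ A ∈ Fam T D, A ≤ L → ∀ a ∈ A, b * a = a * b := by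
      obtain ⟨X, hXdef⟩ : ∃ X : Subgroup G, X = B ⊓ Subgroup.centralizer
          {a : G | ∃ A ∈ Fam T D, A ≤ L ∧ a ∈ A} := ⟨_, rfl⟩
      have hXn : X.Normal := by
        constructor
        intro w hw g
        rw [hXdef] at hw ⊢
        obtain ⟨hwB, hwc⟩ := Subgroup.mem_inf.mp hw
        refine Subgroup.mem_inf.mpr ⟨hBn.conj_mem w hwB g, ?_⟩
        obtain ⟨n, hn, c, hcC, rfl⟩ := hLfr P g
        have e : n * c * w * (n * c)⁻¹ = n * (c * w * c⁻¹) * n⁻¹ := by group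
        rw [e, hfix c hcC w hwB, Subgroup.mem_centralizer_iff]
        rintro a ⟨A, hA, hAL, haA⟩
        have hn' := Subgroup.inv_mem _ hn
        obtain ⟨hA'f, hA'L⟩ := hNfam n⁻¹ hn' A hA hAL
        have ha' : n⁻¹ * a * n ∈ A.map (MulAut.conj n⁻¹).toMonoidHom :=
          ⟨a, haA, by simp⟩
        have h2 := Subgroup.mem_centralizer_iff.mp hwc (n⁻¹ * a * n) ⟨_, hA'f, hA'L, ha'⟩
        calc a * (n * w * n⁻¹) = n * ((n⁻¹ * a * n) * w) * n⁻¹ := by group
          _ = n * (w * (n⁻¹ * a * n)) * n⁻¹ := by rw [h2]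
          _ = n * w * n⁻¹ * a := by group
      have h1 := hgen X hXn (by
        intro z hz hzB
        rw [hXdef]
        refine Subgroup.mem_inf.mpr ⟨hzB, ?_⟩
        rw [Subgroup.mem_centralizer_iff]
        rintro a ⟨A, hA, _, haA⟩
        exact (ZT_comm_fam hz hA haA).symm)
      intro b hb A hA hAL a ha
      have := h1 hb
      rw [hXdef] at this
      exact (Subgroup.mem_centralizer_iff.mp this.2 a ⟨A, hA, hAL, ha⟩).symm
    have hall : ∀ A ∈ Fam T D, A ≤ L := by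
      by_contra hcon
      push Not at hcon
      obtain ⟨A0, hA0, hA0L⟩ := hcon
      have hne : Nonempty {A : Subgroup G // A ∈ Fam T D ∧ ¬ A ≤ L} := ⟨⟨A0, hA0, hA0L⟩⟩
      obtain ⟨⟨A, hA, hAL⟩, hAmax⟩ := Finite.exists_max
        (fun A : {A : Subgroup G // A ∈ Fam T D ∧ ¬ A ≤ L} => Nat.card ↥(A.1 ⊓ B))
      have hAc := hA.2.1.1
      have hnn : ¬ ∀ b ∈ B, ∀ a ∈ A, b * a * b⁻¹ ∈ A := by
        intro hnorm
        apply hAL
        intro a ha
        apply hquadL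
        intro v hv
        have h1 : ⁅a, v⁆ ∈ A := by
          have e : ⁅a, v⁆ = a * (v * a⁻¹ * v⁻¹) := by rw [commutatorElement_def]; group
          rw [e]; exact A.mul_mem ha (hnorm v hv a⁻¹ (A.inv_mem ha))
        exact hAc a ha _ h1
      obtain ⟨A', hA', hlt, hA'norm⟩ := repl hp2 hT (P : Subgroup G) D B A P.isPGroup' hDP hBD
        (fun u _ b hb => hBn.conj_mem b hb u) hA hB2
        (fun x hx y hy a ha => ZT_comm_fam (hBZ x hx y hy) hA ha) hnn
      have hA'L : A' ≤ L := by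
        by_contra h
        have h1 := hAmax ⟨A', hA', h⟩
        have h2 : Nat.card ↥(A' ⊓ B) ≤ Nat.card ↥(A ⊓ B) := h1
        omega
      have hTA' : ∀ w ∈ B, T w → w ∈ A' := fun w hw hTw =>
        maxin hT hA' (hBD hw) hTw (fun a ha => hBcent w hw A' hA' hA'L a ha)
      obtain ⟨V, hVdef⟩ : ∃ V : Subgroup G, V = B ⊓ A' := ⟨_, rfl⟩
      have hVT : ∀ w ∈ V, T w := by
        intro w hw; rw [hVdef] at hw; exact hA'.2.1.2 w hw.2
      have hVn : V.Normal := by
        constructor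
        intro w hw g
        have hTw := hVT w hw
        rw [hVdef] at hw ⊢
        have h1 := hBn.conj_mem w hw.1 g
        exact Subgroup.mem_inf.mpr ⟨h1, hTA' _ h1 (hT.conj w g hTw)⟩
      have hVp : IsPGroup p V := hBp.to_le (by rw [hVdef]; exact inf_le_left)
      apply hAL
      intro a ha
      have hq : ∀ v ∈ V, a * ⁅a, v⁆ = ⁅a, v⁆ * a := by
        intro v hv
        rw [hVdef] at hv
        have h1 : ⁅a, v⁆ ∈ A := by
          have e : ⁅a, v⁆ = a * (v * a⁻¹ * v⁻¹) := by rw [commutatorElement_def]; group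
          rw [e]; exact A.mul_mem ha (hA'norm v hv.2 a⁻¹ (A.inv_mem ha))
        exact hAc a ha _ h1
      obtain ⟨LV, hLVn, haLV, hLVp⟩ := hst V hVn hVp a hq
      refine hLmax LV hLVn ?_ haLV
      intro l hl
      obtain ⟨j, hj⟩ := hLVp l hl
      obtain ⟨h, hh⟩ : ∃ h, h = l ^ p ^ j := ⟨_, rfl⟩
      rw [← hh] at hj
      obtain ⟨m, hm⟩ : ∃ m, m = (orderOf h).factorization p := ⟨_, rfl⟩
      have hord : orderOf h ≠ 0 := (orderOf_pos h).ne'
      have hcop : (orderOf (h ^ p ^ m)).Coprime p := by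
        rw [orderOf_pow' h (pow_ne_zero m hp.ne_zero), hm,
          Nat.gcd_eq_right (Nat.ordProj_dvd (orderOf h) p)]
        exact (Nat.coprime_ordCompl hp hord).symm
      have hcent : ∀ b ∈ B, h ^ p ^ m * b = b * h ^ p ^ m := by
        apply hT.cop B hBp hB2 (h ^ p ^ m) (fun b hb => hBn.conj_mem b hb _) hcop
        intro w hw hTw
        have hwV : w ∈ V := by rw [hVdef]; exact Subgroup.mem_inf.mpr ⟨hw, hTA' w hw hTw⟩
        have h1 : h ^ p ^ m ∈ Subgroup.centralizer (V : Set G) := Subgroup.pow_mem _ hj _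
        exact (Subgroup.mem_centralizer_iff.mp h1 w hwV).symm
      refine ⟨j + m, ?_⟩
      rw [pow_add, pow_mul, ← hh, hCdef, Subgroup.mem_centralizer_iff]
      intro b hb
      exact (hcent b hb).symm
    apply hz0bad
    obtain ⟨n, hn, c, hcC, rfl⟩ := hLfr P g0
    have e : n * c * z0 * (n * c)⁻¹ = n * (c * z0 * c⁻¹) * n⁻¹ := by group
    rw [e, hfix c hcC z0 hz0B]
    exact ZT_conj hT n (fun A hA => (hNfam n hn A hA (hall A hA)).1.1)
      (fun A hA => (hNfam n⁻¹ (Subgroup.inv_mem _ hn) A hA (hall A hA)).1.1) z0 hz0Z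
  intro g z hz
  exact claim _ H hHn hHp rfl g z hz (hZH hz)

end zj

end Cfsg.Agent.Lib.Helper3.ZJ
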