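import Mathlib
import Cfsg.Prelude.Def_PLocal
import Cfsg.Prelude.Def_LocalEven
import Cfsg.Agent.Lib.Helper3.ZJ3
import Cfsg.Agent.S0626
import Cfsg.Agent.Lib.Helper26.ThompsonStep0

set_option autoImplicit false

namespace Cfsg.Agent.Lib.Helper3.ZJ

open Cfsg
open scoped commutatorElement

section ident

variable {G : Type*} [Group G]

theorem map_sSup_subtype (D : Subgroup G) (𝒬 : Set (Subgroup ↥D)) (ℛ : Set (Subgroup G))
    (h1 : ∀ A' ∈ 𝒬, A'.map D.subtype ∈ ℛ) (h2 : ∀ A ∈ ℛ, A ≤ D ∧ A.subgroupOf D ∈ 𝒬) :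
    (sSup 𝒬).map D.subtype = sSup ℛ := by
  apply le_antisymm
  · rw [Subgroup.map_le_iff_le_comap]
    apply sSup_le
    intro A' hA'
    rw [← Subgroup.map_le_iff_le_comap]
    exact le_sSup (h1 A' hA')
  · apply sSup_le
    intro A hA
    obtain ⟨hAD, hAQ⟩ := h2 A hA
    have : A = (A.subgroupOf D).map D.subtype := (Subgroup.map_subgroupOf_eq_of_le hAD).symm
    rw [this]
    exact Subgroup.map_mono (le_sSup hAQ)

theorem card_subgroupOf_of_le {A D : Subgroup G} (h : A ≤ D) :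
    Nat.card ↥(A.subgroupOf D) = Nat.card A :=
  Nat.card_congr (Subgroup.subgroupOfEquivOfLe h).toEquiv

theorem good_e_iff {p : ℕ} (A : Subgroup G) :
    Good (fun w : G => w ^ p = 1) A ↔ IsElementaryAbelian p A :=
  ⟨fun h => Cfsg.Agent.Lib.Helper14.ea_of_forall h.1 h.2,
   fun h => ⟨Cfsg.Agent.Lib.Helper14.ea_comm h, h.2⟩⟩

theorem good_o_iff (A : Subgroup G) :
    Good (fun _ : G => True) A ↔ IsMulCommutative ↥A :=
  ⟨fun h => IsMulCommutative.of_comm fun a b => Subtype.ext (h.1 a a.2 b b.2),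
   fun _ => ⟨fun x hx y hy => congrArg Subtype.val (mul_comm' (⟨x, hx⟩ : A) ⟨y, hy⟩),
     fun _ _ => trivial⟩⟩

/-- the elementary abelian Thompson subgroup of `D` is the one generated by our family. -/
theorem thompsonOf_eq_JT {p : ℕ} (D : Subgroup G) :
    thompsonSubgroupOf p D = JT (fun w : G => w ^ p = 1) D := by
  unfold thompsonSubgroupOf thompsonSubgroup JT
  apply map_sSup_subtype
  · intro A' hA'
    refine ⟨Subgroup.map_subtype_le _, (good_e_iff _).mpr
      (Cfsg.Agent.Lib.Helper14.ea_map D.subtype hA'.1), ?_⟩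
    intro E hED hE
    have h1 := hA'.2 (E.subgroupOf D)
      (Cfsg.Agent.Lib.Helper14.ea_subgroupOf ((good_e_iff E).mp hE) D)
    rw [card_subgroupOf_of_le hED] at h1
    rw [Subgroup.card_map_of_injective D.subtype_injective]
    exact h1
  · intro A hA
    refine ⟨hA.1, Cfsg.Agent.Lib.Helper14.ea_subgroupOf ((good_e_iff A).mp hA.2.1) D, ?_⟩
    intro B' hB'
    have h1 := hA.2.2 (B'.map D.subtype) (Subgroup.map_subtype_le _)
      ((good_e_iff _).mpr (Cfsg.Agent.Lib.Helper14.ea_map D.subtype hB'))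
    rw [Subgroup.card_map_of_injective D.subtype_injective] at h1
    rw [card_subgroupOf_of_le hA.1]
    exact h1

theorem centerThompsonOf_eq_ZT {p : ℕ} (D : Subgroup G) :
    centerThompsonOf p D = ZT (fun w : G => w ^ p = 1) D := by
  unfold centerThompsonOf ZT
  rw [thompsonOf_eq_JT]

theorem comm_map_subtype {D : Subgroup G} {A' : Subgroup ↥D} (h : IsMulCommutative ↥A') :
    IsMulCommutative ↥(A'.map D.subtype) := by
  refine IsMulCommutative.of_comm ?_
  rintro ⟨_, a, ha, rfl⟩ ⟨_, b, hb, rfl⟩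
  apply Subtype.ext
  have := mul_comm' (⟨a, ha⟩ : A') ⟨b, hb⟩
  have h2 := congrArg (fun t : ↥A' => ((t : ↥D) : G)) this
  exact h2

theorem comm_subgroupOf {A : Subgroup G} (h : IsMulCommutative ↥A) (D : Subgroup G) :
    IsMulCommutative ↥(A.subgroupOf D) := by
  refine IsMulCommutative.of_comm ?_
  rintro ⟨a, ha⟩ ⟨b, hb⟩
  apply Subtype.ext
  apply Subtype.ext
  have := mul_comm' (⟨(a : G), Subgroup.mem_subgroupOf.mp ha⟩ : A)
    ⟨(b : G), Subgroup.mem_subgroupOf.mp hb⟩
  have h2 : (a : G) * (b : G) = (b : G) * (a : G) := congrArg Subtype.val this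
  exact h2

/-- the abelian Thompson subgroup of `D` is the one generated by our family. -/
theorem thompsonAOf_eq_JT (D : Subgroup G) :
    thompsonSubgroupAOf D = JT (fun _ : G => True) D := by
  unfold thompsonSubgroupAOf thompsonSubgroupA JT
  apply map_sSup_subtype
  · intro A' hA'
    refine ⟨Subgroup.map_subtype_le _, (good_o_iff _).mpr (comm_map_subtype hA'.1), ?_⟩
    intro E hED hE
    have h1 := hA'.2 (E.subgroupOf D) (comm_subgroupOf ((good_o_iff E).mp hE) D)
    rw [card_subgroupOf_of_le hED] at h1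
    rw [Subgroup.card_map_of_injective D.subtype_injective]
    exact h1
  · intro A hA
    refine ⟨hA.1, comm_subgroupOf ((good_o_iff A).mp hA.2.1) D, ?_⟩
    intro B' hB'
    have h1 := hA.2.2 (B'.map D.subtype) (Subgroup.map_subtype_le _)
      ((good_o_iff _).mpr (comm_map_subtype hB'))
    rw [Subgroup.card_map_of_injective D.subtype_injective] at h1
    rw [card_subgroupOf_of_le hA.1]
    exact h1

theorem centerThompsonAOf_eq_ZT (D : Subgroup G) :
    centerThompsonAOf D = ZT (fun _ : G => True) D := by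
  unfold centerThompsonAOf ZT
  rw [thompsonAOf_eq_JT]

end ident

section quad

variable {G : Type*} [Group G]

/-- elementwise quadratic action gives the commutator form. -/
theorem quad_comm_of_elt [Finite G] (B : Subgroup G) (a : G)
    (ha : ∀ v ∈ B, a * ⁅a, v⁆ = ⁅a, v⁆ * a) :
    ⁅⁅B, Subgroup.zpowers a⁆, Subgroup.zpowers a⁆ = ⊥ := by
  rw [Subgroup.commutator_eq_bot_iff_le_centralizer, Subgroup.commutator_le]
  intro v hv g hg
  have key : ∀ k : ℕ, ⁅v, a ^ k⁆ * a = a * ⁅v, a ^ k⁆ := by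
    have h1 : ⁅v, a⁆ * a = a * ⁅v, a⁆ := by
      have h0 := ha v hv
      rw [← commutatorElement_inv v a] at h0
      -- h0 : a * ⁅v, a⁆⁻¹ = ⁅v, a⁆⁻¹ * a
      calc ⁅v, a⁆ * a = ⁅v, a⁆ * (a * ⁅v, a⁆⁻¹) * ⁅v, a⁆ := by group
        _ = ⁅v, a⁆ * (⁅v, a⁆⁻¹ * a) * ⁅v, a⁆ := by rw [h0]
        _ = a * ⁅v, a⁆ := by group
    intro k
    induction k with
    | zero => simp
    | succ k ih =>
      have h2 : ⁅v, a⁆ * a ^ k = a ^ k * ⁅v, a⁆ :=
        (Commute.pow_right (show Commute ⁅v, a⁆ a from h1) k).eq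
      have e : ⁅v, a ^ (k + 1)⁆ = ⁅v, a ^ k⁆ * (a ^ k * ⁅v, a⁆ * (a ^ k)⁻¹) := by
        rw [pow_succ]; simp only [commutatorElement_def]; group
      rw [e, ← h2, mul_inv_cancel_right, mul_assoc, h1, ← mul_assoc, ih, mul_assoc]
  obtain ⟨k, rfl⟩ := (mem_powers_iff_mem_zpowers.mpr hg)
  rw [Subgroup.mem_centralizer_iff]
  intro y hy
  obtain ⟨j, rfl⟩ := Subgroup.mem_zpowers_iff.mp hy
  exact ((Commute.zpow_right (show Commute ⁅v, a ^ k⁆ a from key k) j).eq).symm

end quad

end Cfsg.Agent.Lib.Helper3.ZJ
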