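import Mathlib
import Cfsg.Prelude.Def_PLocal
import Cfsg.Prelude.Def_LocalEven
import Cfsg.Agent.Lib.Helper3.ZJ4
import Cfsg.Agent.Lib.Helper26.PStabGen

/-!
# Glauberman's ZJ-theorem: `p`-stability providers and normal forms
-/

set_option autoImplicit false

namespace Cfsg.Agent.Lib.Helper3.ZJ

open Cfsg
open scoped commutatorElement

universe u

section providers

variable {G : Type u} [Group G]

theorem ZT_normal_of_conj {T : G → Prop} {D : Subgroup G}
    (h : ∀ g : G, ∀ z ∈ ZT T D, g * z * g⁻¹ ∈ ZT T D) : (ZT T D).Normal :=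
  ⟨fun z hz g => h g z hz⟩

/-- the stability hypothesis of `zj_general`, from the normalizer form of `p`-stability. -/
theorem hst_of_nps {p : ℕ} [Fact p.Prime] [Finite G] (h : IsNormalizerPStable p G) :
    ∀ B : Subgroup G, B.Normal → IsPGroup p B → ∀ a : G,
      (∀ v ∈ B, a * ⁅a, v⁆ = ⁅a, v⁆ * a) →
      ∃ L : Subgroup G, L.Normal ∧ a ∈ L ∧
        ∀ l ∈ L, ∃ j : ℕ, l ^ p ^ j ∈ Subgroup.centralizer (B : Set G) := by
  intro B hBn hB a ha
  have hq := quad_comm_of_elt B a ha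
  have hNtop : Subgroup.normalizer (B : Set G) = ⊤ := Subgroup.normalizer_eq_top_iff.mpr hBn
  have haN : a ∈ Subgroup.normalizer (B : Set G) := by rw [hNtop]; exact Subgroup.mem_top a
  have h1 := h B hB a haN hq
  refine ⟨((pCore p (↥(Subgroup.normalizer (B : Set G)) ⧸
      (Subgroup.centralizer (B : Set G)).subgroupOf (Subgroup.normalizer (B : Set G)))).comap
        (QuotientGroup.mk' ((Subgroup.centralizer (B : Set G)).subgroupOf
          (Subgroup.normalizer (B : Set G))))).map (Subgroup.normalizer (B : Set G)).subtype,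
    ?_, ?_, ?_⟩
  · constructor
    rintro _ ⟨n, hn, rfl⟩ g
    have hgN : g ∈ Subgroup.normalizer (B : Set G) := by rw [hNtop]; exact Subgroup.mem_top g
    have hnorm : ((pCore p (↥(Subgroup.normalizer (B : Set G)) ⧸
      (Subgroup.centralizer (B : Set G)).subgroupOf (Subgroup.normalizer (B : Set G)))).comap
        (QuotientGroup.mk' ((Subgroup.centralizer (B : Set G)).subgroupOf
          (Subgroup.normalizer (B : Set G))))).Normal := Subgroup.Normal.comap inferInstance _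
    exact ⟨⟨g, hgN⟩ * n * ⟨g, hgN⟩⁻¹, hnorm.conj_mem n hn ⟨g, hgN⟩, rfl⟩
  · exact ⟨⟨a, haN⟩, h1, rfl⟩
  · rintro _ ⟨n, hn, rfl⟩
    have hn' : QuotientGroup.mk' ((Subgroup.centralizer (B : Set G)).subgroupOf
          (Subgroup.normalizer (B : Set G))) n ∈ pCore p (↥(Subgroup.normalizer (B : Set G)) ⧸
      (Subgroup.centralizer (B : Set G)).subgroupOf (Subgroup.normalizer (B : Set G))) := hn
    obtain ⟨j, hj⟩ := (Cfsg.Agent.Lib.Helper14.pCore_isPGroup (p := p)
      (G := ↥(Subgroup.normalizer (B : Set G)) ⧸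
      (Subgroup.centralizer (B : Set G)).subgroupOf (Subgroup.normalizer (B : Set G)))) ⟨_, hn'⟩
    have hj' : (QuotientGroup.mk' ((Subgroup.centralizer (B : Set G)).subgroupOf
          (Subgroup.normalizer (B : Set G))) n) ^ p ^ j = 1 := congrArg Subtype.val hj
    rw [← map_pow] at hj'
    have h2 := Cfsg.Agent.Lib.Helper26.mem_of_mk'_eq_one _ hj'
    refine ⟨j, ?_⟩
    exact Subgroup.mem_subgroupOf.mp h2

/-- the stability hypothesis of `zj_general`, for groups with abelian Sylow `2`-subgroups. -/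
theorem hst_of_abSyl {p : ℕ} [Fact p.Prime] (hp2 : p ≠ 2) [Finite G]
    (hab : Cfsg.Agent.S0626.AbSyl G) :
    ∀ B : Subgroup G, B.Normal → IsPGroup p B → ∀ a : G,
      (∀ v ∈ B, a * ⁅a, v⁆ = ⁅a, v⁆ * a) →
      ∃ L : Subgroup G, L.Normal ∧ a ∈ L ∧
        ∀ l ∈ L, ∃ j : ℕ, l ^ p ^ j ∈ Subgroup.centralizer (B : Set G) := by
  intro B hBn hB a ha
  have := hBn
  exact Cfsg.Agent.Lib.Helper26.pIn_of_quadratic_of_class Cfsg.Agent.S0626.abSyl_quot
    (Cfsg.Agent.S0626.abSyl_key hp2) _ G rfl hab B hB a (quad_comm_of_elt B a ha)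

/-- **Glauberman's ZJ-theorem** for strongly closed `D`: `Z(J(D))` (abelian version) and
`Ω₁(Z(J_e(D)))` are normal. -/
theorem zj_normal {p : ℕ} [Fact p.Prime] (hp2 : p ≠ 2) [Finite G]
    (P : Sylow p G) (D : Subgroup G) (hD : IsStronglyClosed D (P : Subgroup G))
    (hst : ∀ B : Subgroup G, B.Normal → IsPGroup p B → ∀ a : G,
      (∀ v ∈ B, a * ⁅a, v⁆ = ⁅a, v⁆ * a) →
      ∃ L : Subgroup G, L.Normal ∧ a ∈ L ∧
        ∀ l ∈ L, ∃ j : ℕ, l ^ p ^ j ∈ Subgroup.centralizer (B : Set G))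
    (hc : Subgroup.centralizer (pCore p G : Set G) ≤ pCore p G) :
    (centerThompsonAOf D).Normal ∧ (centerThompsonOf p D).Normal ∧
      (omegaOne p (centerThompsonOf p D)).Normal := by
  have h1 : (centerThompsonAOf D).Normal := by
    rw [centerThompsonAOf_eq_ZT]
    exact ZT_normal_of_conj (zj_general hp2 (tp_true p) P D hD hst hc)
  have h2 : (centerThompsonOf p D).Normal := by
    rw [centerThompsonOf_eq_ZT]
    exact ZT_normal_of_conj (zj_general hp2 (tp_pow hp2) P D hD hst hc)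
  exact ⟨h1, h2, Cfsg.Agent.Lib.Helper14.omegaOne_normal _⟩

end providers

end Cfsg.Agent.Lib.Helper3.ZJ
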