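import Mathlib
import Cfsg.Prelude.Def_PLocal
import Cfsg.Prelude.Def_LocalEven
import Cfsg.Prelude.Def_Transfer
import Cfsg.Agent.Lib.Helper3.ZJ5
import Cfsg.Agent.Lib.Helper26.FunctorMin
import Cfsg.Agent.S0659

/-!
# The Glauberman–Thompson normal `p`-complement criterion for strongly closed subgroups

`sc_npc`: for a "functor" `WD` on subgroups, compatible with homomorphisms injective on the
subgroup, such that `WD D` is normal in every group with abelian Sylow `2`-subgroups and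
`C(O_p) ≤ O_p` whenever `D` is strongly closed in a Sylow `p`-subgroup: if `N_G(WD D)` has a
normal `p`-complement then so does `G` (`p` odd).  The reduction uses the classical
Glauberman–Thompson theorem for `Z(J(P))` (`S0659`).
-/

set_option autoImplicit false

namespace Cfsg.Agent.Lib.Helper3.ZJ

open Cfsg
open Cfsg.Agent.Lib.Helper26

universe u

section maps

variable {p : ℕ} {X X' : Type u} [Group X] [Group X']

theorem ctO_map (f : X →* X') (D : Subgroup X) (hf : ∀ u ∈ D, f u = 1 → u = 1) :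
    centerThompsonOf p (D.map f) = (centerThompsonOf p D).map f := by
  have h1 : thompsonSubgroupOf p (D.map f) = (thompsonSubgroupOf p D).map f :=
    thompsonOf_map f D hf
  have h2 := Cfsg.Agent.Lib.Helper2.Zc_map (P := thompsonSubgroupOf p D) f
    (fun x hx h => hf x (Subgroup.map_subtype_le _ hx) h)
  show Cfsg.Agent.Lib.Helper2.Zc (thompsonSubgroupOf p (D.map f)) =
    (Cfsg.Agent.Lib.Helper2.Zc (thompsonSubgroupOf p D)).map f
  rw [h1, h2]

theorem ctA_map (f : X →* X') (D : Subgroup X) (hf : ∀ u ∈ D, f u = 1 → u = 1) :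
    centerThompsonAOf (D.map f) = (centerThompsonAOf D).map f := by
  have h1 : thompsonSubgroupAOf (D.map f) = (thompsonSubgroupAOf D).map f := by
    rw [Cfsg.Agent.Lib.Helper2.thompsonSubgroupAOf_eq_JJ,
      Cfsg.Agent.Lib.Helper2.thompsonSubgroupAOf_eq_JJ, Cfsg.Agent.Lib.Helper2.JJ_map f hf]
  have h2 := Cfsg.Agent.Lib.Helper2.Zc_map (P := thompsonSubgroupAOf D) f
    (fun x hx h => hf x (Subgroup.map_subtype_le _ hx) h)
  show Cfsg.Agent.Lib.Helper2.Zc (thompsonSubgroupAOf (D.map f)) =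
    (Cfsg.Agent.Lib.Helper2.Zc (thompsonSubgroupAOf D)).map f
  rw [h1, h2]

theorem omegaOne_map_of_injOn (f : X →* X') (H : Subgroup X) (hf : ∀ u ∈ H, f u = 1 → u = 1) :
    omegaOne p (H.map f) = (omegaOne p H).map f := by
  apply le_antisymm _ (Cfsg.Agent.Lib.Helper14.omegaOne_map_le f H)
  unfold omegaOne
  rw [MonoidHom.map_closure]
  apply Subgroup.closure_mono
  rintro _ ⟨⟨x, hx, rfl⟩, hy⟩
  refine ⟨x, ⟨hx, ?_⟩, rfl⟩
  apply hf _ (H.pow_mem hx p)
  rw [map_pow]; exact hy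

theorem ctO_le (D : Subgroup X) : centerThompsonOf p D ≤ D :=
  inf_le_left.trans (Subgroup.map_subtype_le _)

theorem ctA_le (D : Subgroup X) : centerThompsonAOf D ≤ D :=
  inf_le_left.trans (Subgroup.map_subtype_le _)

theorem omega_ctO_map (f : X →* X') (D : Subgroup X) (hf : ∀ u ∈ D, f u = 1 → u = 1) :
    omegaOne p (centerThompsonOf p (D.map f)) = (omegaOne p (centerThompsonOf p D)).map f := by
  rw [ctO_map f D hf]
  exact omegaOne_map_of_injOn f _ (fun u hu h => hf u (ctO_le D hu) h)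

end maps

section red

variable {p : ℕ} [Fact p.Prime] {G : Type u} [Group G] [Finite G]

/-- a `p`-subgroup of `M ≥ P` is `M`-conjugate into the Sylow subgroup `P`. -/
theorem exists_conj_mem_sylow (P : Sylow p G) (M : Subgroup G) (hPM : (P : Subgroup G) ≤ M)
    (Q : Subgroup G) (hQ : IsPGroup p Q) (hQM : Q ≤ M) :
    ∃ m ∈ M, ∀ q ∈ Q, m * q * m⁻¹ ∈ (P : Subgroup G) := by
  have hQ' : IsPGroup p (Q.subgroupOf M) := hQ.comap_of_injective _ M.subtype_injective
  obtain ⟨R, hR⟩ := hQ'.exists_le_sylow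
  obtain ⟨m, hm⟩ := MulAction.exists_smul_eq M R (P.subtype hPM)
  refine ⟨m, m.2, fun q hq => ?_⟩
  have h1 : (⟨q, hQM hq⟩ : M) ∈ (R : Subgroup M) := hR (Subgroup.mem_subgroupOf.mpr hq)
  have h2 : m * ⟨q, hQM hq⟩ * m⁻¹ ∈ ((m • R : Sylow p M) : Subgroup M) := by
    rw [Cfsg.Agent.Lib.Helper14.sylow_smul_coe_eq_map]
    exact ⟨_, h1, rfl⟩
  rw [hm, Sylow.coe_subtype, Subgroup.mem_subgroupOf] at h2
  exact h2

/-- strong closure passes to quotients. -/
theorem sc_map_quot (Y : Subgroup G) [Y.Normal] (P : Sylow p G) (D : Subgroup G)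
    (hD : IsStronglyClosed D (P : Subgroup G)) :
    IsStronglyClosed (D.map (QuotientGroup.mk' Y))
      ((P : Subgroup G).map (QuotientGroup.mk' Y)) := by
  refine ⟨Subgroup.map_mono hD.1, ?_⟩
  rintro _ ⟨x, hx, rfl⟩ gb hgb
  obtain ⟨g, rfl⟩ := QuotientGroup.mk'_surjective Y gb
  have ht : QuotientGroup.mk' Y (g * x * g⁻¹) ∈ (P : Subgroup G).map (QuotientGroup.mk' Y) := by
    rw [map_mul, map_mul, map_inv]; exact hgb
  have hPM : (P : Subgroup G) ≤
      ((P : Subgroup G).map (QuotientGroup.mk' Y)).comap (QuotientGroup.mk' Y) :=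
    Subgroup.le_comap_map _ _
  have hQ : IsPGroup p (Subgroup.zpowers (g * x * g⁻¹)) := by
    have h1 : IsPGroup p ((Subgroup.zpowers x).map (MulAut.conj g).toMonoidHom) :=
      (P.isPGroup'.to_le (by rw [Subgroup.zpowers_le]; exact hD.1 hx)).map _
    rw [MonoidHom.map_zpowers] at h1
    exact h1
  obtain ⟨m, hm, hmq⟩ := exists_conj_mem_sylow P _ hPM (Subgroup.zpowers (g * x * g⁻¹)) hQ
    (by rw [Subgroup.zpowers_le]; exact ht)
  have h1 := hmq _ (Subgroup.mem_zpowers _)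
  obtain ⟨s, hs, hsm⟩ := Subgroup.mem_map.mp (Subgroup.mem_comap.mp hm)
  have h2 : (s⁻¹ * m * g) * x * (s⁻¹ * m * g)⁻¹ ∈ (P : Subgroup G) := by
    have e : (s⁻¹ * m * g) * x * (s⁻¹ * m * g)⁻¹ = s⁻¹ * (m * (g * x * g⁻¹) * m⁻¹) * s := by
      group
    rw [e]; exact mul_mem (mul_mem (inv_mem hs) h1) hs
  have h3 := hD.2 x hx _ h2
  refine ⟨_, h3, ?_⟩
  simp only [map_mul, map_inv, hsm]
  group

variable (WD : ∀ (X : Type u) [Group X], Subgroup X → Subgroup X)

/-- reduction modulo a normal `p'`-subgroup. -/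
theorem sc_quot_step
    (hmap : ∀ (X X' : Type u) [Group X] [Group X'] (f : X →* X') (D : Subgroup X),
      (∀ u ∈ D, f u = 1 → u = 1) → WD X' (D.map f) = (WD X D).map f)
    (hle : ∀ (X : Type u) [Group X] (D : Subgroup X), WD X D ≤ D)
    (Y : Subgroup G) [Y.Normal] (hY : (Nat.card Y).Coprime p)
    (hIH : ∀ (P' : Sylow p (G ⧸ Y)) (D' : Subgroup (G ⧸ Y)),
      IsStronglyClosed D' (P' : Subgroup (G ⧸ Y)) →
      Npc p ↥(Subgroup.normalizer (WD (G ⧸ Y) D' : Set (G ⧸ Y))) → Npc p (G ⧸ Y))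
    (P : Sylow p G) (D : Subgroup G) (hD : IsStronglyClosed D (P : Subgroup G))
    (hJ : Npc p ↥(Subgroup.normalizer (WD G D : Set G))) : Npc p G := by
  have hπ := QuotientGroup.mk'_surjective Y
  have hinjD : ∀ u ∈ D, QuotientGroup.mk' Y u = 1 → u = 1 := by
    intro u hu hu1
    have huY : u ∈ Y := mem_of_mk'_eq_one Y hu1
    exact eq_one_of_mem_pgroup_of_coprime P.isPGroup' (hD.1 hu)
      (Nat.Coprime.coprime_dvd_left (Subgroup.orderOf_dvd_natCard Y huY) hY)
  have hcoe : ((P.mapSurjective hπ : Sylow p (G ⧸ Y)) : Subgroup (G ⧸ Y)) =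
      (P : Subgroup G).map (QuotientGroup.mk' Y) := Sylow.coe_mapSurjective hπ P
  have hJeq : WD (G ⧸ Y) (D.map (QuotientGroup.mk' Y)) = (WD G D).map (QuotientGroup.mk' Y) :=
    hmap G (G ⧸ Y) _ D hinjD
  apply Npc.of_quotient Y hY
  apply hIH (P.mapSurjective hπ) (D.map (QuotientGroup.mk' Y))
    (by rw [hcoe]; exact sc_map_quot Y P D hD)
  have h1 : Npc p ↥((Subgroup.normalizer (WD G D : Set G)).map (QuotientGroup.mk' Y)) :=
    Npc.of_surjective ((QuotientGroup.mk' Y).subgroupMap _)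
      ((QuotientGroup.mk' Y).subgroupMap_surjective _) hJ
  have h2 : Subgroup.normalizer (WD (G ⧸ Y) (D.map (QuotientGroup.mk' Y)) : Set (G ⧸ Y)) ≤
      (Subgroup.normalizer (WD G D : Set G)).map (QuotientGroup.mk' Y) := by
    rw [hJeq]
    exact normalizer_map_le Y hY _ (P.isPGroup'.to_le ((hle G D).trans hD.1))
  exact Npc.of_le h2 h1

/-- passing to a subgroup containing the Sylow subgroup. -/
theorem sc_sub_step
    (hmap : ∀ (X X' : Type u) [Group X] [Group X'] (f : X →* X') (D : Subgroup X),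
      (∀ u ∈ D, f u = 1 → u = 1) → WD X' (D.map f) = (WD X D).map f)
    (P : Sylow p G) (D : Subgroup G) (hD : IsStronglyClosed D (P : Subgroup G))
    (hJ : Npc p ↥(Subgroup.normalizer (WD G D : Set G)))
    (G1 : Subgroup G) (hP : (P : Subgroup G) ≤ G1)
    (hIH : ∀ (P' : Sylow p ↥G1) (D' : Subgroup ↥G1),
      IsStronglyClosed D' (P' : Subgroup ↥G1) →
      Npc p ↥(Subgroup.normalizer (WD ↥G1 D' : Set ↥G1)) → Npc p ↥G1) : Npc p ↥G1 := by
  have hcoe : ((P.subtype hP : Sylow p G1) : Subgroup G1) = (P : Subgroup G).subgroupOf G1 :=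
    P.coe_subtype hP
  have hmapD : (D.subgroupOf G1).map G1.subtype = D :=
    Subgroup.map_subgroupOf_eq_of_le (hD.1.trans hP)
  have hJ1 : (WD ↥G1 (D.subgroupOf G1)).map G1.subtype = WD G D := by
    rw [← hmap ↥G1 G G1.subtype (D.subgroupOf G1) (fun u _ hu => Subtype.ext hu), hmapD]
  apply hIH (P.subtype hP) (D.subgroupOf G1)
  · rw [hcoe]
    refine ⟨fun x hx => Subgroup.mem_subgroupOf.mpr (hD.1 (Subgroup.mem_subgroupOf.mp hx)), ?_⟩
    intro x hx g hg
    exact Subgroup.mem_subgroupOf.mpr (hD.2 (x : G) (Subgroup.mem_subgroupOf.mp hx) (g : G)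
      (Subgroup.mem_subgroupOf.mp hg))
  · refine Npc.of_injective_mem (G1.subtype.comp (Subgroup.subtype _)) ?_ _ ?_ hJ
    · exact (Subgroup.subtype_injective _).comp (Subgroup.subtype_injective _)
    · intro a
      have h1 : G1.subtype (a : G1) ∈ (Subgroup.normalizer
          ((WD ↥G1 (D.subgroupOf G1) : Subgroup G1) : Set G1)).map G1.subtype :=
        Subgroup.mem_map_of_mem _ a.2
      have h2 := Subgroup.le_normalizer_map G1.subtype h1
      rw [hJ1] at h2
      exact h2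

omit WD in
/-- Structure of the minimal configuration: `C_G(H) ≤ H` and `P` is a maximal subgroup
(adapted from helper26's `fnpc_structure`). -/
theorem sc_structure
    (hO : ∀ Y : Subgroup G, Y.Normal → (Nat.card Y).Coprime p → Y = ⊥)
    (P : Sylow p G)
    (hprop : ∀ G1 : Subgroup G, (P : Subgroup G) ≤ G1 → G1 ≠ ⊤ → Npc p ↥G1)
    (H : Subgroup G) [hHn : H.Normal] (hHP : H ≤ (P : Subgroup G))
    (hHmax : ∀ Q : Subgroup G, Q.Normal → IsPGroup p Q → Q ≤ H)
    (Kb : Subgroup (G ⧸ H)) (hKn : Kb.Normal) (hKcop : (Nat.card Kb).Coprime p) {k : ℕ}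
    (hKidx : Kb.index = p ^ k) :
    Subgroup.centralizer (H : Set G) ≤ H ∧
      ∀ G1 : Subgroup G, (P : Subgroup G) ≤ G1 → G1 ≠ ⊤ → G1 ≤ (P : Subgroup G) := by
  classical
  have hp : p.Prime := Fact.out
  have hπ := QuotientGroup.mk'_surjective H
  have hHp : IsPGroup p H := P.isPGroup'.to_le hHP
  obtain ⟨K, hKdef⟩ : ∃ K : Subgroup G, K = Kb.comap (QuotientGroup.mk' H) := ⟨_, rfl⟩
  have hKnorm : K.Normal := by rw [hKdef]; exact hKn.comap _
  have hmemK : ∀ x : G, x ∈ K ↔ QuotientGroup.mk' H x ∈ Kb := by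
    intro x; rw [hKdef]; exact Subgroup.mem_comap
  have hK5 : ∀ x : G, (orderOf x).Coprime p → x ∈ K := by
    intro x hx
    rw [hmemK, npc_mem_iff hKn hKcop hKidx]
    exact Nat.Coprime.coprime_dvd_left (orderOf_map_dvd _ x) hx
  have hK6 : ∀ x ∈ K, ∀ j : ℕ, x ^ p ^ j ∈ H → x ∈ H := by
    intro x hx j hj
    apply mem_of_mk'_eq_one
    have h1 : (QuotientGroup.mk' H x) ^ p ^ j = 1 := by
      rw [← map_pow]; exact mk'_eq_one_of_mem H hj
    have h2 : (orderOf (QuotientGroup.mk' H x)).Coprime p :=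
      Nat.Coprime.coprime_dvd_left (Subgroup.orderOf_dvd_natCard Kb ((hmemK x).mp hx)) hKcop
    exact eq_one_of_pow_of_coprime h1 h2
  -- `C_G(H) ≤ H`
  have hE : ∀ x ∈ K ⊓ Subgroup.centralizer (H : Set G), (orderOf x).Coprime p → x = 1 := by
    have hEnpc : Npc p ↥(K ⊓ Subgroup.centralizer (H : Set G)) := by
      apply npc_of_hasNPC
      have hF : Cfsg.Agent.Lib.Helper2.FrobCond
          (default : Sylow p ↥(K ⊓ Subgroup.centralizer (H : Set G))) := by
        intro Q hQ g _ _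
        rw [Subgroup.mem_centralizer_iff]
        intro q hq
        obtain ⟨j, hj⟩ := (default : Sylow p ↥(K ⊓ Subgroup.centralizer (H : Set G))).isPGroup'
          ⟨q, hQ hq⟩
        have hj' : ((q : ↥(K ⊓ Subgroup.centralizer (H : Set G))) : G) ^ p ^ j = 1 := by
          have := congrArg (fun t : (default : Sylow p ↥(K ⊓ Subgroup.centralizer (H : Set G))) =>
            (((t : ↥(K ⊓ Subgroup.centralizer (H : Set G))) : G))) hj
          simpa using this
        have hqH : (q : G) ∈ H :=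
          hK6 _ (Subgroup.mem_inf.mp q.2).1 j (by rw [hj']; exact one_mem _)
        have hgC := Subgroup.mem_centralizer_iff.mp (Subgroup.mem_inf.mp g.2).2 (q : G) hqH
        exact Subtype.ext hgC
      have hN := Cfsg.Agent.Lib.Helper2.pResidual_normal
        (G := ↥(K ⊓ Subgroup.centralizer (H : Set G))) p
      exact ⟨default, Cfsg.pResidual p _, hN,
        Cfsg.Agent.Lib.Helper2.isComplement'_pResidual_of_frobCond _ hF⟩
    obtain ⟨E0, hE0n, hE0c, hE0⟩ := Npc.exists_normal _ hEnpc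
    have hE0bot := hO E0 hE0n hE0c
    intro x hx hxo
    have h1 := hE0 x hx hxo
    rw [hE0bot, Subgroup.mem_bot] at h1
    exact h1
  have hD : Subgroup.centralizer (H : Set G) ≤ H := by
    apply hHmax _ inferInstance
    apply isPGroup_of_forall_coprime
    intro x hx hxo
    exact hE x (Subgroup.mem_inf.mpr ⟨hK5 x hxo, hx⟩) hxo
  refine ⟨hD, ?_⟩
  intro G1 hPG1 hne
  obtain ⟨N1, hN1, hcop1, k1, hk1⟩ := hprop G1 hPG1 hne
  have hN1bot : N1 = ⊥ := by
    rw [eq_bot_iff]
    intro n hn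
    have hno : (orderOf (n : G)).Coprime p := by
      rw [Subgroup.orderOf_coe]
      exact Nat.Coprime.coprime_dvd_left (Subgroup.orderOf_dvd_natCard N1 hn) hcop1
    have hnC : (n : G) ∈ Subgroup.centralizer (H : Set G) := by
      rw [Subgroup.mem_centralizer_iff]
      intro h hh
      have hcH : (n : G) * h * (n : G)⁻¹ * h⁻¹ ∈ H :=
        H.mul_mem (hHn.conj_mem h hh _) (H.inv_mem hh)
      have hcN : n * ⟨h, hPG1 (hHP hh)⟩ * n⁻¹ * (⟨h, hPG1 (hHP hh)⟩ : G1)⁻¹ ∈ N1 := by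
        have h1 : (⟨h, hPG1 (hHP hh)⟩ : G1) * n⁻¹ * (⟨h, hPG1 (hHP hh)⟩ : G1)⁻¹ ∈ N1 :=
          hN1.conj_mem _ (N1.inv_mem hn) _
        have h2 := N1.mul_mem hn h1
        have e : n * ⟨h, hPG1 (hHP hh)⟩ * n⁻¹ * (⟨h, hPG1 (hHP hh)⟩ : G1)⁻¹ =
            n * ((⟨h, hPG1 (hHP hh)⟩ : G1) * n⁻¹ * (⟨h, hPG1 (hHP hh)⟩ : G1)⁻¹) := by group
        rw [e]; exact h2
      have hco : (orderOf ((n : G) * h * (n : G)⁻¹ * h⁻¹)).Coprime p := by
        have h3 := Subgroup.orderOf_dvd_natCard N1 hcN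
        rw [← Subgroup.orderOf_coe] at h3
        have e : ((n * ⟨h, hPG1 (hHP hh)⟩ * n⁻¹ * (⟨h, hPG1 (hHP hh)⟩ : G1)⁻¹ : G1) : G) =
            (n : G) * h * (n : G)⁻¹ * h⁻¹ := rfl
        rw [e] at h3
        exact Nat.Coprime.coprime_dvd_left h3 hcop1
      have h4 := eq_one_of_mem_pgroup_of_coprime hHp hcH hco
      calc h * (n : G) = ((n : G) * h * (n : G)⁻¹ * h⁻¹)⁻¹ * ((n : G) * h) := by group
        _ = (n : G) * h := by rw [h4, inv_one, one_mul]
    have h5 := eq_one_of_mem_pgroup_of_coprime hHp (hD hnC) hno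
    rw [Subgroup.mem_bot]
    exact Subtype.ext h5
  rw [hN1bot, Subgroup.index_bot] at hk1
  have hG1p : IsPGroup p ↥G1 := IsPGroup.of_card hk1
  exact (P.is_maximal' hG1p hPG1).le

omit [Finite G] in
/-- the classical Glauberman–Thompson theorem (`S0659`) in the `FunctorIH` form. -/
theorem functorIH_zjA (hp2 : p ≠ 2) (n : ℕ) : FunctorIH.{u} p @zjA (fun _ _ => True) n := by
  intro G' _ _ _ _ P' hJ'
  rw [ind_zjA] at hJ'
  exact npc_of_hasNPC (Cfsg.Agent.S0659.result hp2 P' (hasNPC_of_npc hJ'))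

omit [Finite G] in
/-- **Glauberman–Thompson for strongly closed subgroups**, generic form. -/
theorem sc_npc (hp2 : p ≠ 2)
    (hmap : ∀ (X X' : Type u) [Group X] [Group X'] (f : X →* X') (D : Subgroup X),
      (∀ u ∈ D, f u = 1 → u = 1) → WD X' (D.map f) = (WD X D).map f)
    (hle : ∀ (X : Type u) [Group X] (D : Subgroup X), WD X D ≤ D)
    (hloc : ∀ (X : Type u) [Group X] [Finite X] (P : Sylow p X) (D : Subgroup X),
      IsStronglyClosed D (P : Subgroup X) → Cfsg.Agent.S0626.AbSyl X →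
      Subgroup.centralizer (pCore p X : Set X) ≤ pCore p X → (WD X D).Normal) :
    ∀ (n : ℕ) (G : Type u) [Group G] [Finite G], Nat.card G = n →
      ∀ (P : Sylow p G) (D : Subgroup G), IsStronglyClosed D (P : Subgroup G) →
        Npc p ↥(Subgroup.normalizer (WD G D : Set G)) → Npc p G := by
  intro n
  induction n using Nat.strong_induction_on with
  | _ n ih =>
  intro G _ _ hn P D hD hJ
  classical
  have hp : p.Prime := Fact.out
  by_cases hO : ∀ Y : Subgroup G, Y.Normal → (Nat.card Y).Coprime p → Y = ⊥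
  swap
  · simp only [not_forall] at hO
    obtain ⟨Y, hYn, hYc, hY1⟩ := hO
    have : Y.Normal := hYn
    have hlt : Nat.card (G ⧸ Y) < Nat.card G := by
      rw [← Subgroup.index_eq_card, ← Y.card_mul_index]
      have h1 : 1 < Nat.card Y := (Subgroup.one_lt_card_iff_ne_bot Y).mpr hY1
      have h2 : 0 < Y.index := Nat.pos_of_ne_zero Subgroup.index_ne_zero_of_finite
      nlinarith
    exact sc_quot_step WD hmap hle Y hYc
      (fun P' D' hD' hJ' => ih (Nat.card (G ⧸ Y)) (hn ▸ hlt) (G ⧸ Y) rfl P' D' hD' hJ') P D hD hJ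
  have hprop : ∀ G1 : Subgroup G, (P : Subgroup G) ≤ G1 → G1 ≠ ⊤ → Npc p ↥G1 := by
    intro G1 hPG1 hne
    have hcard : Nat.card G1 < Nat.card G := by
      refine lt_of_le_of_ne (Subgroup.card_le_card_group G1) ?_
      intro h
      exact hne (Subgroup.eq_top_of_card_eq G1 h)
    exact sc_sub_step WD hmap P D hD hJ G1 hPG1
      (fun P' D' hD' hJ' => ih (Nat.card G1) (hn ▸ hcard) G1 rfl P' D' hD' hJ')
  by_contra hGn
  -- `Z(J(P))` is normal
  have hZn : (centerThompsonAOf (P : Subgroup G)).Normal := by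
    by_contra hnn
    have hne : Subgroup.normalizer (centerThompsonAOf (P : Subgroup G) : Set G) ≠ ⊤ :=
      fun h => hnn (Subgroup.normalizer_eq_top_iff.mp h)
    have hPle : (P : Subgroup G) ≤
        Subgroup.normalizer (centerThompsonAOf (P : Subgroup G) : Set G) := by
      have := normalizer_le_normalizer_ind (zjA_char p) (X := G) P.isPGroup'
      rw [ind_zjA] at this
      exact Subgroup.le_normalizer.trans this
    have h1 := hprop _ hPle hne
    exact hGn (npc_of_hasNPC (Cfsg.Agent.S0659.result hp2 P (hasNPC_of_npc h1)))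
  obtain ⟨Q, hQdef⟩ : ∃ Q : Subgroup G, Q = pCore p G := ⟨_, rfl⟩
  have hQn : Q.Normal := by rw [hQdef]; infer_instance
  have hQP : Q ≤ (P : Subgroup G) := by
    rw [hQdef]; exact Cfsg.Agent.Lib.Helper14.pCore_le_sylow P
  have hHmax : ∀ Q' : Subgroup G, Q'.Normal → IsPGroup p Q' → Q' ≤ Q := by
    intro Q' hQ'n hQ'p
    rw [hQdef]; exact Cfsg.Agent.Lib.Helper14.le_pCore hQ'n hQ'p
  have hQ1 : Q ≠ ⊥ := by
    intro hbot
    have hZ1 : centerThompsonAOf (P : Subgroup G) = ⊥ :=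
      le_bot_iff.mp (hbot ▸ hHmax _ hZn (P.isPGroup'.to_le (ctA_le _)))
    have hP1 : (P : Subgroup G) = ⊥ := by
      by_contra hP1
      have := ind_ne_bot (zjA_char p) (X := G) P.isPGroup' hP1
      rw [ind_zjA] at this
      exact this hZ1
    apply hGn
    refine ⟨⊤, inferInstance, ?_, 0, by rw [Subgroup.index_top, pow_zero]⟩
    rw [Subgroup.card_top]
    have h1 := P.not_dvd_index
    rw [hP1, Subgroup.index_bot] at h1
    exact ((Nat.Prime.coprime_iff_not_dvd hp).mpr h1).symm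
  have hbig : ∀ Q' : Subgroup G, IsPGroup p Q' → Q < Q' →
      (P : Subgroup G) ≤ Subgroup.normalizer (Q' : Set G) →
      Npc p ↥(Subgroup.normalizer (Q' : Set G)) := by
    intro Q' hQ'p hlt hPQ'
    apply hprop _ hPQ'
    intro htop
    exact (not_le_of_gt hlt) (hHmax Q' (Subgroup.normalizer_eq_top_iff.mp htop) hQ'p)
  obtain ⟨Kb, hKn, hKcop, k, hKidx⟩ :=
    fnpc_quotient_of_big (zjA_char p) (functorIH_zjA hp2 (Nat.card G)) P Q trivial hQP hQ1 hbig
  obtain ⟨hC, hPmax⟩ := sc_structure hO P hprop Q hQP hHmax Kb hKn hKcop hKidx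
  have hab : Cfsg.Agent.S0626.AbSyl G := abSyl_of_min hp2 P hPmax Q hQP Kb hKn hKcop hKidx
  have hnorm : (WD G D).Normal := hloc G P D hD hab (by rw [← hQdef]; exact hC)
  exact hGn (npc_top_iff.mp (Npc.of_eq (Subgroup.normalizer_eq_top_iff.mpr hnorm).symm hJ))

omit WD in
/-- Glauberman–Thompson for `Z(J(D))`, abelian version, `D` strongly closed. -/
theorem sc_npc_ctA (hp2 : p ≠ 2) (P : Sylow p G) (D : Subgroup G)
    (hD : IsStronglyClosed D (P : Subgroup G))
    (h : HasNormalPComplement p ↥(Subgroup.normalizer (centerThompsonAOf D : Set G))) :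
    HasNormalPComplement p G :=
  hasNPC_of_npc (sc_npc (fun _ _ D => centerThompsonAOf D) hp2
    (fun _ _ _ _ f D hf => ctA_map f D hf) (fun _ _ D => ctA_le D)
    (fun _ _ _ P D hD hab hc => (zj_normal hp2 P D hD (hst_of_abSyl hp2 hab) hc).1)
    _ G rfl P D hD (npc_of_hasNPC h))

omit WD in
/-- Glauberman–Thompson for `Z(J_e(D))`, `D` strongly closed. -/
theorem sc_npc_ctO (hp2 : p ≠ 2) (P : Sylow p G) (D : Subgroup G)
    (hD : IsStronglyClosed D (P : Subgroup G))
    (h : HasNormalPComplement p ↥(Subgroup.normalizer (centerThompsonOf p D : Set G))) :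
    HasNormalPComplement p G :=
  hasNPC_of_npc (sc_npc (fun _ _ D => centerThompsonOf p D) hp2
    (fun _ _ _ _ f D hf => ctO_map f D hf) (fun _ _ D => ctO_le D)
    (fun _ _ _ P D hD hab hc => (zj_normal hp2 P D hD (hst_of_abSyl hp2 hab) hc).2.1)
    _ G rfl P D hD (npc_of_hasNPC h))

omit WD in
/-- Glauberman–Thompson for `Ω₁(Z(J_e(D)))`, `D` strongly closed. -/
theorem sc_npc_omega (hp2 : p ≠ 2) (P : Sylow p G) (D : Subgroup G)
    (hD : IsStronglyClosed D (P : Subgroup G))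
    (h : HasNormalPComplement p
      ↥(Subgroup.normalizer (omegaOne p (centerThompsonOf p D) : Set G))) :
    HasNormalPComplement p G :=
  hasNPC_of_npc (sc_npc (fun _ _ D => omegaOne p (centerThompsonOf p D)) hp2
    (fun _ _ _ _ f D hf => omega_ctO_map f D hf)
    (fun _ _ D => (Cfsg.Agent.Lib.Helper14.omegaOne_le _).trans (ctO_le D))
    (fun _ _ _ P D hD hab hc => (zj_normal hp2 P D hD (hst_of_abSyl hp2 hab) hc).2.2)
    _ G rfl P D hD (npc_of_hasNPC h))

end red

end Cfsg.Agent.Lib.Helper3.ZJ
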