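import Mathlib
import Cfsg.Agent.Lib.Helper3.ZJ6
import Cfsg.Agent.Lib.Helper15.QuadSL2b
import Cfsg.Agent.Lib.Helper42.Sec4

/-!
# `Z(J_e(P))` controls strong fusion in groups without `SL₂(p)` sections
-/

set_option autoImplicit false

namespace Cfsg.Agent.Lib.Helper3.ZJ

open Cfsg
open Cfsg.Agent.Lib.Helper26
open Cfsg.Agent.Lib.Helper42
open scoped commutatorElement

universe u

section zjE

/-- `Z(J_e(Q))` (elementary abelian version of the Thompson subgroup) as a functor on groups. -/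
def zjE (p : ℕ) (Q : Type u) [Group Q] : Subgroup Q := centerThompsonOf p (⊤ : Subgroup Q)

theorem zjE_char (p : ℕ) [Fact p.Prime] : IsCharPFunctor.{u} p (zjE p) := by
  refine ⟨?_, ?_⟩
  · intro Q _ _ hQ hnt
    have h1 : (⊤ : Subgroup Q) ≠ ⊥ := top_ne_bot
    have h2 : thompsonSubgroupOf p (⊤ : Subgroup Q) ≠ ⊥ :=
      thompsonOf_ne_bot (hQ.to_subgroup _) h1
    exact Cfsg.Agent.Lib.Helper2.Zc_ne_bot _ (hQ.to_subgroup _) h2
  · intro Q R _ _ _ _ φ
    unfold zjE
    rw [← ctO_map φ.toMonoidHom ⊤ (fun x _ hx => φ.injective (by rw [map_one]; exact hx)),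
      Subgroup.map_top_of_surjective _ φ.surjective]

theorem ind_zjE (p : ℕ) {X : Type u} [Group X] (U : Subgroup X) :
    inducedFunctor (zjE p) U = centerThompsonOf p U := by
  unfold inducedFunctor zjE
  rw [← ctO_map U.subtype ⊤ (fun x _ hx => Subtype.ext hx), ← MonoidHom.range_eq_map,
    Subgroup.range_subtype]

end zjE

section sl2

/-- no section isomorphic to `SL₂(p)` -/
def SL2Free (p : ℕ) (X : Type u) [Group X] : Prop :=
  ¬ ∃ (H K : Subgroup X) (_ : (K.subgroupOf H).Normal),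
    Nonempty ((H ⧸ K.subgroupOf H) ≃* Matrix.SpecialLinearGroup (Fin 2) (ZMod p))

theorem sl2Free_of_isSec {p : ℕ} {Z G : Type u} [Group Z] [Group G] (h : IsSec Z G)
    (hG : SL2Free p G) : SL2Free p Z := by
  rintro ⟨H, K, hK, ⟨e⟩⟩
  have h1 : IsSec (↥H ⧸ K.subgroupOf H) G :=
    ((isSec_quotient _).trans (isSec_subgroup H)).trans h
  obtain ⟨K', R', hR', ⟨e'⟩⟩ := h1.exists_concrete
  exact hG ⟨K', R', hR', ⟨e'.trans e⟩⟩

/-- the stability hypothesis of `zj_general` for groups without `SL₂(p)` sections. -/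
theorem hst_of_sl2Free {p : ℕ} [Fact p.Prime] (hp2 : p ≠ 2) {X : Type u} [Group X] [Finite X]
    (h : SL2Free p X) :
    ∀ B : Subgroup X, B.Normal → IsPGroup p B → ∀ a : X,
      (∀ v ∈ B, a * ⁅a, v⁆ = ⁅a, v⁆ * a) →
      ∃ L : Subgroup X, L.Normal ∧ a ∈ L ∧
        ∀ l ∈ L, ∃ j : ℕ, l ^ p ^ j ∈ Subgroup.centralizer (B : Set X) := by
  intro B hBn hB a ha
  have := hBn
  have hq := quad_comm_of_elt B a ha
  by_contra hcon
  apply h
  apply Cfsg.Agent.Lib.Helper15.quad_section_of_normal hp2 B hB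
    (Subgroup.centralizer (B : Set X)) rfl a hq
  intro hmem
  exact hcon (pIn_of_mem_pCore _ hmem)

/-- **Glauberman**: in a group without `SL₂(p)` sections (`p` odd), `N(Z(J_e(P)))` controls strong
fusion in `P`. -/
theorem zjE_controls {p : ℕ} [Fact p.Prime] (hp2 : p ≠ 2) {G : Type u} [Group G] [Finite G]
    (hfree : SL2Free p G) (P : Sylow p G) (A : Set G) (hA : A ⊆ (P : Subgroup G)) (g : G)
    (hgA : (fun a => g * a * g⁻¹) '' A ⊆ (P : Subgroup G)) :
    ∃ x ∈ Subgroup.normalizer (centerThompsonOf p (P : Subgroup G) : Set G),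
      ∀ a ∈ A, g * a * g⁻¹ = x * a * x⁻¹ := by
  have h𝓦 : ∀ W' ∈ ({zjE p} : Set (∀ (Q : Type u) [Group Q], Subgroup Q)),
      IsCharPFunctor.{u} p W' := by
    rintro W' rfl; exact zjE_char p
  have key := ctl_of_sections h𝓦 (G := G) (fun K R hR hc => by
    obtain ⟨T⟩ : Nonempty (Sylow p (↥K ⧸ R.subgroupOf K)) := inferInstance
    apply ctl_single_of_normal T
    rw [ind_zjE]
    have hfreeX : SL2Free p (↥K ⧸ R.subgroupOf K) :=
      sl2Free_of_isSec ((isSec_quotient _).trans (isSec_subgroup K)) hfree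
    exact (zj_normal hp2 T (T : Subgroup (↥K ⧸ R.subgroupOf K)) ⟨le_rfl, fun _ _ _ h => h⟩
      (hst_of_sl2Free hp2 hfreeX) hc).2.1)
  have hctl := key G (IsSec.refl G)
  obtain ⟨l, hl, hact⟩ := FC_of_familyControls (Cfsg.Agent.Lib.Helper42.fam_conj h𝓦 G) (sylow_isSylIn P) hctl A g trivial
    hA hgA
  refine ⟨l.reverse.prod, ?_, fun a ha => (hact a ha).symm⟩
  apply Subgroup.list_prod_mem
  intro s hs
  obtain ⟨_, ⟨W', hW', rfl⟩, hs'⟩ := hl.mem_steps l s (List.mem_reverse.mp hs)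
  have : W' = zjE p := hW'
  subst this
  have h2 : s ∈ Subgroup.normalizer ((inducedFunctor (zjE p) (P : Subgroup G) : Subgroup G) : Set G) :=
    hs'.2
  rw [ind_zjE] at h2
  exact h2

end sl2

end Cfsg.Agent.Lib.Helper3.ZJ
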