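import Mathlib
import Cfsg.Prelude.Def_GeometricClasses
import Cfsg.Prelude.Def_LieClassical
import Cfsg.Agent.Lib.Helper71.Asch5
import Cfsg.Agent.Lib.Helper82.ASB8UNITS
import Cfsg.Agent.Lib.Helper44.BADDefs

/-! Project BAD (helper44; sub-project of helper49's SUG = S5663), piece EMIN (seat helper3). -/

set_option autoImplicit false

namespace Cfsg.Agent.Lib.Helper44.BAD

open Matrix Cfsg.Geo Cfsg.Agent.Lib.Helper71.Asch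
open scoped Kronecker

variable {n : ℕ} {F : Type*} [Field F] [Fintype F] {q : ℕ}

theorem EMIN_inv_val (x : GL (Fin n) F) (M : Matrix (Fin n) (Fin n) F) (h : x.1 * M = 1) :
    (x⁻¹ : GL (Fin n) F).1 = M := by
  calc (x⁻¹ : GL (Fin n) F).1 = (x⁻¹ : GL (Fin n) F).1 * (x.1 * M) := by rw [h, mul_one]
    _ = ((x⁻¹ : GL (Fin n) F).1 * x.1) * M := by rw [mul_assoc]
    _ = M := by rw [Cfsg.Agent.Lib.Helper82.ASB8UNITS.inv_mul_val, one_mul]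

theorem EMIN_tmat_smul (e : Fin n ≃ Fin 3 × Fin 3) (P : GL (Fin n) F) (c c' : F) :
    tmat e P (c • (1 : Matrix (Fin 3) (Fin 3) F)) (c' • (1 : Matrix (Fin 3) (Fin 3) F)) =
      (c * c') • (1 : Matrix (Fin n) (Fin n) F) := by
  have h := Cfsg.Agent.Lib.Helper82.ASB8UNITS.tmat_one (F := F) e P
  unfold tmat at h ⊢
  rw [Matrix.smul_kronecker, Matrix.kronecker_smul, smul_smul]
  have h3 : Matrix.reindex e.symm e.symm ((c * c') • ((1 : Matrix (Fin 3) (Fin 3) F) ⊗ₖ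
      (1 : Matrix (Fin 3) (Fin 3) F))) = (c * c') • Matrix.reindex e.symm e.symm
      ((1 : Matrix (Fin 3) (Fin 3) F) ⊗ₖ (1 : Matrix (Fin 3) (Fin 3) F)) := rfl
  rw [h3, Matrix.mul_smul, Matrix.smul_mul, h]

theorem EMIN_unit (e : Fin n ≃ Fin 3 × Fin 3) (P : GL (Fin n) F)
    (g gi : Matrix (Fin 3) (Fin 3) F) (h1 : g * gi = 1) (h2 : gi * g = 1) :
    ∃ γ : GL (Fin n) F, γ.1 = tmat e P g 1 ∧ (γ⁻¹ : GL (Fin n) F).1 = tmat e P gi 1 :=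
  ⟨⟨tmat e P g 1, tmat e P gi 1,
    by rw [Cfsg.Agent.Lib.Helper82.ASB8UNITS.tmat_mul, h1, mul_one,
      Cfsg.Agent.Lib.Helper82.ASB8UNITS.tmat_one],
    by rw [Cfsg.Agent.Lib.Helper82.ASB8UNITS.tmat_mul, h2, mul_one,
      Cfsg.Agent.Lib.Helper82.ASB8UNITS.tmat_one]⟩, rfl, rfl⟩

theorem EMIN_bU_inv (g : Matrix (Fin 3) (Fin 3) F) (hg : g ∈ bU F 2) :
    ∃ gi : Matrix (Fin 3) (Fin 3) F, g * gi = 1 ∧ gi * g = 1 := by
  have h : gᵀ * g.map (fun x : F => x ^ 2) = 1 := hg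
  have h2 : (g.map (fun x : F => x ^ 2))ᵀ * g = 1 := by
    have h3 := congrArg Matrix.transpose h
    rwa [Matrix.transpose_mul, Matrix.transpose_transpose, Matrix.transpose_one] at h3
  exact ⟨_, mul_eq_one_comm.1 h2, h2⟩

/-- conjugating `tmat a b` by the element with matrix `tmat g 1`, `g` unitary, `g * a = a' * g` -/
theorem EMIN_conj (e : Fin n ≃ Fin 3 × Fin 3) (P : GL (Fin n) F) (H' L' : Subgroup (GL (Fin n) F))
    (hH1 : ∀ g : GL (Fin n) F, ∀ a ∈ bU F 2, g.1 = tmat e P a 1 → g ∈ H')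
    (hN : Nrm H' L') (x : GL (Fin n) F) (hx : x ∈ L') (a a' b g : Matrix (Fin 3) (Fin 3) F)
    (hxa : x.1 = tmat e P a b) (hg : g ∈ bU F 2) (hga : g * a = a' * g) :
    ∃ y ∈ L', y.1 = tmat e P a' b := by
  obtain ⟨gi, h1, h2⟩ := EMIN_bU_inv g hg
  obtain ⟨γ, hγ, hγi⟩ := EMIN_unit e P g gi h1 h2
  refine ⟨γ * x * γ⁻¹, hN γ (hH1 γ g hg hγ) x hx, ?_⟩
  rw [Units.val_mul, Units.val_mul, hγ, hγi, hxa, Cfsg.Agent.Lib.Helper82.ASB8UNITS.tmat_mul,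
    Cfsg.Agent.Lib.Helper82.ASB8UNITS.tmat_mul, hga, mul_assoc, h1, mul_one, one_mul, mul_one]

/-- EMIN: `E` is a minimal non-scalar subgroup normalised by `H'`. -/
theorem EMIN (e : Fin n ≃ Fin 3 × Fin 3) (P : GL (Fin n) F) (E H' : Subgroup (GL (Fin n) F))
    (hE : EIs e P E) (hS : SMULp F) (haux : SAUXp F) (htr : STRANSp F)
    (hH1 : ∀ g : GL (Fin n) F, ∀ a ∈ bU F 2, g.1 = tmat e P a 1 → g ∈ H')
    (s : GL (Fin n) F) (hs : s ∈ H')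
    (hsw : ∀ a b : Matrix (Fin 3) (Fin 3) F, s.1 * tmat e P a b = tmat e P b a * s.1)
    (L' : Subgroup (GL (Fin n) F)) (hL' : L' ≤ E) (hN : Nrm H' L') :
    L' ≤ scalars (Fin n) F ∨ L' = E := by
  classical
  by_cases hsc : L' ≤ scalars (Fin n) F
  · exact Or.inl hsc
  right
  obtain ⟨hS1, hSmul, hSinv⟩ := hS
  obtain ⟨-, hsq, hprod⟩ := haux
  -- conjugation by `s`
  have hswap : ∀ y ∈ L', ∀ a b : Matrix (Fin 3) (Fin 3) F, y.1 = tmat e P a b →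
      ∃ y' ∈ L', y'.1 = tmat e P b a := by
    intro y hy a b hyab
    refine ⟨s * y * s⁻¹, hN s hs y hy, ?_⟩
    rw [Units.val_mul, Units.val_mul, hyab, hsw, mul_assoc,
      Cfsg.Agent.Lib.Helper82.ASB8UNITS.mul_inv_val, mul_one]
  -- a non-scalar element of `L'`
  obtain ⟨x, hxL, hxs⟩ : ∃ x ∈ L', x ∉ scalars (Fin n) F := by
    by_contra hcon
    apply hsc
    intro x hx
    by_contra hx2
    exact hcon ⟨x, hx, hx2⟩
  obtain ⟨a, ha, b, hb, hxab⟩ := (hE x).1 (hL' hxL)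
  -- scalars in `bS` are nonzero
  have hne : ∀ M ∈ bS F, ∀ c : F, M = c • (1 : Matrix (Fin 3) (Fin 3) F) → c ≠ 0 := by
    intro M hM c hMc hc
    obtain ⟨M', -, hMM', -⟩ := hSinv M hM
    rw [hMc, hc, zero_smul, zero_mul] at hMM'
    exact zero_ne_one hMM'
  -- wlog the first factor is not scalar
  obtain ⟨x₁, hx₁L, a₁, ha₁, b₁, hb₁, hx₁, ha₁ns⟩ : ∃ x₁ ∈ L', ∃ a₁ ∈ bS F, ∃ b₁ ∈ bS F,
      x₁.1 = tmat e P a₁ b₁ ∧ ¬ bScal a₁ := by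
    by_cases hasc : bScal a
    · have hbns : ¬ bScal b := by
        intro hbsc
        obtain ⟨c, hc⟩ := hasc
        obtain ⟨c', hc'⟩ := hbsc
        apply hxs
        rw [mem_scalars_iff]
        have hval : x.1 = (c * c') • (1 : Matrix (Fin n) (Fin n) F) := by
          rw [hxab, hc, hc', EMIN_tmat_smul]
        exact ⟨Units.mk0 (c * c') (mul_ne_zero (hne a ha c hc) (hne b hb c' hc')), hval⟩
      obtain ⟨y, hyL, hy⟩ := hswap x hxL a b hxab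
      exact ⟨y, hyL, b, hb, a, ha, hy, hbns⟩
    · exact ⟨x, hxL, a, ha, b, hb, hxab, hasc⟩
  -- step 1: `tmat a₁ 1 ∈ L'`
  obtain ⟨y₀, hy₀L, hy₀⟩ : ∃ y ∈ L', y.1 = tmat e P a₁ 1 := by
    obtain ⟨g, hg, hga⟩ := htr a₁ ha₁ (a₁ * a₁) (hSmul a₁ ha₁ a₁ ha₁) ha₁ns (hsq a₁ ha₁ ha₁ns)
    obtain ⟨y, hyL, hy⟩ := EMIN_conj e P H' L' hH1 hN x₁ hx₁L a₁ (a₁ * a₁) b₁ g hx₁ hg hga
    obtain ⟨a', -, haa', -⟩ := hSinv a₁ ha₁
    obtain ⟨b', -, hbb', -⟩ := hSinv b₁ hb₁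
    have hxi : (x₁⁻¹ : GL (Fin n) F).1 = tmat e P a' b' := by
      apply EMIN_inv_val
      rw [hx₁, Cfsg.Agent.Lib.Helper82.ASB8UNITS.tmat_mul, haa', hbb',
        Cfsg.Agent.Lib.Helper82.ASB8UNITS.tmat_one]
    refine ⟨y * x₁⁻¹, L'.mul_mem hyL (L'.inv_mem hx₁L), ?_⟩
    rw [Units.val_mul, hy, hxi, Cfsg.Agent.Lib.Helper82.ASB8UNITS.tmat_mul, mul_assoc, haa',
      mul_one, hbb']
  -- step 2: `tmat M 1 ∈ L'` for non-scalar `M ∈ bS`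
  have h2 : ∀ M ∈ bS F, ¬ bScal M → ∃ y ∈ L', y.1 = tmat e P M 1 := by
    intro M hM hMns
    obtain ⟨g, hg, hga⟩ := htr a₁ ha₁ M hM ha₁ns hMns
    exact EMIN_conj e P H' L' hH1 hN y₀ hy₀L a₁ M 1 g hy₀ hg hga
  -- step 3: `tmat s' 1 ∈ L'` for all `s' ∈ bS`
  have h3 : ∀ M ∈ bS F, ∃ y ∈ L', y.1 = tmat e P M 1 := by
    intro M hM
    obtain ⟨M₁, hM₁, M₂, hM₂, hns₁, hns₂, rfl⟩ := hprod M hM
    obtain ⟨y₁, hy₁L, hy₁⟩ := h2 M₁ hM₁ hns₁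
    obtain ⟨y₂, hy₂L, hy₂⟩ := h2 M₂ hM₂ hns₂
    refine ⟨y₁ * y₂, L'.mul_mem hy₁L hy₂L, ?_⟩
    rw [Units.val_mul, hy₁, hy₂, Cfsg.Agent.Lib.Helper82.ASB8UNITS.tmat_mul, mul_one]
  -- step 4: `tmat 1 s' ∈ L'`
  have h4 : ∀ M ∈ bS F, ∃ y ∈ L', y.1 = tmat e P 1 M := by
    intro M hM
    obtain ⟨y, hyL, hy⟩ := h3 M hM
    exact hswap y hyL M 1 hy
  -- step 5
  apply le_antisymm hL'
  intro g hg
  obtain ⟨a', ha', b', hb', hgab⟩ := (hE g).1 hg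
  obtain ⟨y₁, hy₁L, hy₁⟩ := h3 a' ha'
  obtain ⟨y₂, hy₂L, hy₂⟩ := h4 b' hb'
  have hgy : g = y₁ * y₂ := by
    apply Units.ext
    rw [Units.val_mul, hy₁, hy₂, Cfsg.Agent.Lib.Helper82.ASB8UNITS.tmat_mul, mul_one, one_mul,
      hgab]
  rw [hgy]
  exact L'.mul_mem hy₁L hy₂L

end Cfsg.Agent.Lib.Helper44.BAD
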