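import Cfsg.Agent.Lib.Helper41.BG11Kit
import Cfsg.Agent.Lib.Helper32.BG11TR
import Cfsg.Agent.Lib.Helper32.BG11T1
import Cfsg.Agent.Lib.Helper32.BG11TI
import Cfsg.Agent.Lib.Helper32.BG11NIL
import Cfsg.Agent.Lib.Helper56.BG12xPNB
import Cfsg.Agent.Lib.Helper87.BG11BSA2
import Cfsg.Agent.Lib.Helper81.BG11BSAN
import Cfsg.Agent.Lib.Lead.BG11BSBCore
import Cfsg.Agent.Lib.Helper2.BG11AB
import Cfsg.Agent.Lib.Helper3.BG11T6
import Cfsg.Agent.Lib.Helper32.BG11BETA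
import Cfsg.Agent.Lib.Helper32.BG11BU
import Cfsg.Agent.Lib.Helper15.BG11UNIQS
import Cfsg.Agent.Lib.Helper15.BG11CYC
import Cfsg.Agent.Lib.Helper2.BG11Z
import Cfsg.Agent.Lib.Helper73.BG11FIT
import Cfsg.Agent.Lib.Helper4.BG11GL2
import Cfsg.Agent.Lib.Helper3.BG11T9A
import Cfsg.Agent.Lib.Helper41.BG11T9B1
import Cfsg.Agent.Lib.Helper41.BG11T9B2
import Cfsg.Agent.Lib.Helper3.BG11NORM
import Cfsg.Agent.Lib.Helper15.BG11C3
import Cfsg.Agent.Lib.Helper3.BG11P4A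
import Cfsg.Agent.Lib.Helper12.BG11P4B
import Cfsg.Agent.Lib.Helper33.BG11S5II
import Cfsg.Agent.Lib.Helper4.BG11S5I
import Cfsg.Agent.Lib.Helper54.BG11P4C
import Cfsg.Agent.Lib.Helper3.BG11P4D
import Cfsg.Agent.Lib.Helper15.BG11T11A
import Cfsg.Agent.Lib.Helper15.BG11T11B

/-!
# B&G Section 11 and 12.3 - 12.5 (S1416, S1417): dry-run assembly of helper41's skeleton (helper3)
-/

set_option autoImplicit false

open Cfsg Cfsg.Agent.Lib.Helper32 Cfsg.Agent.Lib.Helper32.BG10 Cfsg.Agent.Lib.Helper3.BG12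
open Cfsg.Agent.Lib.Helper41.BG11

namespace Cfsg.Agent.Lib.Helper3.BG11Asm

universe u

variable {G : Type u} [Group G] [Finite G]

theorem tr (hG : IsMinSimpleOddOrder G) : PTr G := Cfsg.Agent.Lib.Helper32.BG11.tr hG

theorem t1 (hG : IsMinSimpleOddOrder G) (hTr : PTr G) : PT1 G := Cfsg.Agent.Lib.Helper32.BG11.t1 hG hTr

theorem ti (hG : IsMinSimpleOddOrder G) (hT1 : PT1 G) : PTI G := Cfsg.Agent.Lib.Helper32.BG11.ti hG hT1

theorem nil (hG : IsMinSimpleOddOrder G) (hTI : PTI G) : PNil G := Cfsg.Agent.Lib.Helper32.BG11.nil hG hTI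

theorem p0 (hG : IsMinSimpleOddOrder G) (_h14 : H14 G) : PNe G :=
  fun _ hM => Cfsg.Agent.Lib.Helper56.BG12x.sigmaCore_ne_bot hG hM

theorem bsa2 (hG : IsMinSimpleOddOrder G) (h12 : H12 G) (p : ℕ) (A P : Subgroup G) (hp : p.Prime)
    (hr : PRankLE p 2 G) (hmax : MaxEA p A) (hAc : Nat.card A = p ^ 2) (hP : IsPGroup p P)
    (hAP : A ≤ P) : IsMulCommutative ↥(P ⊓ Subgroup.centralizer (A : Set G)) :=
  Cfsg.Agent.Lib.Helper87.BG11.bsa2 hG h12 p A P hp hr hmax hAc hP hAP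

theorem bsan (hodd : Odd (Nat.card G)) (p : ℕ) (A P : Subgroup G) (hp : p.Prime)
    (hr : ¬ PRankLE p 2 G) (hmax : MaxEA p A) (hAc : Nat.card A = p ^ 2) (hP : IsPGroup p P)
    (hAP : A ≤ P) : IsMulCommutative ↥(P ⊓ Subgroup.centralizer (A : Set G)) :=
  Cfsg.Agent.Lib.Helper81.BG11.bsan hodd p A P hp hr hmax hAc hP hAP

theorem bsb : PBSB G := by
  intro p A P hp hP hAP hAe hAc hΩ hne
  exact Cfsg.Agent.Lib.Lead.BG11.bsb_core p A P hp hP hAP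
    (fun a ha b hb => congrArg Subtype.val (hAe.1.is_comm.comm ⟨a, ha⟩ ⟨b, hb⟩)) hAe.2 hAc hΩ hne

theorem ab (hG : IsMinSimpleOddOrder G) (hT1 : PT1 G) (hTI : PTI G) (hNil : PNil G) (hNe : PNe G)
    (hBSA : PBSA G) (hBSB : PBSB G) : PAb G :=
  Cfsg.Agent.Lib.Helper2.BG11.ab hG hT1 hTI hNil hNe hBSA hBSB

theorem t6 (hG : IsMinSimpleOddOrder G) (hAb : PAb G) (hTI : PTI G) : PSyl G ∧ PFpf G :=
  Cfsg.Agent.Lib.Helper3.BG11.t6 hG hAb hTI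

theorem beta (hG : IsMinSimpleOddOrder G) (h14 : H14 G) : PBeta G :=
  Cfsg.Agent.Lib.Helper32.BG11.beta hG h14

theorem bu (hG : IsMinSimpleOddOrder G) : PBU G := Cfsg.Agent.Lib.Helper32.BG11.bu hG

theorem uniqs (hG : IsMinSimpleOddOrder G) (hTr : PTr G) (hNil : PNil G) (hFpf : PFpf G)
    (hBeta : PBeta G) (hBU : PBU G) : PUniqS G :=
  Cfsg.Agent.Lib.Helper15.BG11.uniqs hG hTr hNil hFpf hBeta hBU

theorem cyc (hG : IsMinSimpleOddOrder G) (hSyl : PSyl G) (hBSA : PBSA G) : PCyc G :=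
  Cfsg.Agent.Lib.Helper15.BG11.cyc hG hSyl hBSA

theorem z : PZ G := Cfsg.Agent.Lib.Helper2.BG11.z

theorem fit (hG : IsMinSimpleOddOrder G) (hNil : PNil G) (hFpf : PFpf G) (hCyc : PCyc G)
    (hZ : PZ G) : PFit G := Cfsg.Agent.Lib.Helper73.BG11.fit hG hNil hFpf hCyc hZ

theorem gl2 : PGL2 G := Cfsg.Agent.Lib.Helper4.BG11.gl2

theorem t9a (hG : IsMinSimpleOddOrder G) (h14 : H14 G) (hSyl : PSyl G) (hCyc : PCyc G)
    (hFit : PFit G) : PSigA G := Cfsg.Agent.Lib.Helper3.BG11.t9a hG h14 hSyl hCyc hFit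

theorem t9b1 (hG : IsMinSimpleOddOrder G) (hFpf : PFpf G) (hFit : PFit G) (hCyc : PCyc G)
    (hBeta : PBeta G) : PSig1 G := Cfsg.Agent.Lib.Helper41.BG11.t9b1 hG hFpf hFit hCyc hBeta

theorem t9b2 (hG : IsMinSimpleOddOrder G) (hSyl : PSyl G) (hGL2 : PGL2 G) : PSig2 G :=
  Cfsg.Agent.Lib.Helper41.BG11.t9b2 hG hSyl hGL2

theorem norm (hG : IsMinSimpleOddOrder G) (hSyl : PSyl G) (hFit : PFit G) (hCen : PCen G) :
    PNorm G := Cfsg.Agent.Lib.Helper3.BG11.norm hG hSyl hFit hCen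

theorem c3 (hG : IsMinSimpleOddOrder G) (hNorm : PNorm G) (hUniqS : PUniqS G) (hBeta : PBeta G)
    (hBU : PBU G) : PC3 G := Cfsg.Agent.Lib.Helper15.BG11.c3 hG hNorm hUniqS hBeta hBU

theorem p4a (hG : IsMinSimpleOddOrder G) {M : Subgroup G} (hM : IsCoatom M) {p : ℕ} (hp : p.Prime)
    {A : Subgroup G} (hAM : A ≤ M) (hAe : IsElementaryAbelian p A) (hAc : Nat.card A = p ^ 2)
    (hnm : ¬ MaxEA p A) : Subgroup.centralizer (A : Set G) ≤ M ∧ ¬ Bad M p A :=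
  Cfsg.Agent.Lib.Helper3.BG11.p4a hG hM hp hAM hAe hAc hnm

theorem p4b (hG : IsMinSimpleOddOrder G) (hC3 : PC3 G) {M : Subgroup G} (hM : IsCoatom M) {p : ℕ}
    (hp : p.Prime) {A : Subgroup G} (hAM : A ≤ M) (hmax : MaxEA p A) (hAc : Nat.card A = p ^ 2)
    (hbad : Bad M p A) :
    p ∉ alpha M ∧ alphaCore M = ⊥ ∧ Group.IsNilpotent ↥(sigmaCore M) :=
  Cfsg.Agent.Lib.Helper12.BG11.p4b hG hC3 hM hp hAM hmax hAc hbad

theorem s5ii (hG : IsMinSimpleOddOrder G) (hNorm : PNorm G) (hFpf : PFpf G) (hBeta : PBeta G)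
    (hNe : PNe G) (hCyc : PCyc G) : PS5 G :=
  Cfsg.Agent.Lib.Helper33.BG11.s5ii hG hNorm hFpf hBeta hNe hCyc

theorem s5i : PS5I G := Cfsg.Agent.Lib.Helper4.BG11.s5i

theorem p4c (hG : IsMinSimpleOddOrder G) (hC3 : PC3 G) (hS5 : PS5 G) (hS5I : PS5I G)
    {M : Subgroup G} (hM : IsCoatom M) {p : ℕ} (hp : p.Prime) {A : Subgroup G} (hAM : A ≤ M)
    (hmax : MaxEA p A) (hAc : Nat.card A = p ^ 2) (hbad : Bad M p A) (hα : alphaCore M = ⊥) :
    p ∈ sigma M := Cfsg.Agent.Lib.Helper54.BG11.p4c hG hC3 hS5 hS5I hM hp hAM hmax hAc hbad hα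

theorem p4d (hG : IsMinSimpleOddOrder G) {M : Subgroup G} (hM : IsCoatom M) {p : ℕ} (hp : p.Prime)
    {A : Subgroup G} (hAM : A ≤ M) (hmax : MaxEA p A) (hAc : Nat.card A = p ^ 2)
    (hbad : Bad M p A) (hσ : p ∈ sigma M) (hnil : Group.IsNilpotent ↥(sigmaCore M)) :
    Subgroup.centralizer (A : Set G) ≤ M :=
  Cfsg.Agent.Lib.Helper3.BG11.p4d hG hM hp hAM hmax hAc hbad hσ hnil

theorem t11a (hG : IsMinSimpleOddOrder G) (hTr : PTr G) (hNil : PNil G) (hSyl : PSyl G)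
    (hBSB : PBSB G) : Cfsg.Agent.Lib.Helper15.BG11.PE1 G :=
  Cfsg.Agent.Lib.Helper15.BG11.t11a hG hTr hNil hSyl hBSB

theorem t11b (hG : IsMinSimpleOddOrder G) (h16 : H16 G) (hE1 : Cfsg.Agent.Lib.Helper15.BG11.PE1 G)
    (hTr : PTr G) (hNil : PNil G) (hFpf : PFpf G) (hNorm : PNorm G) : PE G :=
  Cfsg.Agent.Lib.Helper15.BG11.t11b hG h16 hE1 hTr hNil hFpf hNorm

/-! ## Assemblies (complete) -/

theorem bsa (hG : IsMinSimpleOddOrder G) (h12 : H12 G) : PBSA G := by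
  intro p A P hp hmax hAc hP hAP
  by_cases hr : PRankLE p 2 G
  · exact bsa2 hG h12 p A P hp hr hmax hAc hP hAP
  · exact bsan hG.1 p A P hp hr hmax hAc hP hAP

theorem cen (hSigA : PSigA G) (hSig1 : PSig1 G) (hSig2 : PSig2 G) : PCen G := by
  intro M p A A₀ hE q hq hqp hqσ Y hYM hYn hYq
  by_contra hY
  obtain ⟨B, B₀, B₁, hcfg⟩ := hSigA M p A A₀ hE q hq hqp hqσ Y hYM hYn hYq hY
  exact hSig2 M p A A₀ hE q B B₀ B₁ hcfg (hSig1 M p A A₀ hE q B B₀ B₁ hcfg)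

/-- all the level-1 statements -/
structure L1 (G : Type u) [Group G] : Prop where
  tr : PTr G
  nil : PNil G
  ne : PNe G
  bsa : PBSA G
  bsb : PBSB G
  syl : PSyl G
  fpf : PFpf G
  uniqs : PUniqS G
  beta : PBeta G
  bu : PBU G
  cyc : PCyc G
  norm : PNorm G

theorem l1_of (hG : IsMinSimpleOddOrder G) (h12 : H12 G) (h14 : H14 G) : L1 G := by
  have hTr := tr hG
  have hT1 := t1 hG hTr
  have hTI := ti hG hT1
  have hNil := nil hG hTI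
  have hNe := p0 hG h14
  have hBSA := bsa hG h12
  have hBSB : PBSB G := bsb
  have hAb := ab hG hT1 hTI hNil hNe hBSA hBSB
  obtain ⟨hSyl, hFpf⟩ := t6 hG hAb hTI
  have hBeta := beta hG h14
  have hBU := bu hG
  have hUniqS := uniqs hG hTr hNil hFpf hBeta hBU
  have hCyc := cyc hG hSyl hBSA
  have hFit := fit hG hNil hFpf hCyc z
  have hCen := cen (t9a hG h14 hSyl hCyc hFit) (t9b1 hG hFpf hFit hCyc hBeta)
    (t9b2 hG hSyl gl2)
  have hNorm := norm hG hSyl hFit hCen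
  exact ⟨hTr, hNil, hNe, hBSA, hBSB, hSyl, hFpf, hUniqS, hBeta, hBU, hCyc, hNorm⟩

omit [Finite G] in
theorem cent_le_normalizer_of_le {A A₀ : Subgroup G} (h : A₀ ≤ A) :
    Subgroup.centralizer (A : Set G) ≤ Subgroup.normalizer (A₀ : Set G) := by
  intro x hx
  rw [Subgroup.mem_normalizer_iff]
  intro y
  constructor
  · intro hy
    have h1 : y * x = x * y := (Subgroup.mem_centralizer_iff.mp hx) y (h hy)
    have h2 : x * y * x⁻¹ = y := by rw [← h1]; group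
    rw [h2]; exact hy
  · intro hy
    have h1 : x * y * x⁻¹ * x = x * (x * y * x⁻¹) :=
      (Subgroup.mem_centralizer_iff.mp hx) _ (h hy)
    have h2 : y = x * y * x⁻¹ := by
      have h3 : x * y = x * (x * y * x⁻¹) := by rw [← h1]; group
      exact mul_left_cancel h3
    rw [h2]; exact hy

/-- S1416 -/
theorem h16_of (hG : IsMinSimpleOddOrder G) (h12 : H12 G) (h14 : H14 G) : H16 G := by
  have l1 := l1_of hG h12 h14
  have hC3 := c3 hG l1.norm l1.uniqs l1.beta l1.bu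
  have hS5 := s5ii hG l1.norm l1.fpf l1.beta l1.ne l1.cyc
  intro M hM p _ A hA
  obtain ⟨hAM, hAe, hAc⟩ := hA
  have hp : p.Prime := Fact.out
  by_cases hmax : MaxEA p A
  · by_cases hbad : Bad M p A
    · obtain ⟨-, hα, hnil⟩ := p4b hG hC3 hM hp hAM hmax hAc hbad
      have hσ := p4c hG hC3 hS5 s5i hM hp hAM hmax hAc hbad hα
      exact ⟨p4d hG hM hp hAM hmax hAc hbad hσ hnil, fun _ => ⟨hσ, hα, hnil⟩⟩
    · refine ⟨?_, fun h => absurd h hbad⟩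
      unfold Bad at hbad
      push Not at hbad
      obtain ⟨A₀, hA₀, -, hN, -⟩ := hbad
      exact (cent_le_normalizer_of_le hA₀).trans hN
  · obtain ⟨h1, h2⟩ := p4a hG hM hp hAM hAe hAc hmax
    exact ⟨h1, fun h => absurd h h2⟩

/-- S1417 -/
theorem h17_of (hG : IsMinSimpleOddOrder G) (h12 : H12 G) (h14 : H14 G) : H17 G := by
  have l1 := l1_of hG h12 h14
  have h16 := h16_of hG h12 h14
  have hE := t11b hG h16 (t11a hG l1.tr l1.nil l1.syl l1.bsb) l1.tr l1.nil l1.fpf l1.norm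
  intro M hM p _ hτ A hA
  obtain ⟨hAM, hAe, hAc⟩ := hA
  have hp : p.Prime := Fact.out
  obtain ⟨-, hσ, -, -⟩ := hτ
  have h16M := h16 M hM p A ⟨hAM, hAe, hAc⟩
  have hex : ∃ A₀ : Subgroup G, A₀ ≤ A ∧ Nat.card A₀ = p ∧
      Subgroup.normalizer (A₀ : Set G) ≤ M := by
    by_contra hne
    push Not at hne
    exact hσ (h16M.2 (fun A₀ hA₀ hc hh => hne A₀ hA₀ hc hh.1)).1
  obtain ⟨A₀, hA₀, hA₀c, hN⟩ := hex
  have hExc := exc_mk hG hM hp hσ hAM hAe hAc hA₀ hA₀c hN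
  obtain ⟨hd, -, A₁, A₂, hA₁, -, hc₁, -, -, hf₁, -⟩ := l1.fpf M p A A₀ hExc
  refine ⟨l1.nil M p A A₀ hExc, ?_, l1.norm M p A A₀ hExc, hd,
    fun H hH hHM hAH => hE M p A A₀ hExc H hH hHM hAH, ⟨A₁, hA₁, hc₁, hf₁⟩⟩
  intro P
  obtain ⟨hab, hrest⟩ := l1.syl M p A A₀ hExc _ (mem_sylSet_of_sylow P)
  refine ⟨⟨⟨fun x y => ?_⟩⟩, hrest⟩
  have hx : M.subtype x.1 ∈ (P : Subgroup ↥M).map M.subtype := Subgroup.mem_map_of_mem _ x.2
  have hy : M.subtype y.1 ∈ (P : Subgroup ↥M).map M.subtype := Subgroup.mem_map_of_mem _ y.2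
  have h1 := hab.is_comm.comm ⟨_, hx⟩ ⟨_, hy⟩
  have h2 : M.subtype x.1 * M.subtype y.1 = M.subtype y.1 * M.subtype x.1 :=
    congrArg Subtype.val h1
  apply Subtype.ext
  apply M.subtype_injective
  simpa using h2

end Cfsg.Agent.Lib.Helper3.BG11Asm
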