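import Cfsg.Agent.Lib.Helper15.BG13CDefs
import Cfsg.Agent.S1414
import Cfsg.Agent.S1416
import Cfsg.Agent.S1417

/-!
# B&G Corollary 13.3(b) (row S1428, architect helper15): piece C-G1C (backup copy, helper3)
-/

set_option autoImplicit false

open Cfsg Cfsg.Agent.Lib.Helper32 Cfsg.Agent.Lib.Helper32.BG10 Cfsg.Agent.Lib.Helper3.BG12
open Cfsg.Agent.Lib.Helper3.BG13T Cfsg.Agent.Lib.Helper3.BG13 Cfsg.Agent.Lib.Helper3.BG12S

namespace Cfsg.Agent.Lib.Helper15.BG13C

universe u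

variable {G : Type u} [Group G] [Finite G]

/-- an element outside a subgroup `C` has a power of prime power order outside `C` -/
theorem g1c_exists_pelt {C : Subgroup G} {g : G} (hg : g ∉ C) :
    ∃ (t : ℕ) (_ : Fact t.Prime) (v : G), v ∈ Subgroup.zpowers g ∧
      IsPGroup t (Subgroup.zpowers v) ∧ v ∉ C := by
  by_contra hcon
  have hcon' : ∀ (t : ℕ), t.Prime → ∀ v ∈ Subgroup.zpowers g,
      IsPGroup t (Subgroup.zpowers v) → v ∈ C := by
    intro t ht v hv hvp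
    by_contra hvC
    exact hcon ⟨t, ⟨ht⟩, v, hv, hvp, hvC⟩
  have hall : ∀ t : ℕ, t.Prime → ∀ T ∈ sylSet t (Subgroup.zpowers g),
      T ≤ C ⊓ Subgroup.zpowers g := by
    intro t ht T hT v hv
    have : Fact t.Prime := ⟨ht⟩
    exact Subgroup.mem_inf.mpr ⟨hcon' t ht v (hT.1 hv)
      ((isPGroup_of_mem_sylSet hT).to_le (Subgroup.zpowers_le.mpr hv)), hT.1 hv⟩
  have hdvd : Nat.card (Subgroup.zpowers g) ∣
      Nat.card (C ⊓ Subgroup.zpowers g : Subgroup G) := by
    rw [← Nat.factorization_prime_le_iff_dvd Nat.card_pos.ne' Nat.card_pos.ne']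
    intro p hp
    have : Fact p.Prime := ⟨hp⟩
    obtain ⟨T, hT⟩ := sylSet_nonempty p (Subgroup.zpowers g)
    have h1 := Subgroup.card_dvd_of_le (hall p hp T hT)
    rw [hT.2] at h1
    exact (hp.pow_dvd_iff_le_factorization Nat.card_pos.ne').mp h1
  have heq := Subgroup.eq_of_le_of_card_ge
    (inf_le_right : C ⊓ Subgroup.zpowers g ≤ Subgroup.zpowers g)
    (Nat.le_of_dvd Nat.card_pos hdvd)
  have h2 : g ∈ C ⊓ Subgroup.zpowers g := by
    rw [heq]; exact Subgroup.mem_zpowers g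
  exact hg h2.1

theorem g1c (hCF : CycFreeStmt G) : G1cStmt G := by
  intro hG M H hM hH hMH q _ hqM hqH P Q R hQ hQc hNH hRp hRN hC0 hC0c ha hb hc
  have h14 : H14 G := fun M hM => Cfsg.Agent.S1414.result hG M hM
  have h16 : H16 G := fun M hM p _ A hA => Cfsg.Agent.S1416.result hG M hM p A hA
  have h17 : H17 G := fun M hM p _ hp A hA => Cfsg.Agent.S1417.result hG M hM p hp A hA
  have h18 := Cfsg.Agent.Lib.Helper3.BG12.h18_of hG h16 h17
  have hqp : q.Prime := Fact.out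
  set N : Subgroup G := Subgroup.normalizer (Q : Set G) with hN
  set C0 : Subgroup G := Q ⊓ Subgroup.centralizer (R : Set G) with hC0def
  have hQp : IsPGroup q Q := isPGroup_of_mem_sylSet hQ
  have hQN : Q ≤ N := Subgroup.le_normalizer
  have hC0Q : C0 ≤ Q := inf_le_left
  have hCQ : Subgroup.centralizer (Q : Set G) ≤ Subgroup.centralizer (C0 : Set G) :=
    Subgroup.centralizer_le hC0Q
  -- step 1: `N` normalizes `C0`
  have key1 : ∀ n ∈ N, ∀ c ∈ C0, n * c * n⁻¹ ∈ C0 := by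
    intro n hn c hc0
    refine Subgroup.mem_inf.mpr ⟨(Subgroup.mem_normalizer_iff.mp hn c).mp hc0.1, ?_⟩
    rw [Subgroup.mem_centralizer_iff]
    intro z hz
    have hzN : z ∈ N := hRN hz
    have hg1 : n⁻¹ * z * n * z⁻¹ ∈ N :=
      N.mul_mem (N.mul_mem (N.mul_mem (N.inv_mem hn) hzN) hn) (N.inv_mem hzN)
    have hg2 : n⁻¹ * z * n * z⁻¹ ∈ ⁅H, H⁆ := by
      have h1 := Subgroup.commutator_mem_commutator (hNH (N.inv_mem hn)) (hNH hzN)
      rw [commutatorElement_def, inv_inv] at h1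
      exact h1
    have hgc : (n⁻¹ * z * n * z⁻¹) * c = c * (n⁻¹ * z * n * z⁻¹) :=
      ((Subgroup.mem_centralizer_iff.mp (ha ⟨hg1, hg2⟩)) c hc0.1).symm
    have hzc : z * c = c * z := (Subgroup.mem_centralizer_iff.mp hc0.2) z hz
    calc z * (n * c * n⁻¹) = n * (n⁻¹ * z * n * z⁻¹) * (z * c) * n⁻¹ := by group
      _ = n * (n⁻¹ * z * n * z⁻¹) * (c * z) * n⁻¹ := by rw [hzc]
      _ = n * ((n⁻¹ * z * n * z⁻¹) * c) * z * n⁻¹ := by group
      _ = n * (c * (n⁻¹ * z * n * z⁻¹)) * z * n⁻¹ := by rw [hgc]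
      _ = n * c * n⁻¹ * z := by group
  have hNC0 : N ≤ Subgroup.normalizer (C0 : Set G) := by
    intro n hn
    rw [Subgroup.mem_normalizer_iff]
    intro c
    refine ⟨key1 n hn c, fun h => ?_⟩
    have h1 := key1 n⁻¹ (N.inv_mem hn) _ h
    have e : n⁻¹ * (n * c * n⁻¹) * n⁻¹⁻¹ = c := by group
    rwa [e] at h1
  -- step 2: some element of `N ⊓ C(P)` does not centralize `C0`
  obtain ⟨g, hgN, hgP, hgC⟩ : ∃ g, g ∈ N ∧ g ∈ Subgroup.centralizer (P : Set G) ∧
      g ∉ Subgroup.centralizer (C0 : Set G) := by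
    by_contra hcon
    have hcon' : ∀ x, x ∈ N → x ∈ Subgroup.centralizer (P : Set G) →
        x ∈ Subgroup.centralizer (C0 : Set G) := by
      intro x hx1 hx2
      by_contra hx3
      exact hcon ⟨x, hx1, hx2, hx3⟩
    have h1 : N ≤ Subgroup.centralizer (C0 : Set G) := by
      refine hc.trans (sup_le (inf_le_right.trans hCQ) ?_)
      rintro x ⟨hx1, hx2⟩
      exact hcon' x hx1 hx2
    apply hC0
    rw [eq_bot_iff, ← hb]
    intro c hc0
    refine Subgroup.mem_inf.mpr ⟨hC0Q hc0, ?_⟩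
    rw [Subgroup.mem_centralizer_iff]
    intro n hn
    exact ((Subgroup.mem_centralizer_iff.mp (h1 hn)) c hc0).symm
  -- step 3: a power of prime power order
  obtain ⟨t, ht', v, hvg, hvp, hvC⟩ := g1c_exists_pelt hgC
  have ht : t.Prime := ht'.out
  have hvN : v ∈ N := (Subgroup.zpowers_le.mpr hgN) hvg
  have hvP : v ∈ Subgroup.centralizer (P : Set G) := (Subgroup.zpowers_le.mpr hgP) hvg
  have hv1 : v ≠ 1 := by
    rintro rfl
    exact hvC (Subgroup.one_mem _)
  -- step 4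
  have htq : t ≠ q := by
    intro htq
    rw [htq] at hvp
    have h1 : IsPGroup q (Q ⊔ Subgroup.zpowers v : Subgroup G) :=
      IsPGroup.to_sup_of_normal_left' hQp hvp (Subgroup.zpowers_le.mpr hvN)
    have h2 := sylSet_eq_of_le hQ h1 le_top le_sup_left
    have hvQ : v ∈ Q := by
      rw [← h2]
      exact (le_sup_right : Subgroup.zpowers v ≤ _) (Subgroup.mem_zpowers v)
    apply hvC
    rw [Subgroup.mem_centralizer_iff]
    intro c hc0
    have h3 := hQc.is_comm.comm (⟨c, hC0Q hc0⟩ : Q) ⟨v, hvQ⟩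
    exact congrArg Subtype.val h3
  -- step 5
  have hvH' : v ∉ ⁅H, H⁆ := fun h => hvC (hCQ (ha ⟨hvN, h⟩))
  have hvH : Subgroup.zpowers v ≤ H := Subgroup.zpowers_le.mpr (hNH hvN)
  have htH : t ∉ sigma H := by
    intro h
    exact hvH' (((pgroup_le_sigmaCore hG hH h hvp hvH).trans (sigmaCore_le_comm hG hH))
      (Subgroup.mem_zpowers v))
  -- step 6
  have hr2 : PRankLE t 2 H := by
    by_contra h
    exact htH (alpha_sub_sigma hG (ut_of hG) hH ⟨ht, h⟩)
  have hr1 : PRankLE t 1 H := by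
    by_contra hr1
    have hτ : t ∈ tau2 H := ⟨ht, htH, hr2, hr1⟩
    obtain ⟨S₀, hS₀⟩ := sylSet_nonempty t H
    obtain ⟨A₀, hA₀, h1, h2⟩ := exists_elemAb2_le_sylSet hr1 hS₀
    have hnil : Group.IsNilpotent ↥(sigmaCore H) :=
      (h17 H hH t hτ A₀ ⟨hA₀.trans hS₀.1, h1, h2⟩).1
    obtain ⟨g', hg'⟩ := exists_cj_of_sigma_sigma_nilpotent hG hM hH hnil hqM hqH
    exact hMH g' hg'
  -- step 7
  obtain ⟨V, hVv, hVc⟩ := exists_card_prime_le_zpowers hvp (Subgroup.mem_zpowers v) hv1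
  have hcc := cyclic_centralizes hG h14 h17 h18 hH htH hr1 hVc hVv hvH hvp (by infer_instance)
  have hQσ : Q ≤ sigmaCore H := pgroup_le_sigmaCore hG hH hqH hQp (hQN.trans hNH)
  have hVnc : ¬ V ≤ Subgroup.centralizer (C0 : Set G) := by
    intro hV
    apply hvC
    have h1 : C0 ≤ sigmaCore H ⊓ Subgroup.centralizer (V : Set G) := by
      intro c hc0
      refine Subgroup.mem_inf.mpr ⟨hQσ (hC0Q hc0), ?_⟩
      rw [Subgroup.mem_centralizer_iff]
      intro x hx
      exact ((Subgroup.mem_centralizer_iff.mp (hV hx)) c hc0).symm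
    exact (Subgroup.centralizer_le h1) (hcc (Subgroup.mem_zpowers v))
  -- step 8
  have hVN : V ≤ N := hVv.trans (Subgroup.zpowers_le.mpr hvN)
  have hfree : FreeOn V C0 := by
    refine hCF q C0 V (hQp.to_le hC0Q) hC0c ?_ ?_ (hVN.trans hNC0) hVnc
    · rw [hVc]; exact ht
    · rw [hVc]; exact (Nat.coprime_primes ht hqp).mpr htq
  exact ⟨t, ht', V, hVN.trans hNH, hVc, htH, hr1,
    hVv.trans (Subgroup.zpowers_le.mpr hvP), hVN.trans hNC0, hfree⟩

end Cfsg.Agent.Lib.Helper15.BG13C
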