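import Cfsg.Agent.Lib.Helper15.BG13CDefs
import Cfsg.Agent.Lib.Helper8.BG10P6
import Cfsg.Agent.S1414
import Cfsg.Agent.S1416
import Cfsg.Agent.S1417

/-!
# B&G Corollary 13.3(b) (row S1428, architect helper15): piece C-RED1 (helper3)
-/

set_option autoImplicit false

open Cfsg Cfsg.Agent.Lib.Helper32 Cfsg.Agent.Lib.Helper32.BG10 Cfsg.Agent.Lib.Helper3.BG12
open Cfsg.Agent.Lib.Helper3.BG13T Cfsg.Agent.Lib.Helper3.BG13 Cfsg.Agent.Lib.Helper3.BG12S

namespace Cfsg.Agent.Lib.Helper15.BG13C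

universe u

variable {G : Type u} [Group G] [Finite G]

/-- with `r`-rank one and `r ∣ |H'|`, every subgroup of order `r` of `H` lies in `H'` -/
theorem red1_le_comm {H R : Subgroup G} {r : ℕ} [Fact r.Prime] (hr1 : PRankLE r 1 ↥H)
    (hRH : R ≤ H) (hRc : Nat.card R = r) (hd : r ∣ Nat.card ↥⁅H, H⁆) : R ≤ ⁅H, H⁆ := by
  have hrp : r.Prime := Fact.out
  have hRp : IsPGroup r R := IsPGroup.of_card (n := 1) (by rw [hRc, pow_one])
  obtain ⟨x0, hx0⟩ := exists_prime_orderOf_dvd_card' r hd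
  obtain ⟨x, hxH'⟩ := x0
  have hxo : orderOf x = r := by rw [← hx0, Subgroup.orderOf_mk]
  have hx1 : x ≠ 1 := by
    rintro rfl
    rw [orderOf_one] at hxo
    exact hrp.one_lt.ne hxo
  have hxr : x ^ r = 1 := by rw [← hxo]; exact pow_orderOf_eq_one x
  have hH'H : ⁅H, H⁆ ≤ H :=
    Subgroup.commutator_le.mpr
      (fun a ha b hb => H.mul_mem (H.mul_mem (H.mul_mem ha hb) (H.inv_mem ha)) (H.inv_mem hb))
  have hXp : IsPGroup r (Subgroup.zpowers x) :=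
    IsPGroup.of_card (n := 1) (by rw [Nat.card_zpowers, hxo, pow_one])
  obtain ⟨S', hS', hxS'⟩ := exists_sylSet_ge hXp (Subgroup.zpowers_le.mpr (hH'H hxH'))
  obtain ⟨S, hS, hRS⟩ := exists_sylSet_ge hRp hRH
  obtain ⟨h, hhH, hh⟩ := sylSet_conj hS hS'
  have hxS : x ∈ S' := hxS' (Subgroup.mem_zpowers x)
  have hS'p : IsPGroup r S' := isPGroup_of_mem_sylSet hS'
  have : Nontrivial S' := ⟨⟨⟨x, hxS⟩, 1, fun h => hx1 (congrArg Subtype.val h)⟩⟩
  have hcn : Nontrivial (Subgroup.center S') := hS'p.center_nontrivial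
  have hcp : IsPGroup r (Subgroup.center S') := hS'p.to_subgroup _
  obtain ⟨k, hk0, hk⟩ := hcp.nontrivial_iff_card.mp hcn
  have hdz : r ∣ Nat.card (Subgroup.center S') := hk ▸ dvd_pow_self _ hk0.ne'
  obtain ⟨z0, hz0⟩ := exists_prime_orderOf_dvd_card' r hdz
  obtain ⟨⟨z, hzS'⟩, hzc0⟩ := z0
  have hzo : orderOf z = r := by
    rw [← hz0, Subgroup.orderOf_mk, Subgroup.orderOf_mk]
  have hz1 : z ≠ 1 := by
    rintro rfl
    rw [orderOf_one] at hzo
    exact hrp.one_lt.ne hzo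
  have hzr : z ^ r = 1 := by rw [← hzo]; exact pow_orderOf_eq_one z
  have hzc : ∀ s ∈ S', s * z = z * s := by
    intro s hs
    have h1 := Subgroup.mem_center_iff.mp hzc0 ⟨s, hs⟩
    exact congrArg Subtype.val h1
  intro y hy
  by_cases hy1 : y = 1
  · rw [hy1]; exact Subgroup.one_mem _
  have hyr : y ^ r = 1 := by
    have h1 := pow_card_eq_one' (G := R) (x := ⟨y, hy⟩)
    rw [hRc] at h1
    exact congrArg Subtype.val h1
  have hy'S' : h * y * h⁻¹ ∈ S' := by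
    rw [← hh, mem_cj]
    have h1 : h⁻¹ * (h * y * h⁻¹) * h = y := by group
    rw [h1]; exact hRS hy
  have hy'r : (h * y * h⁻¹) ^ r = 1 := by
    rw [conj_pow, hyr]; group
  have e1 : h * y * h⁻¹ ∈ Subgroup.zpowers z :=
    Cfsg.Agent.Lib.Helper8.BG10.p6_mem_zpowers hr1 (hS'.1 hy'S') (hS'.1 hzS') (hzc _ hy'S')
      hy'r hzr hz1
  have e2 : z ∈ Subgroup.zpowers x :=
    Cfsg.Agent.Lib.Helper8.BG10.p6_mem_zpowers hr1 (hS'.1 hzS') (hS'.1 hxS) (hzc x hxS).symm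
      hzr hxr hx1
  have e3 : h * y * h⁻¹ ∈ ⁅H, H⁆ :=
    (Subgroup.zpowers_le.mpr hxH') ((Subgroup.zpowers_le.mpr e2) e1)
  have hn := le_normalizer_commutator H (H.inv_mem hhH)
  have h2 := (Subgroup.mem_normalizer_iff.mp hn (h * y * h⁻¹)).mp e3
  have e4 : h⁻¹ * (h * y * h⁻¹) * h⁻¹⁻¹ = y := by group
  rwa [e4] at h2

theorem red1 (hcrux : CruxStmt G) : Red1Stmt G := by
  intro hG M H hM hH p _ hp1 hpH P hPM hPH hPc r _ R hRM hRH hRP hRc hrM Y hYM hYH hRY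
  have h14 : H14 G := fun M hM => Cfsg.Agent.S1414.result hG M hM
  have h16 : H16 G := fun M hM p _ A hA => Cfsg.Agent.S1416.result hG M hM p A hA
  have h17 : H17 G := fun M hM p _ hp A hA => Cfsg.Agent.S1417.result hG M hM p hp A hA
  have h18 := Cfsg.Agent.Lib.Helper3.BG12.h18_of hG h16 h17
  have hrp : r.Prime := Fact.out
  have hRp : IsPGroup r R := IsPGroup.of_card (n := 1) (by rw [hRc, pow_one])
  have hcop : (Nat.card R).Coprime (Nat.card Y) := coprime_of_sigma hG hrM hRp hYM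
  have hpM : p ∉ sigma M := hp1.2.1
  by_cases hrH : r ∈ sigma H
  · have hRH' : R ≤ ⁅H, H⁆ :=
      (pgroup_le_sigmaCore hG hH hrH hRp hRH).trans (sigmaCore_le_comm hG hH)
    exact sigArg hG h14 hM hH hpH hpM hRH' hYM hYH hRY hcop
  have hr2 : PRankLE r 2 H := by
    by_contra h
    exact hrH (alpha_sub_sigma hG (ut_of hG) hH ⟨hrp, h⟩)
  by_cases hr1 : PRankLE r 1 H
  · by_cases hd : r ∣ Nat.card ↥⁅H, H⁆
    · have hRH' := red1_le_comm hr1 hRH hRc hd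
      exact sigArg hG h14 hM hH hpH hpM hRH' hYM hYH hRY hcop
    · have hrdH : r ∣ Nat.card H := by rw [← hRc]; exact Subgroup.card_dvd_of_le hRH
      have hτ : r ∈ tau1 H := ⟨hrp, hrH, hrdH, hd, hr1⟩
      have h := hcrux hG M H hM hH p hp1 hpH P hPM hPH hPc r R hRM hRH hRP hRc hrM hτ
      exact h.trans (Subgroup.centralizer_le (le_inf hYM hYH))
  · have hτ : r ∈ tau2 H := ⟨hrp, hrH, hr2, hr1⟩
    obtain ⟨A₀, hA₀E, hA₀el, hA₀c⟩ : ∃ A₀ : Subgroup G, A₀ ≤ H ∧ IsElementaryAbelian r A₀ ∧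
        Nat.card A₀ = r ^ 2 := by
      obtain ⟨Q, hQ⟩ := sylSet_nonempty r H
      obtain ⟨A₀, hA₀, h1, h2⟩ := exists_elemAb2_le_sylSet hr1 hQ
      exact ⟨A₀, hA₀.trans hQ.1, h1, h2⟩
    have hnil : Group.IsNilpotent ↥(sigmaCore H) := (h17 H hH r hτ A₀ ⟨hA₀E, hA₀el, hA₀c⟩).1
    have hdisj : ∀ q : ℕ, q.Prime → q ∈ sigma M → q ∉ sigma H := by
      intro q hq hqM hqH
      have : Fact q.Prime := ⟨hq⟩
      obtain ⟨g, hg⟩ := exists_cj_of_sigma_sigma_nilpotent hG hM hH hnil hqM hqH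
      have h1 : p ∈ sigma (cj g H) := sigma_cj hpH g
      rw [← hg] at h1
      exact hpM h1
    have hcopH : (Nat.card ↥(Y ⊔ R)).Coprime (Nat.card (sigmaCore H)) := by
      refine coprime_card_sup hRY ?_ ?_
      · refine Nat.coprime_of_dvd ?_
        intro q hq hq1 hq2
        exact hdisj q hq (mem_sigma_of_dvd_sigmaCore hq (hq1.trans (Subgroup.card_dvd_of_le hYM)))
          (mem_sigma_of_dvd_sigmaCore hq hq2)
      · exact coprime_of_sigma hG hrH hRp le_rfl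
    obtain ⟨E₁, hE₁, hWE⟩ := exists_compl_ge hG hH (sup_le hYH hRH) hcopH
    obtain ⟨A, hAE, hAel, hAc⟩ := exists_tau2_elemAb hG hH hE₁ hτ
    have hEA := (h18 H hH E₁ hE₁ r hτ A ⟨hAE, hAel, hAc⟩).1.1
    have hA1 : A ≠ ⊥ := by
      rintro rfl
      rw [Subgroup.card_bot] at hAc
      exact (Nat.one_lt_pow (by norm_num) hrp.one_lt).ne hAc
    have hAtop : A ≠ ⊤ := by
      rintro rfl
      exact hH.1 (top_le_iff.mp (hAE.trans hE₁.1))
    obtain ⟨L, hL, hNL⟩ := exists_coatom_ge (minSimple_normalizer_ne_top hG hA1 hAtop)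
    have hrL : r ∈ sigma L := mem_sigma_of_normalizer_elemAb_le hG h18 hL hAel hAc hNL
    have hWL : Y ⊔ R ≤ L := (hWE.trans hEA).trans hNL
    have hRL' : R ≤ ⁅L, L⁆ :=
      (pgroup_le_sigmaCore hG hL hrL hRp (le_sup_right.trans hWL)).trans (sigmaCore_le_comm hG hL)
    exact sigArg hG h14 hM hL hrL hrM hRL' hYM (le_sup_left.trans hWL) hRY hcop

end Cfsg.Agent.Lib.Helper15.BG13C
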