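import Mathlib
import Cfsg.Agent.Lib.Helper18.CTDefs

/-! Project CT (S4699), piece MACK4 (backup duplicate, seat helper3). -/

set_option autoImplicit false

namespace Cfsg.Agent.Lib.Helper18.CT

variable {G : Type*} [Group G] {F : Type*} [Field F] {V : Type*} [AddCommGroup V] [Module F V]

-- piece MACK4
theorem mackey [Finite G] (P : Subgroup G) (x : G) (hxP : x ∈ P) (q : ℕ) (hq : 0 < q)
    (hxq : x ^ q = 1)
    (hfree : ∀ i : ℕ, ∀ g : G, g ∉ Subgroup.normalizer (P : Set G) →
      g⁻¹ * x ^ i * g ∈ Subgroup.normalizer (P : Set G) → x ^ i = 1)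
    (hord : ∀ i : ℕ, 0 < i → i < q → x ^ i ≠ 1)
    (ρ : Representation F G V) (t : Module.End F V)
    (ht : ∀ g ∈ Subgroup.normalizer (P : Set G), ρ g * t = t * ρ g)
    (hsum : ∀ (T : Equiv.Perm (G ⧸ Subgroup.normalizer (P : Set G)))
      (S : Finset (G ⧸ Subgroup.normalizer (P : Set G)))
      (f : G ⧸ Subgroup.normalizer (P : Set G) → Module.End F V) (X Xi : Module.End F V),
      T ^ q = 1 → (∀ c ∈ S, T c ∈ S) → (∀ c ∈ S, ∀ i, 0 < i → i < q → (T ^ i) c ≠ c) →
      (∀ c, f (T c) = X * f c * Xi) → ∃ φ : Module.End F V, ∑ c ∈ S, f c = trX X Xi q φ) :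
    ∃ φ : Module.End F V,
      dN ρ (Subgroup.normalizer (P : Set G)) t = t + trX (ρ x) (ρ x⁻¹) q φ := by
  classical
  have hxN : x ∈ Subgroup.normalizer (P : Set G) := Subgroup.le_normalizer hxP
  letI : Fintype (G ⧸ Subgroup.normalizer (P : Set G)) := Fintype.ofFinite _
  have hTh_right : ∀ g m : G, m ∈ Subgroup.normalizer (P : Set G) →
      Th ρ t (g * m) = Th ρ t g := by
    intro g m hm
    unfold Th
    rw [map_mul, mul_inv_rev, map_mul]
    have h1 : ρ m * t * ρ m⁻¹ = t := by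
      rw [ht m hm, mul_assoc, ← map_mul, mul_inv_cancel, map_one, mul_one]
    calc ρ g * ρ m * t * (ρ m⁻¹ * ρ g⁻¹) = ρ g * (ρ m * t * ρ m⁻¹) * ρ g⁻¹ := by
          simp only [mul_assoc]
      _ = ρ g * t * ρ g⁻¹ := by rw [h1]
  have hTh_left : ∀ g : G, Th ρ t (x * g) = ρ x * Th ρ t g * ρ x⁻¹ := by
    intro g
    unfold Th
    rw [map_mul, mul_inv_rev, map_mul]
    simp only [mul_assoc]
  have hTh_coset : ∀ g h : G,
      (g : G ⧸ Subgroup.normalizer (P : Set G)) = h → Th ρ t g = Th ρ t h := by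
    intro g h hgh
    rw [QuotientGroup.eq] at hgh
    have h1 := hTh_right g (g⁻¹ * h) hgh
    rw [mul_inv_cancel_left] at h1
    exact h1.symm
  have hTpow : ∀ (i : ℕ) (c : G ⧸ Subgroup.normalizer (P : Set G)),
      ((MulAction.toPerm x : Equiv.Perm (G ⧸ Subgroup.normalizer (P : Set G))) ^ i) c
        = x ^ i • c := by
    intro i c
    have h1 : (MulAction.toPerm x : Equiv.Perm (G ⧸ Subgroup.normalizer (P : Set G))) ^ i
        = MulAction.toPerm (x ^ i) := by
      have h2 := map_pow (MulAction.toPermHom G (G ⧸ Subgroup.normalizer (P : Set G))) x i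
      simpa only [MulAction.toPermHom_apply] using h2.symm
    rw [h1, MulAction.toPerm_apply]
  have hTq : (MulAction.toPerm x : Equiv.Perm (G ⧸ Subgroup.normalizer (P : Set G))) ^ q = 1 := by
    ext c
    rw [hTpow, hxq, one_smul, Equiv.Perm.one_apply]
  have hbase_out : Th ρ t (Quotient.out ((1 : G) : G ⧸ Subgroup.normalizer (P : Set G))) = t := by
    have h1 := hTh_coset (Quotient.out ((1 : G) : G ⧸ Subgroup.normalizer (P : Set G))) 1
      (QuotientGroup.out_eq' _)
    rw [h1]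
    unfold Th
    rw [inv_one, map_one, one_mul, mul_one]
  have hf : ∀ c : G ⧸ Subgroup.normalizer (P : Set G),
      Th ρ t (Quotient.out
        ((MulAction.toPerm x : Equiv.Perm (G ⧸ Subgroup.normalizer (P : Set G))) c))
        = ρ x * Th ρ t (Quotient.out c) * ρ x⁻¹ := by
    intro c
    rw [← hTh_left]
    apply hTh_coset
    rw [QuotientGroup.out_eq', MulAction.toPerm_apply]
    conv_lhs => rw [← QuotientGroup.out_eq' c]
    rfl
  have hS : ∀ c ∈ (Finset.univ.erase ((1 : G) : G ⧸ Subgroup.normalizer (P : Set G))),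
      (MulAction.toPerm x : Equiv.Perm (G ⧸ Subgroup.normalizer (P : Set G))) c ∈
        (Finset.univ.erase ((1 : G) : G ⧸ Subgroup.normalizer (P : Set G))) := by
    intro c hc
    rw [Finset.mem_erase] at hc ⊢
    refine ⟨?_, Finset.mem_univ _⟩
    intro h
    apply hc.1
    rw [MulAction.toPerm_apply] at h
    have h2 : c = x⁻¹ • ((1 : G) : G ⧸ Subgroup.normalizer (P : Set G)) := by
      rw [← h, inv_smul_smul]
    rw [h2]
    show ((x⁻¹ * 1 : G) : G ⧸ Subgroup.normalizer (P : Set G)) = ((1 : G) : G ⧸ _)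
    rw [QuotientGroup.eq]
    simpa using hxN
  have hfr : ∀ c ∈ (Finset.univ.erase ((1 : G) : G ⧸ Subgroup.normalizer (P : Set G))),
      ∀ i, 0 < i → i < q →
      ((MulAction.toPerm x : Equiv.Perm (G ⧸ Subgroup.normalizer (P : Set G))) ^ i) c ≠ c := by
    intro c hc i hi hiq h
    rw [Finset.mem_erase] at hc
    rw [hTpow] at h
    obtain ⟨g, rfl⟩ := QuotientGroup.mk_surjective c
    have hgN : g ∉ Subgroup.normalizer (P : Set G) := by
      intro hg
      apply hc.1
      rw [QuotientGroup.eq]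
      simpa using hg
    have h3 : ((x ^ i * g : G) : G ⧸ Subgroup.normalizer (P : Set G)) = (g : G ⧸ _) := h
    rw [QuotientGroup.eq] at h3
    have h4 : g⁻¹ * x ^ i * g ∈ Subgroup.normalizer (P : Set G) := by
      have h5 := Subgroup.inv_mem _ h3
      have h6 : ((x ^ i * g)⁻¹ * g)⁻¹ = g⁻¹ * x ^ i * g := by group
      rw [h6] at h5
      exact h5
    exact hord i hi hiq (hfree i g hgN h4)
  obtain ⟨φ, hφ⟩ := hsum (MulAction.toPerm x)
    (Finset.univ.erase ((1 : G) : G ⧸ Subgroup.normalizer (P : Set G)))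
    (fun c => Th ρ t (Quotient.out c)) (ρ x) (ρ x⁻¹) hTq hS hfr hf
  refine ⟨φ, ?_⟩
  unfold dN
  rw [finsum_eq_sum_of_fintype, ← hφ,
    ← Finset.add_sum_erase Finset.univ _
      (Finset.mem_univ ((1 : G) : G ⧸ Subgroup.normalizer (P : Set G))), hbase_out]

end Cfsg.Agent.Lib.Helper18.CT
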