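import Cfsg.Prelude.Def_Transfer
import Cfsg.Agent.Lib.Helper3.MaxClass
import Mathlib

set_option autoImplicit false
set_option linter.unusedSectionVars false
set_option linter.unusedVariables false

namespace Cfsg.Agent.Lib.Helper3.Extra

open scoped commutatorElement

universe u v w

/-- The integer Heisenberg group, with multiplication
`(a, b, c) * (a', b', c') = (a + a' - c * b', b + b', c + c')`. -/
@[ext] structure Heis where
  a : ℤ
  b : ℤ
  c : ℤ

instance Heis.instMul : Mul Heis := ⟨fun u v => ⟨u.a + v.a - u.c * v.b, u.b + v.b, u.c + v.c⟩⟩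
instance Heis.instOne : One Heis := ⟨⟨0, 0, 0⟩⟩
instance Heis.instInv : Inv Heis := ⟨fun u => ⟨-u.a - u.c * u.b, -u.b, -u.c⟩⟩

theorem Heis.mul_a (u v : Heis) : (u * v).a = u.a + v.a - u.c * v.b := rfl
theorem Heis.mul_b (u v : Heis) : (u * v).b = u.b + v.b := rfl
theorem Heis.mul_c (u v : Heis) : (u * v).c = u.c + v.c := rfl
theorem Heis.one_a : (1 : Heis).a = 0 := rfl
theorem Heis.one_b : (1 : Heis).b = 0 := rfl
theorem Heis.one_c : (1 : Heis).c = 0 := rfl
theorem Heis.inv_a (u : Heis) : (u⁻¹).a = -u.a - u.c * u.b := rfl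
theorem Heis.inv_b (u : Heis) : (u⁻¹).b = -u.b := rfl
theorem Heis.inv_c (u : Heis) : (u⁻¹).c = -u.c := rfl

instance Heis.instGroup : Group Heis where
  mul_assoc u v w := by
    ext
    · simp only [Heis.mul_a, Heis.mul_b, Heis.mul_c]; ring
    · simp only [Heis.mul_b]; ring
    · simp only [Heis.mul_c]; ring
  one_mul u := by
    ext
    · simp only [Heis.mul_a, Heis.one_a, Heis.one_c]; ring
    · simp only [Heis.mul_b, Heis.one_b]; ring
    · simp only [Heis.mul_c, Heis.one_c]; ring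
  mul_one u := by
    ext
    · simp only [Heis.mul_a, Heis.one_a, Heis.one_b]; ring
    · simp only [Heis.mul_b, Heis.one_b]; ring
    · simp only [Heis.mul_c, Heis.one_c]; ring
  inv_mul_cancel u := by
    ext
    · simp only [Heis.mul_a, Heis.inv_a, Heis.inv_c, Heis.one_a]; ring
    · simp only [Heis.mul_b, Heis.inv_b, Heis.one_b]; ring
    · simp only [Heis.mul_c, Heis.inv_c, Heis.one_c]; ring

section hom
variable {E : Type*} [Group E]

theorem swap_zpow (x y z : E) (h : x * y = z * y * x) (hzx : z * x = x * z)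
    (hzy : z * y = y * z) (j k : ℤ) :
    y ^ k * x ^ j = z ^ (-(k * j)) * x ^ j * y ^ k := by
  have hzx' : Commute z x := hzx
  have hzy' : Commute z y := hzy
  have h1 : y * x * y⁻¹ = z⁻¹ * x := by
    have h0 : y * x = z⁻¹ * (x * y) := by rw [h]; group
    rw [h0]; group
  have h2 : y * x ^ j * y⁻¹ = z ^ (-j) * x ^ j := by
    rw [← conj_zpow, h1, (hzx'.inv_left).mul_zpow, inv_zpow']
  obtain ⟨X, hX⟩ : ∃ X : E, X = x ^ j := ⟨_, rfl⟩
  obtain ⟨w, hw⟩ : ∃ w : E, w = z ^ (-j) := ⟨_, rfl⟩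
  rw [← hX, ← hw] at h2
  have hwy : Commute w y := by rw [hw]; exact hzy'.zpow_left _
  have hwX : Commute w X := by rw [hw, hX]; exact (hzx'.zpow_left _).zpow_right _
  have h3 : X⁻¹ * y * X = w * y := by
    have h0 : y * X = w * X * y := by rw [← h2]; group
    calc X⁻¹ * y * X = X⁻¹ * (y * X) := by group
      _ = X⁻¹ * (w * X * y) := by rw [h0]
      _ = X⁻¹ * (X * w * y) := by rw [hwX.eq]
      _ = w * y := by group
  have h4 : X⁻¹ * y ^ k * X = w ^ k * y ^ k := by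
    have h0 := conj_zpow (a := X⁻¹) (b := y) (i := k)
    rw [inv_inv] at h0
    rw [← h0, h3, hwy.mul_zpow]
  have h5 : w ^ k = z ^ (-(k * j)) := by
    rw [hw, ← zpow_mul]; congr 1; ring
  rw [← hX, ← h5]
  calc y ^ k * X = X * (X⁻¹ * y ^ k * X) := by group
    _ = X * (w ^ k * y ^ k) := by rw [h4]
    _ = w ^ k * X * y ^ k := by rw [← mul_assoc, ((hwX.zpow_left k)).eq]

/-- The homomorphism from the Heisenberg group attached to `x`, `y` with central commutator `z`. -/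
def heisHom (x y z : E) (h : x * y = z * y * x) (hzx : z * x = x * z) (hzy : z * y = y * z) :
    Heis →* E where
  toFun u := z ^ u.a * x ^ u.b * y ^ u.c
  map_one' := by simp [Heis.one_a, Heis.one_b, Heis.one_c]
  map_mul' u v := by
    have hzx' : Commute z x := hzx
    have hzy' : Commute z y := hzy
    have hs := swap_zpow x y z h hzx hzy v.b u.c
    rw [Heis.mul_a, Heis.mul_b, Heis.mul_c,
      show u.a + v.a - u.c * v.b = u.a + v.a + (-(u.c * v.b)) by ring, zpow_add, zpow_add,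
      zpow_add, zpow_add]
    have c1 : z ^ v.a * x ^ u.b = x ^ u.b * z ^ v.a := ((hzx'.zpow_left _).zpow_right _).eq
    have c2 : z ^ v.a * y ^ u.c = y ^ u.c * z ^ v.a := ((hzy'.zpow_left _).zpow_right _).eq
    have c3 : z ^ (-(u.c * v.b)) * x ^ u.b = x ^ u.b * z ^ (-(u.c * v.b)) :=
      ((hzx'.zpow_left _).zpow_right _).eq
    calc z ^ u.a * z ^ v.a * z ^ (-(u.c * v.b)) * (x ^ u.b * x ^ v.b) * (y ^ u.c * y ^ v.c)
        = z ^ u.a * z ^ v.a * (z ^ (-(u.c * v.b)) * x ^ u.b) * x ^ v.b * y ^ u.c * y ^ v.c := by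
          simp only [mul_assoc]
      _ = z ^ u.a * (z ^ v.a * x ^ u.b) * (z ^ (-(u.c * v.b)) * x ^ v.b * y ^ u.c) * y ^ v.c := by
          rw [c3]; simp only [mul_assoc]
      _ = z ^ u.a * x ^ u.b * (z ^ v.a * y ^ u.c) * x ^ v.b * y ^ v.c := by
          rw [c1, ← hs]; simp only [mul_assoc]
      _ = z ^ u.a * x ^ u.b * y ^ u.c * (z ^ v.a * x ^ v.b * y ^ v.c) := by
          rw [c2]; simp only [mul_assoc]

theorem heisHom_apply (x y z : E) (h : x * y = z * y * x) (hzx : z * x = x * z)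
    (hzy : z * y = y * z) (u : Heis) :
    heisHom x y z h hzx hzy u = z ^ u.a * x ^ u.b * y ^ u.c := rfl

end hom

section hom2
variable {E : Type*} [Group E]

theorem heis_conj_x (x y z : E) (h : x * y = z * y * x) (hzx : z * x = x * z)
    (hzy : z * y = y * z) (u : Heis) :
    heisHom x y z h hzx hzy u * x = z ^ (-u.c) * x * heisHom x y z h hzx hzy u := by
  have hzx' : Commute z x := hzx
  have hs := swap_zpow x y z h hzx hzy 1 u.c
  rw [zpow_one, mul_one] at hs
  rw [heisHom_apply]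
  have c1 : x ^ u.b * z ^ (-u.c) = z ^ (-u.c) * x ^ u.b := ((hzx'.zpow_left _).zpow_right _).eq.symm
  have c2 : x ^ u.b * x = x * x ^ u.b := (Commute.zpow_self x u.b).eq
  have c3 : z ^ u.a * z ^ (-u.c) = z ^ (-u.c) * z ^ u.a := (Commute.zpow_zpow_self z _ _).eq
  have c4 : z ^ u.a * x = x * z ^ u.a := (hzx'.zpow_left _).eq
  calc z ^ u.a * x ^ u.b * y ^ u.c * x = z ^ u.a * x ^ u.b * (y ^ u.c * x) := by
        simp only [mul_assoc]
    _ = z ^ u.a * (x ^ u.b * z ^ (-u.c)) * x * y ^ u.c := by rw [hs]; simp only [mul_assoc]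
    _ = z ^ u.a * z ^ (-u.c) * (x ^ u.b * x) * y ^ u.c := by rw [c1]; simp only [mul_assoc]
    _ = z ^ (-u.c) * (z ^ u.a * x) * x ^ u.b * y ^ u.c := by rw [c2, c3]; simp only [mul_assoc]
    _ = z ^ (-u.c) * x * (z ^ u.a * x ^ u.b * y ^ u.c) := by rw [c4]; simp only [mul_assoc]

theorem heis_conj_y (x y z : E) (h : x * y = z * y * x) (hzx : z * x = x * z)
    (hzy : z * y = y * z) (u : Heis) :
    heisHom x y z h hzx hzy u * y = z ^ u.b * y * heisHom x y z h hzx hzy u := by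
  have hzx' : Commute z x := hzx
  have hzy' : Commute z y := hzy
  have hs := swap_zpow x y z h hzx hzy u.b 1
  rw [zpow_one, one_mul] at hs
  rw [heisHom_apply]
  have c0 : x ^ u.b * y = z ^ u.b * y * x ^ u.b := by
    rw [mul_assoc, hs, ← mul_assoc, ← mul_assoc, ← zpow_add, add_neg_cancel, zpow_zero, one_mul]
  have c2 : y ^ u.c * y = y * y ^ u.c := (Commute.zpow_self y u.c).eq
  have c3 : z ^ u.a * z ^ u.b = z ^ u.b * z ^ u.a := (Commute.zpow_zpow_self z _ _).eq
  have c4 : z ^ u.a * y = y * z ^ u.a := (hzy'.zpow_left _).eq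
  calc z ^ u.a * x ^ u.b * y ^ u.c * y = z ^ u.a * (x ^ u.b * y) * y ^ u.c := by
        rw [mul_assoc, c2]; simp only [mul_assoc]
    _ = z ^ u.a * z ^ u.b * y * x ^ u.b * y ^ u.c := by rw [c0]; simp only [mul_assoc]
    _ = z ^ u.b * (z ^ u.a * y) * x ^ u.b * y ^ u.c := by rw [c3]; simp only [mul_assoc]
    _ = z ^ u.b * y * (z ^ u.a * x ^ u.b * y ^ u.c) := by rw [c4]; simp only [mul_assoc]

end hom2

section glue

theorem range_equiv {H : Type*} {E₁ : Type*} {E₂ : Type*} [Group H] [Group E₁] [Group E₂]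
    (f₁ : H →* E₁) (f₂ : H →* E₂) (hker : f₁.ker = f₂.ker) :
    ∃ α : f₁.range ≃* f₂.range, ∀ (h : H) (e : E₁) (he : e ∈ f₁.range), e = f₁ h →
      (α ⟨e, he⟩ : E₂) = f₂ h := by
  refine ⟨(QuotientGroup.quotientKerEquivRange f₁).symm.trans
    ((QuotientGroup.quotientMulEquivOfEq hker).trans (QuotientGroup.quotientKerEquivRange f₂)), ?_⟩
  intro h e he heq
  subst heq
  have h1 : (QuotientGroup.quotientKerEquivRange f₁).symm ⟨f₁ h, he⟩ = QuotientGroup.mk h := by
    rw [MulEquiv.symm_apply_eq]; rfl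
  show ((QuotientGroup.quotientKerEquivRange f₂) ((QuotientGroup.quotientMulEquivOfEq hker)
    ((QuotientGroup.quotientKerEquivRange f₁).symm ⟨f₁ h, he⟩)) : E₂) = f₂ h
  rw [h1]; rfl

theorem surj_equiv {H : Type*} {E₁ : Type*} {E₂ : Type*} [Group H] [Group E₁] [Group E₂]
    (f₁ : H →* E₁) (f₂ : H →* E₂) (hs₁ : Function.Surjective f₁) (hs₂ : Function.Surjective f₂)
    (hker : f₁.ker = f₂.ker) :
    ∃ φ : E₁ ≃* E₂, ∀ h : H, φ (f₁ h) = f₂ h := by
  refine ⟨(QuotientGroup.quotientKerEquivOfSurjective f₁ hs₁).symm.trans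
    ((QuotientGroup.quotientMulEquivOfEq hker).trans
      (QuotientGroup.quotientKerEquivOfSurjective f₂ hs₂)), fun h => ?_⟩
  have h1 : (QuotientGroup.quotientKerEquivOfSurjective f₁ hs₁).symm (f₁ h) =
      QuotientGroup.mk h := by
    rw [MulEquiv.symm_apply_eq]; rfl
  show (QuotientGroup.quotientKerEquivOfSurjective f₂ hs₂)
    ((QuotientGroup.quotientMulEquivOfEq hker)
      ((QuotientGroup.quotientKerEquivOfSurjective f₁ hs₁).symm (f₁ h))) = f₂ h
  rw [h1]; rfl

theorem glue {E₁ : Type*} {E₂ : Type*} [Group E₁] [Group E₂] [Finite E₁]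
    (hcard : Nat.card E₁ = Nat.card E₂)
    (D₁ C₁ : Subgroup E₁) (D₂ C₂ : Subgroup E₂)
    (h₁ : ∀ e : E₁, ∃ d ∈ D₁, ∃ c ∈ C₁, e = d * c)
    (h₂ : ∀ e : E₂, ∃ d ∈ D₂, ∃ c ∈ C₂, e = d * c)
    (hc₁ : ∀ d ∈ D₁, ∀ c ∈ C₁, d * c = c * d)
    (hc₂ : ∀ d ∈ D₂, ∀ c ∈ C₂, d * c = c * d)
    (α : D₁ ≃* D₂) (β : C₁ ≃* C₂)
    (hαβ : ∀ (w : E₁) (hD : w ∈ D₁) (hC : w ∈ C₁), (α ⟨w, hD⟩ : E₂) = β ⟨w, hC⟩) :
    ∃ φ : E₁ ≃* E₂, (∀ d : D₁, φ d = α d) ∧ (∀ c : C₁, φ c = β c) := by
  let f₁ : D₁ × C₁ →* E₁ := MonoidHom.noncommCoprod D₁.subtype C₁.subtype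
    (fun d c => hc₁ d d.2 c c.2)
  let f₂ : D₁ × C₁ →* E₂ := MonoidHom.noncommCoprod (D₂.subtype.comp α.toMonoidHom)
    (C₂.subtype.comp β.toMonoidHom) (fun d c => hc₂ _ (α d).2 _ (β c).2)
  have hf₁ : ∀ dc : D₁ × C₁, f₁ dc = (dc.1 : E₁) * (dc.2 : E₁) := fun dc => rfl
  have hf₂ : ∀ dc : D₁ × C₁, f₂ dc = (α dc.1 : E₂) * (β dc.2 : E₂) := fun dc => rfl
  have hsurj₁ : Function.Surjective f₁ := by
    intro e
    obtain ⟨d, hd, c, hc, rfl⟩ := h₁ e
    exact ⟨(⟨d, hd⟩, ⟨c, hc⟩), rfl⟩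
  have hker : f₁.ker ≤ f₂.ker := by
    rintro ⟨d, c⟩ hdc
    rw [MonoidHom.mem_ker, hf₁] at hdc
    rw [MonoidHom.mem_ker, hf₂]
    have hd : (d : E₁) = ((c⁻¹ : C₁) : E₁) := by
      rw [Subgroup.coe_inv]; exact eq_inv_of_mul_eq_one_left hdc
    have hdC : (d : E₁) ∈ C₁ := by rw [hd]; exact (c⁻¹).2
    have h3 := hαβ (d : E₁) d.2 hdC
    have h4 : (⟨(d : E₁), hdC⟩ : C₁) = c⁻¹ := Subtype.ext hd
    show ((α d : D₂) : E₂) * ((β c : C₂) : E₂) = 1
    have h5 : ((α d : D₂) : E₂) = ((β c⁻¹ : C₂) : E₂) := by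
      rw [← h4]; exact h3
    rw [h5, map_inv, Subgroup.coe_inv, inv_mul_cancel]
  let φ₀ : E₁ →* E₂ := (f₁.liftOfSurjective hsurj₁) ⟨f₂, hker⟩
  have hφ₀ : ∀ dc : D₁ × C₁, φ₀ (f₁ dc) = f₂ dc := fun dc =>
    MonoidHom.liftOfRightInverse_comp_apply f₁ _ _ ⟨f₂, hker⟩ dc
  have hsurj : Function.Surjective φ₀ := by
    intro e
    obtain ⟨d, hd, c, hc, rfl⟩ := h₂ e
    refine ⟨f₁ (α.symm ⟨d, hd⟩, β.symm ⟨c, hc⟩), ?_⟩
    rw [hφ₀, hf₂]
    simp
  have hbij : Function.Bijective φ₀ :=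
    (Nat.bijective_iff_surjective_and_card φ₀).mpr ⟨hsurj, hcard⟩
  refine ⟨MulEquiv.ofBijective φ₀ hbij, ?_, ?_⟩
  · intro d
    have h3 := hφ₀ (d, 1)
    rw [hf₁, hf₂] at h3
    simpa using h3
  · intro c
    have h3 := hφ₀ (1, c)
    rw [hf₁, hf₂] at h3
    simpa using h3

end glue

section frat

theorem pow_mem_frattini {P : Type*} [Group P] [Finite P] {p : ℕ} [Fact p.Prime]
    (hP : IsPGroup p P) (x : P) : x ^ p ∈ frattini P := by
  simp only [frattini, Order.radical, Subgroup.mem_iInf]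
  intro M hM
  obtain ⟨hn, hi⟩ := coatom_normal_index hP M hM
  have h1 : (QuotientGroup.mk' M x) ^ p = 1 := by
    have h := pow_card_eq_one' (G := P ⧸ M) (x := QuotientGroup.mk' M x)
    rwa [← Subgroup.index_eq_card, hi] at h
  rw [← map_pow] at h1
  exact (QuotientGroup.eq_one_iff _).mp h1

theorem frattini_le_of_elementary {H : Type*} [Group H] [Finite H] {p : ℕ} [Fact p.Prime]
    (N : Subgroup H) (hcomm : commutator H ≤ N) (hpow : ∀ y : H, y ^ p ∈ N) :
    frattini H ≤ N := by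
  have hpp : p.Prime := Fact.out
  intro x hx
  by_contra hxN
  have hne : Nonempty {K : Subgroup H // N ≤ K ∧ x ∉ K} := ⟨⟨N, le_rfl, hxN⟩⟩
  obtain ⟨⟨K, hNK, hxK⟩, hmax⟩ :=
    Finite.exists_max (fun K : {K : Subgroup H // N ≤ K ∧ x ∉ K} => Nat.card K.1)
  have hmax' : ∀ L : Subgroup H, K < L → x ∈ L := by
    intro L hKL
    by_contra hxL
    have h1 := hmax ⟨L, hNK.trans hKL.le, hxL⟩
    have h2 : K = L := Subgroup.eq_of_le_of_card_ge hKL.le h1
    exact hKL.ne h2
  have hKn : K.Normal := Subgroup.Normal.of_commutator_le H (hcomm.trans hNK)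
  have hcoatom : IsCoatom K := by
    refine ⟨fun h => hxK (h ▸ Subgroup.mem_top x), fun L hKL => ?_⟩
    have hxL := hmax' L hKL
    rw [eq_top_iff]
    intro y _
    by_cases hyK : y ∈ K
    · exact hKL.le hyK
    · have hlt : K < K ⊔ Subgroup.zpowers y := by
        refine lt_of_le_of_ne le_sup_left (fun h => hyK ?_)
        rw [h]; exact Subgroup.mem_sup_right (Subgroup.mem_zpowers y)
      have hx' := hmax' _ hlt
      rw [Subgroup.mem_sup_of_normal_left] at hx'
      obtain ⟨k, hk, z, hz, hkz⟩ := hx'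
      obtain ⟨i, rfl⟩ := Subgroup.mem_zpowers_iff.mp hz
      have hyiL : y ^ i ∈ L := by
        have h3 : y ^ i = k⁻¹ * x := by rw [← hkz]; group
        rw [h3]; exact L.mul_mem (L.inv_mem (hKL.le hk)) hxL
      have hnd : ¬ (p : ℤ) ∣ i := by
        rintro ⟨j, rfl⟩
        apply hxK
        rw [← hkz]
        apply K.mul_mem hk
        rw [zpow_mul, zpow_natCast]
        exact K.zpow_mem (hNK (hpow y)) j
      have hcop : IsCoprime i (p : ℤ) := by
        rw [Int.isCoprime_iff_gcd_eq_one, Int.gcd_comm]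
        have h1 : ¬ p ∣ i.natAbs := fun h => hnd (Int.natCast_dvd.mpr h)
        have h2 : Nat.Coprime p i.natAbs := (Nat.Prime.coprime_iff_not_dvd hpp).mpr h1
        simpa [Int.gcd] using h2
      obtain ⟨u, v, huv⟩ := hcop
      have h4 : y = (y ^ i) ^ u * (y ^ p) ^ v := by
        rw [← zpow_mul, ← zpow_natCast y p, ← zpow_mul, ← zpow_add, mul_comm i u,
          mul_comm (p : ℤ) v, huv, zpow_one]
      rw [h4]
      exact L.mul_mem (L.zpow_mem hyiL u) (L.zpow_mem (hKL.le (hNK (hpow y))) v)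
  exact hxK (frattini_le_coatom hcoatom hx)

end frat

section extra
variable {E : Type*} [Group E]

theorem swap_one (x y z : E) (h : x * y = z * y * x) (hzx : z * x = x * z)
    (hzy : z * y = y * z) (j : ℤ) : x ^ j * y = z ^ j * y * x ^ j := by
  have hs := swap_zpow x y z h hzx hzy j 1
  rw [zpow_one, one_mul] at hs
  rw [mul_assoc, hs, ← mul_assoc, ← mul_assoc, ← zpow_add, add_neg_cancel, zpow_zero, one_mul]

/-- The Heisenberg hom for a central `z`. -/
def esHom (x y z : E) (h : x * y = z * y * x) (hz : z ∈ Subgroup.center E) : Heis →* E :=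
  heisHom x y z h (Subgroup.mem_center_iff.mp hz x).symm (Subgroup.mem_center_iff.mp hz y).symm

theorem esHom_apply (x y z : E) (h : x * y = z * y * x) (hz : z ∈ Subgroup.center E) (u : Heis) :
    esHom x y z h hz u = z ^ u.a * x ^ u.b * y ^ u.c := rfl

theorem esHom_conj_x (x y z : E) (h : x * y = z * y * x) (hz : z ∈ Subgroup.center E) (u : Heis) :
    esHom x y z h hz u * x = z ^ (-u.c) * x * esHom x y z h hz u :=
  heis_conj_x x y z h _ _ u

theorem esHom_conj_y (x y z : E) (h : x * y = z * y * x) (hz : z ∈ Subgroup.center E) (u : Heis) :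
    esHom x y z h hz u * y = z ^ u.b * y * esHom x y z h hz u :=
  heis_conj_y x y z h _ _ u

theorem mem_cent_pair {x y c : E} :
    c ∈ Subgroup.centralizer ({x, y} : Set E) ↔ x * c = c * x ∧ y * c = c * y := by
  rw [Subgroup.mem_centralizer_iff]
  constructor
  · intro h; exact ⟨h x (by simp), h y (by simp)⟩
  · rintro ⟨h1, h2⟩ g hg
    rcases hg with rfl | rfl
    · exact h1
    · exact h2

theorem es_comm_DC (x y z : E) (h : x * y = z * y * x) (hz : z ∈ Subgroup.center E) (d : E)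
    (hd : d ∈ (esHom x y z h hz).range) (c : E)
    (hc : c ∈ Subgroup.centralizer ({x, y} : Set E)) : d * c = c * d := by
  obtain ⟨u, rfl⟩ := hd
  rw [mem_cent_pair] at hc
  rw [esHom_apply]
  have h1 : Commute c z := Subgroup.mem_center_iff.mp hz c
  have h2 : Commute c x := hc.1.symm
  have h3 : Commute c y := hc.2.symm
  exact ((((h1.zpow_right _).mul_right (h2.zpow_right _)).mul_right (h3.zpow_right _))).eq.symm

/-- `e ↦ [e, x]` as a homomorphism into the centre, when all commutators are central. -/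
def commHom (hc : ∀ a b : E, a * b * a⁻¹ * b⁻¹ ∈ Subgroup.center E) (x : E) :
    E →* Subgroup.center E where
  toFun e := ⟨e * x * e⁻¹ * x⁻¹, hc e x⟩
  map_one' := Subtype.ext (by simp)
  map_mul' e e' := Subtype.ext (by
    show (e * e') * x * (e * e')⁻¹ * x⁻¹ = (e * x * e⁻¹ * x⁻¹) * (e' * x * e'⁻¹ * x⁻¹)
    have h := Subgroup.mem_center_iff.mp (hc e' x) (e * x * e⁻¹ * x⁻¹)
    have h' := Subgroup.mem_center_iff.mp (hc e' x) e
    calc (e * e') * x * (e * e')⁻¹ * x⁻¹ = e * (e' * x * e'⁻¹ * x⁻¹) * x * e⁻¹ * x⁻¹ := by group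
      _ = (e' * x * e'⁻¹ * x⁻¹) * e * x * e⁻¹ * x⁻¹ := by rw [h']
      _ = (e' * x * e'⁻¹ * x⁻¹) * (e * x * e⁻¹ * x⁻¹) := by group
      _ = _ := h.symm)

theorem commHom_apply (hc : ∀ a b : E, a * b * a⁻¹ * b⁻¹ ∈ Subgroup.center E) (x e : E) :
    (commHom hc x e : E) = e * x * e⁻¹ * x⁻¹ := rfl

end extra

section es
variable {E : Type*} [Group E] [Finite E] {p : ℕ} [Fact p.Prime]

theorem es_comm_mem (hE : Cfsg.IsExtraspecial p E) (x y : E) :
    x * y * x⁻¹ * y⁻¹ ∈ Subgroup.center E := by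
  have h : ⁅x, y⁆ ∈ commutator E :=
    Subgroup.commutator_mem_commutator (Subgroup.mem_top x) (Subgroup.mem_top y)
  rw [hE.1.2.2] at h
  exact h

theorem es_pow_mem (hE : Cfsg.IsExtraspecial p E) (x : E) : x ^ p ∈ Subgroup.center E := by
  rw [← hE.1.2.1]; exact pow_mem_frattini hE.1.1 x

theorem es_center_gen (hE : Cfsg.IsExtraspecial p E) (z : E) (hz : z ∈ Subgroup.center E)
    (hz1 : z ≠ 1) (w : E) (hw : w ∈ Subgroup.center E) : ∃ i : ℤ, w = z ^ i := by
  have hcard : Nat.card (Subgroup.center E) = p := hE.2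
  have h1 : Subgroup.zpowers (⟨z, hz⟩ : Subgroup.center E) = ⊤ := by
    apply Subgroup.eq_top_of_card_eq
    rw [Nat.card_zpowers, hcard]
    have hd : orderOf (⟨z, hz⟩ : Subgroup.center E) ∣ p := by
      rw [← hcard]; exact orderOf_dvd_natCard _
    rcases (Nat.dvd_prime Fact.out).mp hd with h | h
    · exfalso
      rw [orderOf_eq_one_iff] at h
      exact hz1 (congrArg Subtype.val h)
    · exact h
  have h2 : (⟨w, hw⟩ : Subgroup.center E) ∈ Subgroup.zpowers (⟨z, hz⟩ : Subgroup.center E) := by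
    rw [h1]; trivial
  obtain ⟨i, hi⟩ := Subgroup.mem_zpowers_iff.mp h2
  refine ⟨i, ?_⟩
  have h3 := congrArg Subtype.val hi
  simpa using h3.symm

theorem es_center_pow (hE : Cfsg.IsExtraspecial p E) (z : E) (hz : z ∈ Subgroup.center E) :
    z ^ p = 1 := by
  have h := pow_card_eq_one' (G := Subgroup.center E) (x := ⟨z, hz⟩)
  rw [hE.2] at h
  have h3 := congrArg Subtype.val h
  simpa using h3

theorem es_noncomm (hE : Cfsg.IsExtraspecial p E) : ∃ x y : E, x * y ≠ y * x := by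
  by_contra hcon
  push Not at hcon
  have h1 : Subgroup.center E = ⊤ := by
    rw [eq_top_iff]
    intro g _
    rw [Subgroup.mem_center_iff]
    intro h
    exact hcon h g
  have h2 : commutator E = ⊥ := (commutator_eq_bot_iff_center_eq_top E).mpr h1
  have h3 : Nat.card (Subgroup.center E) = 1 := by
    rw [← hE.1.2.2, h2]; exact Subgroup.card_bot
  have h4 := hE.2
  have hp : p.Prime := Fact.out
  rw [h3] at h4
  exact hp.one_lt.ne h4

theorem es_exists_pair (hE : Cfsg.IsExtraspecial p E) (z : E) (hz : z ∈ Subgroup.center E)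
    (hz1 : z ≠ 1) : ∃ x y : E, x * y = z * y * x := by
  obtain ⟨x, y, hxy⟩ := es_noncomm hE
  obtain ⟨w, hw⟩ : ∃ w : E, w = x * y * x⁻¹ * y⁻¹ := ⟨_, rfl⟩
  have hwc : w ∈ Subgroup.center E := by rw [hw]; exact es_comm_mem hE x y
  have hbase : x * y = w * y * x := by rw [hw]; group
  have hw1 : w ≠ 1 := by
    intro h
    apply hxy
    rw [hbase, h, one_mul]
  obtain ⟨i, hi⟩ := es_center_gen hE w hwc hw1 z hz
  refine ⟨x ^ i, y, ?_⟩
  rw [hi]
  exact swap_one x y w hbase (Subgroup.mem_center_iff.mp hwc x).symm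
    (Subgroup.mem_center_iff.mp hwc y).symm i

/-- The pair of commutator maps. -/
noncomputable def esPsi (hE : Cfsg.IsExtraspecial p E) (x y : E) :
    E →* Subgroup.center E × Subgroup.center E :=
  (commHom (es_comm_mem hE) x).prod (commHom (es_comm_mem hE) y)

theorem esPsi_fst (hE : Cfsg.IsExtraspecial p E) (x y e : E) :
    ((esPsi hE x y e).1 : E) = e * x * e⁻¹ * x⁻¹ := rfl

theorem esPsi_snd (hE : Cfsg.IsExtraspecial p E) (x y e : E) :
    ((esPsi hE x y e).2 : E) = e * y * e⁻¹ * y⁻¹ := rfl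

theorem esPsi_ker (hE : Cfsg.IsExtraspecial p E) (x y : E) :
    (esPsi hE x y).ker = Subgroup.centralizer ({x, y} : Set E) := by
  ext e
  rw [MonoidHom.mem_ker, mem_cent_pair, Prod.ext_iff]
  constructor
  · rintro ⟨h1, h2⟩
    have h1' : e * x * e⁻¹ * x⁻¹ = 1 := congrArg Subtype.val h1
    have h2' : e * y * e⁻¹ * y⁻¹ = 1 := congrArg Subtype.val h2
    constructor
    · have h3 : e * x * e⁻¹ = x := mul_inv_eq_one.mp h1'
      exact (mul_inv_eq_iff_eq_mul.mp h3).symm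
    · have h3 : e * y * e⁻¹ = y := mul_inv_eq_one.mp h2'
      exact (mul_inv_eq_iff_eq_mul.mp h3).symm
  · rintro ⟨h1, h2⟩
    constructor
    · apply Subtype.ext
      show e * x * e⁻¹ * x⁻¹ = 1
      rw [← h1]; group
    · apply Subtype.ext
      show e * y * e⁻¹ * y⁻¹ = 1
      rw [← h2]; group

theorem esPsi_heis (hE : Cfsg.IsExtraspecial p E) (x y z : E) (h : x * y = z * y * x)
    (hz : z ∈ Subgroup.center E) (u : Heis) :
    ((esPsi hE x y (esHom x y z h hz u)).1 : E) = z ^ (-u.c) ∧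
    ((esPsi hE x y (esHom x y z h hz u)).2 : E) = z ^ u.b := by
  constructor
  · rw [esPsi_fst, esHom_conj_x]; group
  · rw [esPsi_snd, esHom_conj_y]; group

theorem es_decomp (hE : Cfsg.IsExtraspecial p E) (x y z : E) (h : x * y = z * y * x)
    (hz : z ∈ Subgroup.center E) (hz1 : z ≠ 1) (e : E) :
    ∃ d ∈ (esHom x y z h hz).range, ∃ c ∈ Subgroup.centralizer ({x, y} : Set E), e = d * c := by
  obtain ⟨a, ha⟩ := es_center_gen hE z hz hz1 _ (esPsi hE x y e).1.2
  obtain ⟨b, hb⟩ := es_center_gen hE z hz hz1 _ (esPsi hE x y e).2.2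
  obtain ⟨d, hd⟩ : ∃ d : E, d = esHom x y z h hz ⟨0, b, -a⟩ := ⟨_, rfl⟩
  have hdψ : esPsi hE x y d = esPsi hE x y e := by
    obtain ⟨h1, h2⟩ := esPsi_heis hE x y z h hz ⟨0, b, -a⟩
    rw [← hd] at h1 h2
    apply Prod.ext
    · apply Subtype.ext
      rw [h1, ha, neg_neg]
    · apply Subtype.ext
      rw [h2, hb]
  refine ⟨d, ⟨_, hd.symm⟩, d⁻¹ * e, ?_, by group⟩
  rw [← esPsi_ker hE x y, MonoidHom.mem_ker, map_mul, map_inv, hdψ, inv_mul_cancel]

theorem es_inter_le (hE : Cfsg.IsExtraspecial p E) (x y z : E) (h : x * y = z * y * x)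
    (hz : z ∈ Subgroup.center E) (hz1 : z ≠ 1) (w : E) (hD : w ∈ (esHom x y z h hz).range)
    (hC : w ∈ Subgroup.centralizer ({x, y} : Set E)) : w ∈ Subgroup.center E := by
  rw [Subgroup.mem_center_iff]
  intro e
  obtain ⟨d, hd, c, hc, rfl⟩ := es_decomp hE x y z h hz hz1 e
  have h1 : d * w = w * d := es_comm_DC x y z h hz d hd w hC
  have h2 : w * c = c * w := es_comm_DC x y z h hz w hD c hc
  rw [mul_assoc, ← h2, ← mul_assoc, h1, mul_assoc]

theorem es_card (hE : Cfsg.IsExtraspecial p E) (x y z : E) (h : x * y = z * y * x)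
    (hz : z ∈ Subgroup.center E) (hz1 : z ≠ 1) :
    Nat.card E = p ^ 2 * Nat.card (Subgroup.centralizer ({x, y} : Set E)) := by
  have hsurj : Function.Surjective (esPsi hE x y) := by
    rintro ⟨⟨w₁, hw₁⟩, ⟨w₂, hw₂⟩⟩
    obtain ⟨a, ha⟩ := es_center_gen hE z hz hz1 w₁ hw₁
    obtain ⟨b, hb⟩ := es_center_gen hE z hz hz1 w₂ hw₂
    refine ⟨esHom x y z h hz ⟨0, b, -a⟩, ?_⟩
    obtain ⟨h1, h2⟩ := esPsi_heis hE x y z h hz ⟨0, b, -a⟩
    apply Prod.ext
    · apply Subtype.ext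
      show ((esPsi hE x y (esHom x y z h hz ⟨0, b, -a⟩)).1 : E) = w₁
      rw [h1, ha, neg_neg]
    · apply Subtype.ext
      show ((esPsi hE x y (esHom x y z h hz ⟨0, b, -a⟩)).2 : E) = w₂
      rw [h2, hb]
  have h1 : (esPsi hE x y).ker.index = Nat.card (esPsi hE x y).range := Subgroup.index_ker _
  have h2 : (esPsi hE x y).range = ⊤ := MonoidHom.range_eq_top.mpr hsurj
  have h3 := Subgroup.card_mul_index (esPsi hE x y).ker
  rw [h1, h2, Subgroup.card_top, Nat.card_prod, hE.2, esPsi_ker hE x y] at h3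
  rw [← h3]; ring

theorem es_center_le_cent (x y : E) :
    Subgroup.center E ≤ Subgroup.centralizer ({x, y} : Set E) := by
  intro w hw
  rw [mem_cent_pair]
  exact ⟨Subgroup.mem_center_iff.mp hw x, Subgroup.mem_center_iff.mp hw y⟩

theorem es_range_top (hE : Cfsg.IsExtraspecial p E) (x y z : E) (h : x * y = z * y * x)
    (hz : z ∈ Subgroup.center E) (hz1 : z ≠ 1)
    (hC : Subgroup.centralizer ({x, y} : Set E) ≤ Subgroup.center E) :
    Function.Surjective (esHom x y z h hz) := by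
  intro e
  obtain ⟨d, ⟨u, rfl⟩, c, hc, rfl⟩ := es_decomp hE x y z h hz hz1 e
  obtain ⟨i, rfl⟩ := es_center_gen hE z hz hz1 c (hC hc)
  refine ⟨u * ⟨i, 0, 0⟩, ?_⟩
  rw [map_mul]
  congr 1
  rw [esHom_apply]
  simp

theorem es_cent_card_of_le (hE : Cfsg.IsExtraspecial p E) (x y : E)
    (hC : Subgroup.centralizer ({x, y} : Set E) ≤ Subgroup.center E) :
    Nat.card (Subgroup.centralizer ({x, y} : Set E)) = p := by
  rw [le_antisymm hC (es_center_le_cent x y)]; exact hE.2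

theorem es_cent_le_of_card (hE : Cfsg.IsExtraspecial p E) (x y : E)
    (hC : Nat.card (Subgroup.centralizer ({x, y} : Set E)) = p) :
    Subgroup.centralizer ({x, y} : Set E) ≤ Subgroup.center E := by
  have h1 : Subgroup.center E = Subgroup.centralizer ({x, y} : Set E) :=
    Subgroup.eq_of_le_of_card_ge (es_center_le_cent x y) (by rw [hC, hE.2])
  rw [← h1]

theorem cent_extraspecial (hE : Cfsg.IsExtraspecial p E) (x y z : E) (h : x * y = z * y * x)
    (hz : z ∈ Subgroup.center E) (hz1 : z ≠ 1)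
    (hnc : ¬ Subgroup.centralizer ({x, y} : Set E) ≤ Subgroup.center E) :
    Cfsg.IsExtraspecial p ↥(Subgroup.centralizer ({x, y} : Set E)) ∧
    ∀ u : ↥(Subgroup.centralizer ({x, y} : Set E)),
      u ∈ Subgroup.center ↥(Subgroup.centralizer ({x, y} : Set E)) ↔
        (u : E) ∈ Subgroup.center E := by
  have hdec := es_decomp hE x y z h hz hz1
  have hDC := es_comm_DC x y z h hz
  have hZC := es_center_le_cent (E := E) x y
  revert hnc hdec hDC hZC
  generalize Subgroup.centralizer ({x, y} : Set E) = C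
  intro hnc hdec hDC hZC
  have hcen : ∀ u : C, u ∈ Subgroup.center C ↔ (u : E) ∈ Subgroup.center E := by
    intro u
    constructor
    · intro hu
      rw [Subgroup.mem_center_iff]
      intro e
      obtain ⟨d, hd, c, hc, rfl⟩ := hdec e
      have h1 : d * (u : E) = u * d := hDC d hd u u.2
      have h2 : (⟨c, hc⟩ : C) * u = u * ⟨c, hc⟩ := Subgroup.mem_center_iff.mp hu _
      have h2' : c * (u : E) = u * c := congrArg Subtype.val h2
      rw [mul_assoc, h2', ← mul_assoc, h1, mul_assoc]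
    · intro hu
      rw [Subgroup.mem_center_iff]
      intro g
      exact Subtype.ext (Subgroup.mem_center_iff.mp hu g)
  refine ⟨?_, hcen⟩
  have hcenEq : Subgroup.center C = (Subgroup.center E).subgroupOf C := by
    ext u; rw [hcen, Subgroup.mem_subgroupOf]
  have hcard : Nat.card (Subgroup.center C) = p := by
    rw [hcenEq, Nat.card_congr (Subgroup.subgroupOfEquivOfLe hZC).toEquiv]; exact hE.2
  have hPC : IsPGroup p C := hE.1.1.to_subgroup C
  have hna : ∃ u v : C, u * v ≠ v * u := by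
    obtain ⟨c₀, hc₀, hc₀'⟩ := SetLike.not_le_iff_exists.mp hnc
    rw [Subgroup.mem_center_iff] at hc₀'
    push Not at hc₀'
    obtain ⟨e, he⟩ := hc₀'
    obtain ⟨d, hd, c, hc, rfl⟩ := hdec e
    refine ⟨⟨c, hc⟩, ⟨c₀, hc₀⟩, ?_⟩
    intro hcomm
    have hcomm' : c * c₀ = c₀ * c := congrArg Subtype.val hcomm
    have h1 : d * c₀ = c₀ * d := hDC d hd c₀ hc₀
    apply he
    rw [mul_assoc, hcomm', ← mul_assoc, h1, mul_assoc]
  have hcomm_le : commutator C ≤ Subgroup.center C := by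
    rw [commutator_eq_closure, Subgroup.closure_le]
    rintro _ ⟨u, v, rfl⟩
    rw [SetLike.mem_coe, hcen]
    exact es_comm_mem hE (u : E) (v : E)
  have hcomm_ge : Subgroup.center C ≤ commutator C := by
    obtain ⟨u, v, huv⟩ := hna
    intro t ht
    have hw : ((u : E) * v * (u : E)⁻¹ * (v : E)⁻¹) ∈ Subgroup.center E := es_comm_mem hE u v
    have hw1 : ((u : E) * v * (u : E)⁻¹ * (v : E)⁻¹) ≠ 1 := by
      intro h1
      apply huv
      apply Subtype.ext
      show (u : E) * v = v * u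
      have h3 := mul_inv_eq_one.mp h1
      exact mul_inv_eq_iff_eq_mul.mp h3
    obtain ⟨i, hi⟩ := es_center_gen hE _ hw hw1 (t : E) ((hcen t).mp ht)
    have ht' : t = ⁅u, v⁆ ^ i := Subtype.ext (by rw [hi]; rfl)
    rw [ht']
    exact Subgroup.zpow_mem _
      (Subgroup.commutator_mem_commutator (Subgroup.mem_top u) (Subgroup.mem_top v)) i
  have hcomm_eq : commutator C = Subgroup.center C := le_antisymm hcomm_le hcomm_ge
  have hfr : frattini C = Subgroup.center C := by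
    apply le_antisymm
    · apply frattini_le_of_elementary (p := p) _ hcomm_le
      intro t
      rw [hcen]
      exact es_pow_mem hE (t : E)
    · rw [← hcomm_eq]; exact comm_le_frattini hPC
  exact ⟨⟨hPC, hfr, hcomm_eq⟩, hcard⟩

end es

section ker
variable {E : Type*} [Group E]

theorem heis_ker_exp (p : ℕ) [Fact p.Prime] (x y z : E) (h : x * y = z * y * x)
    (hz : z ∈ Subgroup.center E) (hz1 : z ≠ 1) (hzp : z ^ p = 1) (hx : x ^ p = 1)
    (hy : y ^ p = 1) (u : Heis) :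
    esHom x y z h hz u = 1 ↔ ((p : ℤ) ∣ u.a ∧ (p : ℤ) ∣ u.b ∧ (p : ℤ) ∣ u.c) := by
  have ho : orderOf z = p := orderOf_eq_prime hzp hz1
  have key : ∀ i : ℤ, z ^ i = 1 ↔ (p : ℤ) ∣ i := fun i => by
    rw [← ho]; exact orderOf_dvd_iff_zpow_eq_one.symm
  have hxp : ∀ i : ℤ, (p : ℤ) ∣ i → x ^ i = 1 := by
    rintro i ⟨k, rfl⟩; rw [zpow_mul, zpow_natCast, hx, one_zpow]
  have hyp : ∀ i : ℤ, (p : ℤ) ∣ i → y ^ i = 1 := by
    rintro i ⟨k, rfl⟩; rw [zpow_mul, zpow_natCast, hy, one_zpow]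
  constructor
  · intro hu
    have h1 := esHom_conj_x x y z h hz u
    rw [hu, one_mul, mul_one] at h1
    have hc : z ^ (-u.c) = 1 := by
      have : 1 * x = z ^ (-u.c) * x := by rw [one_mul]; exact h1
      exact (mul_right_cancel this).symm
    have h2 := esHom_conj_y x y z h hz u
    rw [hu, one_mul, mul_one] at h2
    have hb : z ^ u.b = 1 := by
      have : 1 * y = z ^ u.b * y := by rw [one_mul]; exact h2
      exact (mul_right_cancel this).symm
    have hc' : (p : ℤ) ∣ u.c := (Int.dvd_neg).mp ((key _).mp hc)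
    have hb' : (p : ℤ) ∣ u.b := (key _).mp hb
    rw [esHom_apply, hxp _ hb', hyp _ hc', mul_one, mul_one] at hu
    exact ⟨(key _).mp hu, hb', hc'⟩
  · rintro ⟨ha, hb, hc⟩
    rw [esHom_apply, (key _).mpr ha, hxp _ hb, hyp _ hc]; simp

theorem heis_ker_Q (x y z : E) (h : x * y = z * y * x) (hz : z ∈ Subgroup.center E)
    (hz1 : z ≠ 1) (hz2 : z ^ 2 = 1) (hx : x ^ 2 = z) (hy : y ^ 2 = z) (u : Heis) :
    esHom x y z h hz u = 1 ↔
      ∃ b' c' : ℤ, u.b = 2 * b' ∧ u.c = 2 * c' ∧ (2 : ℤ) ∣ (u.a + b' + c') := by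
  have ho : orderOf z = 2 := orderOf_eq_prime hz2 hz1
  have key : ∀ i : ℤ, z ^ i = 1 ↔ (2 : ℤ) ∣ i := fun i => by
    have h0 := orderOf_dvd_iff_zpow_eq_one (x := z) (i := i)
    rw [ho] at h0
    exact_mod_cast h0.symm
  have hxp : ∀ k : ℤ, x ^ (2 * k) = z ^ k := fun k => by
    rw [zpow_mul, zpow_ofNat, hx]
  have hyp : ∀ k : ℤ, y ^ (2 * k) = z ^ k := fun k => by
    rw [zpow_mul, zpow_ofNat, hy]
  constructor
  · intro hu
    have h1 := esHom_conj_x x y z h hz u
    rw [hu, one_mul, mul_one] at h1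
    have hc : z ^ (-u.c) = 1 := by
      have : 1 * x = z ^ (-u.c) * x := by rw [one_mul]; exact h1
      exact (mul_right_cancel this).symm
    have h2 := esHom_conj_y x y z h hz u
    rw [hu, one_mul, mul_one] at h2
    have hb : z ^ u.b = 1 := by
      have : 1 * y = z ^ u.b * y := by rw [one_mul]; exact h2
      exact (mul_right_cancel this).symm
    obtain ⟨c', hc'⟩ := (Int.dvd_neg).mp ((key _).mp hc)
    obtain ⟨b', hb'⟩ := (key _).mp hb
    refine ⟨b', c', hb', hc', ?_⟩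
    rw [esHom_apply, hb', hc', hxp, hyp, ← zpow_add, ← zpow_add] at hu
    exact (key _).mp hu
  · rintro ⟨b', c', hb, hc, hd⟩
    rw [esHom_apply, hb, hc, hxp, hyp, ← zpow_add, ← zpow_add]
    exact (key _).mpr hd

theorem es_exists_central [Finite E] {p : ℕ} [Fact p.Prime] (hE : Cfsg.IsExtraspecial p E) :
    ∃ z ∈ Subgroup.center E, z ≠ 1 := by
  have hcard := hE.2
  have hp : p.Prime := Fact.out
  have hne : Subgroup.center E ≠ ⊥ := by
    intro h
    rw [h, Subgroup.card_bot] at hcard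
    exact hp.one_lt.ne hcard
  obtain ⟨a, ha⟩ := (Subgroup.ne_bot_iff_exists_ne_one).mp hne
  exact ⟨a.1, a.2, fun h => ha (Subtype.ext h)⟩

end ker

end Cfsg.Agent.Lib.Helper3.Extra
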