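import Cfsg.Agent.S0099
import Mathlib

set_option autoImplicit false
set_option linter.unusedSectionVars false
set_option linter.unusedVariables false

namespace Cfsg.Agent.Lib.Helper3.Extra2

open Cfsg.Agent.Lib.Helper3.Extra Cfsg.Agent.S0099

section
variable {E : Type*} [Group E] [Finite E]

theorem coset_bij (hE : Cfsg.IsExtraspecial 2 E) (x y z : E) (h : x * y = z * y * x)
    (hz : z ∈ Subgroup.center E) (hz1 : z ≠ 1) :
    Function.Bijective (fun q : (Fin 2 × Fin 2) × ↥(Subgroup.centralizer ({x, y} : Set E)) =>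
      x ^ (q.1.1 : ℕ) * y ^ (q.1.2 : ℕ) * (q.2 : E)) := by
  apply Function.Injective.bijective_of_nat_card_le
  · have hψ : ∀ (b c : Fin 2) (k : ↥(Subgroup.centralizer ({x, y} : Set E))),
        esPsi hE x y (x ^ (b : ℕ) * y ^ (c : ℕ) * (k : E)) =
          esPsi hE x y (esHom x y z h hz ⟨0, ((b : ℕ) : ℤ), ((c : ℕ) : ℤ)⟩) := by
      intro b c k
      have hk : esPsi hE x y (k : E) = 1 := by
        have hk' : (k : E) ∈ (esPsi hE x y).ker := by rw [esPsi_ker]; exact k.2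
        exact hk'
      rw [map_mul, hk, mul_one, esHom_apply]
      simp
    have hzz : z ^ 2 = 1 := es_center_pow hE z hz
    have key : ∀ i j : Fin 2, z ^ ((i : ℕ) : ℤ) = z ^ ((j : ℕ) : ℤ) → i = j := by
      intro i j hij
      fin_cases i <;> fin_cases j
      · rfl
      · exfalso; simp at hij; exact hz1 hij.symm
      · exfalso; simp at hij; exact hz1 hij
      · rfl
    rintro ⟨⟨b, c⟩, k⟩ ⟨⟨b', c'⟩, k'⟩ heq
    have heq' : x ^ (b : ℕ) * y ^ (c : ℕ) * (k : E) = x ^ (b' : ℕ) * y ^ (c' : ℕ) * (k' : E) := heq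
    have h1 := congrArg (esPsi hE x y) heq'
    rw [hψ, hψ] at h1
    obtain ⟨e1, e2⟩ := esPsi_heis hE x y z h hz ⟨0, ((b : ℕ) : ℤ), ((c : ℕ) : ℤ)⟩
    obtain ⟨e1', e2'⟩ := esPsi_heis hE x y z h hz ⟨0, ((b' : ℕ) : ℤ), ((c' : ℕ) : ℤ)⟩
    rw [h1] at e1 e2
    rw [e1'] at e1
    rw [e2'] at e2
    have hb : b = b' := (key _ _ e2).symm
    have hc : c = c' := by
      have h3 : z ^ ((c' : ℕ) : ℤ) = z ^ ((c : ℕ) : ℤ) := by
        have h4 := congrArg (fun t : E => t⁻¹) e1
        simpa using h4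
      exact (key _ _ h3).symm
    subst hb hc
    have hk : (k : E) = k' := mul_left_cancel heq'
    have hk' : k = k' := Subtype.ext hk
    rw [hk']
  · rw [Nat.card_prod, Nat.card_prod, Nat.card_fin, es_card hE x y z h hz hz1]
    norm_num

theorem count_sum (hE : Cfsg.IsExtraspecial 2 E) (x y z : E) (h : x * y = z * y * x)
    (hz : z ∈ Subgroup.center E) (hz1 : z ≠ 1) :
    Nat.card {e : E // e ^ 2 = 1} = ∑ bc : Fin 2 × Fin 2,
      Nat.card {k : ↥(Subgroup.centralizer ({x, y} : Set E)) //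
        (x ^ (bc.1 : ℕ) * y ^ (bc.2 : ℕ) * (k : E)) ^ 2 = 1} := by
  have e1 : {e : E // e ^ 2 = 1} ≃
      {q : (Fin 2 × Fin 2) × ↥(Subgroup.centralizer ({x, y} : Set E)) //
        (x ^ (q.1.1 : ℕ) * y ^ (q.1.2 : ℕ) * (q.2 : E)) ^ 2 = 1} :=
    (Equiv.subtypeEquiv (Equiv.ofBijective _ (coset_bij hE x y z h hz hz1))
      (fun q => Iff.rfl)).symm
  have e2 : {q : (Fin 2 × Fin 2) × ↥(Subgroup.centralizer ({x, y} : Set E)) //
        (x ^ (q.1.1 : ℕ) * y ^ (q.1.2 : ℕ) * (q.2 : E)) ^ 2 = 1} ≃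
      Σ bc : Fin 2 × Fin 2, {k : ↥(Subgroup.centralizer ({x, y} : Set E)) //
        (x ^ (bc.1 : ℕ) * y ^ (bc.2 : ℕ) * (k : E)) ^ 2 = 1} :=
    Equiv.subtypeProdEquivSigmaSubtype
      (fun (bc : Fin 2 × Fin 2) (k : ↥(Subgroup.centralizer ({x, y} : Set E))) =>
        (x ^ (bc.1 : ℕ) * y ^ (bc.2 : ℕ) * (k : E)) ^ 2 = 1)
  rw [Nat.card_congr (e1.trans e2), Nat.card_sigma]

theorem sq_mul (C : Subgroup E) (t : E) (ht : ∀ k ∈ C, t * k = k * t) (k : ↥C) :
    (t * (k : E)) ^ 2 = t ^ 2 * (k : E) ^ 2 := by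
  rw [pow_two, pow_two, pow_two]
  calc t * k * (t * k) = t * (k * t) * k := by simp only [mul_assoc]
    _ = t * (t * k) * k := by rw [ht k k.2]
    _ = t * t * ((k : E) * k) := by simp only [mul_assoc]

theorem count_A (C : Subgroup E) (t : E) (ht : ∀ k ∈ C, t * k = k * t) (ht2 : t ^ 2 = 1) :
    Nat.card {k : ↥C // (t * (k : E)) ^ 2 = 1} = Nat.card {k : ↥C // k ^ 2 = 1} := by
  apply Nat.card_congr
  apply Equiv.subtypeEquivRight
  intro k
  rw [sq_mul C t ht k, ht2, one_mul]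
  constructor
  · intro h3; exact Subtype.ext (by simpa using h3)
  · intro h3
    have h4 := congrArg Subtype.val h3
    simpa using h4

theorem count_B (hE : Cfsg.IsExtraspecial 2 E) (z : E) (hz : z ∈ Subgroup.center E) (hz1 : z ≠ 1)
    (C : Subgroup E) (t : E) (ht : ∀ k ∈ C, t * k = k * t) (ht2 : t ^ 2 = z) :
    Nat.card {k : ↥C // (t * (k : E)) ^ 2 = 1} + Nat.card {k : ↥C // k ^ 2 = 1} =
      Nat.card ↥C := by
  classical
  have hiff : ∀ k : ↥C, (t * (k : E)) ^ 2 = 1 ↔ ¬ (k ^ 2 = 1) := by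
    intro k
    rw [sq_mul C t ht k, ht2]
    rcases es2_center hE z hz hz1 ((k : E) ^ 2) (es_pow_mem hE (k : E)) with h2 | h2
    · rw [h2, mul_one]
      constructor
      · intro h3; exact absurd h3 hz1
      · intro h3; exact absurd (Subtype.ext (by simpa using h2)) h3
    · rw [h2, ← pow_two, es_center_pow hE z hz]
      constructor
      · intro _ h3
        have h4 := congrArg Subtype.val h3
        simp only [Subgroup.coe_pow, Subgroup.coe_one] at h4
        rw [h2] at h4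
        exact hz1 h4
      · intro _; rfl
  rw [Nat.card_congr (Equiv.subtypeEquivRight hiff), add_comm, ← Nat.card_sum]
  exact Nat.card_congr (Equiv.sumCompl _)

theorem count_central (hE : Cfsg.IsExtraspecial 2 E) (C : Subgroup E)
    (hC : C ≤ Subgroup.center E) : Nat.card {k : ↥C // k ^ 2 = 1} = Nat.card ↥C := by
  apply Nat.card_congr
  apply Equiv.subtypeUnivEquiv
  intro k
  apply Subtype.ext
  have h3 := es_center_pow hE (k : E) (hC k.2)
  simpa using h3

theorem comm_pows (x y : E) (b c : ℕ) (k : E)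
    (hk : k ∈ Subgroup.centralizer ({x, y} : Set E)) :
    x ^ b * y ^ c * k = k * (x ^ b * y ^ c) := by
  obtain ⟨h1, h2⟩ := mem_cent_pair.mp hk
  have c1 : Commute k x := h1.symm
  have c2 : Commute k y := h2.symm
  exact ((c1.pow_right b).mul_right (c2.pow_right c)).eq.symm

theorem count_D (hE : Cfsg.IsExtraspecial 2 E) (x y z : E) (h : x * y = z * y * x)
    (hz : z ∈ Subgroup.center E) (hz1 : z ≠ 1) (hx : x ^ 2 = 1) (hy : y ^ 2 = 1) :
    Nat.card {e : E // e ^ 2 = 1} =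
      2 * Nat.card {k : ↥(Subgroup.centralizer ({x, y} : Set E)) // k ^ 2 = 1} +
        Nat.card ↥(Subgroup.centralizer ({x, y} : Set E)) := by
  rw [count_sum hE x y z h hz hz1, Fintype.sum_prod_type, Fin.sum_univ_two, Fin.sum_univ_two,
    Fin.sum_univ_two]
  dsimp only
  have hxx : x * x = 1 := by rw [← pow_two]; exact hx
  have hyy : y * y = 1 := by rw [← pow_two]; exact hy
  have hzz : z * z = 1 := by rw [← pow_two]; exact es_center_pow hE z hz
  have t00 : (x ^ ((0 : Fin 2) : ℕ) * y ^ ((0 : Fin 2) : ℕ)) ^ 2 = 1 := by simp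
  have t01 : (x ^ ((0 : Fin 2) : ℕ) * y ^ ((1 : Fin 2) : ℕ)) ^ 2 = 1 := by simp [hy]
  have t10 : (x ^ ((1 : Fin 2) : ℕ) * y ^ ((0 : Fin 2) : ℕ)) ^ 2 = 1 := by simp [hx]
  have t11 : (x ^ ((1 : Fin 2) : ℕ) * y ^ ((1 : Fin 2) : ℕ)) ^ 2 = z := by
    simp only [Fin.val_one, pow_one]
    calc (x * y) ^ 2 = (x * y) * (x * y) := pow_two _
      _ = (z * y * x) * (x * y) := congrArg (· * (x * y)) h
      _ = z * y * (x * x) * y := by simp only [mul_assoc]
      _ = z := by rw [hxx, mul_one, mul_assoc, hyy, mul_one]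
  rw [count_A _ _ (fun k hk => comm_pows x y _ _ k hk) t00,
    count_A _ _ (fun k hk => comm_pows x y _ _ k hk) t01,
    count_A _ _ (fun k hk => comm_pows x y _ _ k hk) t10]
  have hB := count_B hE z hz hz1 _ _ (fun k hk => comm_pows x y _ _ k hk) t11
  omega

theorem count_Q (hE : Cfsg.IsExtraspecial 2 E) (x y z : E) (h : x * y = z * y * x)
    (hz : z ∈ Subgroup.center E) (hz1 : z ≠ 1) (hx : x ^ 2 = z) (hy : y ^ 2 = z) :
    Nat.card {e : E // e ^ 2 = 1} +
      2 * Nat.card {k : ↥(Subgroup.centralizer ({x, y} : Set E)) // k ^ 2 = 1} =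
        3 * Nat.card ↥(Subgroup.centralizer ({x, y} : Set E)) := by
  rw [count_sum hE x y z h hz hz1, Fintype.sum_prod_type, Fin.sum_univ_two, Fin.sum_univ_two,
    Fin.sum_univ_two]
  dsimp only
  have hxx : x * x = z := by rw [← pow_two]; exact hx
  have hyy : y * y = z := by rw [← pow_two]; exact hy
  have hzz : z * z = 1 := by rw [← pow_two]; exact es_center_pow hE z hz
  have t00 : (x ^ ((0 : Fin 2) : ℕ) * y ^ ((0 : Fin 2) : ℕ)) ^ 2 = 1 := by simp
  have t01 : (x ^ ((0 : Fin 2) : ℕ) * y ^ ((1 : Fin 2) : ℕ)) ^ 2 = z := by simp [hy]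
  have t10 : (x ^ ((1 : Fin 2) : ℕ) * y ^ ((0 : Fin 2) : ℕ)) ^ 2 = z := by simp [hx]
  have t11 : (x ^ ((1 : Fin 2) : ℕ) * y ^ ((1 : Fin 2) : ℕ)) ^ 2 = z := by
    simp only [Fin.val_one, pow_one]
    calc (x * y) ^ 2 = (x * y) * (x * y) := pow_two _
      _ = (z * y * x) * (x * y) := congrArg (· * (x * y)) h
      _ = z * y * (x * x) * y := by simp only [mul_assoc]
      _ = z * (y * z) * y := by rw [hxx]; simp only [mul_assoc]
      _ = z * (z * y) * y := by rw [Subgroup.mem_center_iff.mp hz y]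
      _ = z * z * (y * y) := by simp only [mul_assoc]
      _ = z := by rw [hzz, one_mul, hyy]
  rw [count_A _ _ (fun k hk => comm_pows x y _ _ k hk) t00]
  have hB01 := count_B hE z hz hz1 _ _ (fun k hk => comm_pows x y _ _ k hk) t01
  have hB10 := count_B hE z hz hz1 _ _ (fun k hk => comm_pows x y _ _ k hk) t10
  have hB11 := count_B hE z hz hz1 _ _ (fun k hk => comm_pows x y _ _ k hk) t11
  omega

end

end Cfsg.Agent.Lib.Helper3.Extra2
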