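import Cfsg.Prelude.Def_CaseTheorems
import Cfsg.Agent.S4416
import Mathlib

set_option autoImplicit false
set_option linter.unusedSectionVars false
set_option linter.unusedVariables false

namespace Cfsg.Agent.Lib.Helper3.Extra3

open Cfsg.Agent.Lib.Helper3.Extra Cfsg.Agent.S0099 Cfsg.Agent.Lib.Helper3.Extra2 Cfsg.Agent.S4416

universe u

section
variable {E : Type*} [Group E] [Finite E]

/-- Adjoining a commuting involution to an elementary abelian 2-subgroup. -/
theorem adjoin_invol (B : Subgroup E) (hBc : ∀ a ∈ B, ∀ b ∈ B, a * b = b * a)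
    (hB2 : ∀ a ∈ B, a ^ 2 = 1) (x : E) (hx2 : x ^ 2 = 1) (hxB : ∀ a ∈ B, x * a = a * x)
    (hxn : x ∉ B) :
    ∃ B' : Subgroup E, B ≤ B' ∧ x ∈ B' ∧ (∀ a ∈ B', ∀ b ∈ B', a * b = b * a) ∧
      (∀ a ∈ B', a ^ 2 = 1) ∧ 2 * Nat.card B ≤ Nat.card B' := by
  have hcomm : ∀ (b : B) (c : Subgroup.zpowers x),
      Commute (B.subtype b) ((Subgroup.zpowers x).subtype c) := by
    intro b c
    obtain ⟨i, hi⟩ := Subgroup.mem_zpowers_iff.mp c.2
    show (b : E) * (c : E) = c * b
    rw [← hi]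
    have h1 : Commute x (b : E) := hxB b b.2
    exact ((h1.zpow_left i).eq).symm
  obtain ⟨f, hf⟩ : ∃ f : B × Subgroup.zpowers x →* E,
      ∀ p : B × Subgroup.zpowers x, f p = (p.1 : E) * (p.2 : E) :=
    ⟨MonoidHom.noncommCoprod B.subtype (Subgroup.zpowers x).subtype hcomm, fun p => rfl⟩
  have hpq : ∀ p q : B × Subgroup.zpowers x, p * q = q * p := by
    intro p q
    apply Prod.ext
    · exact Subtype.ext (hBc _ p.1.2 _ q.1.2)
    · obtain ⟨i, hi⟩ := Subgroup.mem_zpowers_iff.mp p.2.2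
      obtain ⟨j, hj⟩ := Subgroup.mem_zpowers_iff.mp q.2.2
      apply Subtype.ext
      show (p.2 : E) * (q.2 : E) = q.2 * p.2
      rw [← hi, ← hj, ← zpow_add, ← zpow_add, add_comm]
  have hp2 : ∀ p : B × Subgroup.zpowers x, p ^ 2 = 1 := by
    intro p
    apply Prod.ext
    · exact Subtype.ext (by simpa using hB2 _ p.1.2)
    · obtain ⟨i, hi⟩ := Subgroup.mem_zpowers_iff.mp p.2.2
      apply Subtype.ext
      show ((p.2 ^ 2 : Subgroup.zpowers x) : E) = 1
      rw [Subgroup.coe_pow, ← hi, ← zpow_natCast, ← zpow_mul, mul_comm, zpow_mul, zpow_natCast,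
        hx2, one_zpow]
  have hle : B ≤ f.range := by
    intro b hb
    exact ⟨(⟨b, hb⟩, 1), by rw [hf]; simp⟩
  have hxr : x ∈ f.range := ⟨(1, ⟨x, Subgroup.mem_zpowers x⟩), by rw [hf]; simp⟩
  refine ⟨f.range, hle, hxr, ?_, ?_, ?_⟩
  · rintro _ ⟨p, rfl⟩ _ ⟨q, rfl⟩
    rw [← map_mul, ← map_mul, hpq]
  · rintro _ ⟨p, rfl⟩
    rw [← map_pow, hp2, map_one]
  · obtain ⟨k, hk⟩ := Subgroup.card_dvd_of_le hle
    have hpos : 0 < Nat.card f.range := Nat.card_pos
    have hk1 : k ≠ 1 := by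
      intro h1
      rw [h1, mul_one] at hk
      have h2 : B = f.range := Subgroup.eq_of_le_of_card_ge hle hk.le
      apply hxn
      rw [h2]
      exact hxr
    have hk0 : k ≠ 0 := by
      rintro rfl
      rw [mul_zero] at hk
      omega
    have hk2 : 2 ≤ k := by omega
    rw [hk]
    calc 2 * Nat.card B = Nat.card B * 2 := by ring
      _ ≤ Nat.card B * k := Nat.mul_le_mul_left _ hk2

theorem card_le_two_mul_ker {Z : Type*} [Group Z] (f : E →* Z) (hZ : Nat.card Z = 2)
    (A : Subgroup E) : Nat.card A ≤ 2 * Nat.card ↥(A ⊓ f.ker) := by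
  have hfin : Finite Z := Nat.finite_of_card_ne_zero (by rw [hZ]; norm_num)
  have h1 := Subgroup.card_mul_index (f.comp A.subtype).ker
  have h2 : (f.comp A.subtype).ker.index = Nat.card (f.comp A.subtype).range :=
    Subgroup.index_ker _
  have h3 : Nat.card (f.comp A.subtype).range ≤ 2 := by
    rw [← hZ]; exact Subgroup.card_le_card_group _
  have h4 : Nat.card (f.comp A.subtype).ker = Nat.card ↥(A ⊓ f.ker) := by
    have h5 : (f.comp A.subtype).ker.map A.subtype = A ⊓ f.ker := by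
      ext g
      constructor
      · rintro ⟨a, ha, rfl⟩
        exact ⟨a.2, ha⟩
      · rintro ⟨hA, hk⟩
        exact ⟨⟨g, hA⟩, hk, rfl⟩
    rw [← h5, Subgroup.card_map_of_injective A.subtype_injective]
  rw [h2, h4] at h1
  calc Nat.card A = Nat.card ↥(A ⊓ f.ker) * Nat.card (f.comp A.subtype).range := h1.symm
    _ ≤ Nat.card ↥(A ⊓ f.ker) * 2 := Nat.mul_le_mul_left _ h3
    _ = 2 * Nat.card ↥(A ⊓ f.ker) := by ring

theorem rank_up (hE : Cfsg.IsExtraspecial 2 E) (x y z : E) (h : x * y = z * y * x)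
    (hz : z ∈ Subgroup.center E) (hz1 : z ≠ 1) (hx : x ^ 2 = 1) (k : ℕ)
    (hC : Cfsg.PRankLE 2 k ↥(Subgroup.centralizer ({x, y} : Set E))) :
    Cfsg.PRankLE 2 (k + 1) E := by
  have S1 : ∀ A : Subgroup E, (∀ a ∈ A, ∀ b ∈ A, a * b = b * a) → (∀ a ∈ A, a ^ 2 = 1) →
      x ∈ A → Nat.card A ≤ 2 ^ (k + 1) := by
    intro A hAc hA2 hxA
    have h1 := card_le_two_mul_ker (commHom (es_comm_mem hE) y) hE.2 A
    obtain ⟨B, hB⟩ : ∃ B : Subgroup E, B = A ⊓ (commHom (es_comm_mem hE) y).ker := ⟨_, rfl⟩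
    rw [← hB] at h1
    have hBA : B ≤ A := by rw [hB]; exact inf_le_left
    have hBC : B ≤ Subgroup.centralizer ({x, y} : Set E) := by
      intro b hb
      rw [hB] at hb
      obtain ⟨hbA, hbk⟩ := hb
      rw [mem_cent_pair]
      refine ⟨hAc x hxA b hbA, ?_⟩
      have h3 : b * y * b⁻¹ * y⁻¹ = 1 := congrArg Subtype.val (MonoidHom.mem_ker.mp hbk)
      have h4 : b * y * b⁻¹ = y := mul_inv_eq_one.mp h3
      exact (mul_inv_eq_iff_eq_mul.mp h4).symm
    have h2 := hC (B.subgroupOf (Subgroup.centralizer ({x, y} : Set E)))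
      ⟨⟨fun a b => Subtype.ext (Subtype.ext (hAc _ (hBA a.2) _ (hBA b.2)))⟩⟩
      (fun a ha => Subtype.ext (by simpa using hA2 _ (hBA ha)))
    rw [Nat.card_congr (Subgroup.subgroupOfEquivOfLe hBC).toEquiv] at h2
    calc Nat.card A ≤ 2 * Nat.card B := h1
      _ ≤ 2 * 2 ^ k := Nat.mul_le_mul_left 2 h2
      _ = 2 ^ (k + 1) := by ring
  intro A hAcomm hA2
  have hAc : ∀ a ∈ A, ∀ b ∈ A, a * b = b * a := fun a ha b hb =>
    congrArg Subtype.val (hAcomm.is_comm.comm ⟨a, ha⟩ ⟨b, hb⟩)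
  by_cases hxA : x ∈ A
  · exact S1 A hAc hA2 hxA
  · have h1 := card_le_two_mul_ker (commHom (es_comm_mem hE) x) hE.2 A
    obtain ⟨A₁, hA₁⟩ : ∃ A₁ : Subgroup E, A₁ = A ⊓ (commHom (es_comm_mem hE) x).ker := ⟨_, rfl⟩
    rw [← hA₁] at h1
    have hA₁A : A₁ ≤ A := by rw [hA₁]; exact inf_le_left
    have hx1 : ∀ a ∈ A₁, x * a = a * x := by
      intro a ha
      rw [hA₁] at ha
      obtain ⟨-, hak⟩ := ha
      have h3 : a * x * a⁻¹ * x⁻¹ = 1 := congrArg Subtype.val (MonoidHom.mem_ker.mp hak)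
      have h4 : a * x * a⁻¹ = x := mul_inv_eq_one.mp h3
      exact (mul_inv_eq_iff_eq_mul.mp h4).symm
    obtain ⟨B', hB1, hxB', hB'c, hB'2, hcard⟩ := adjoin_invol A₁
      (fun a ha b hb => hAc a (hA₁A ha) b (hA₁A hb)) (fun a ha => hA2 a (hA₁A ha)) x hx hx1
      (fun hx' => hxA (hA₁A hx'))
    have h2 := S1 B' hB'c hB'2 hxB'
    omega

theorem rank_down (hE : Cfsg.IsExtraspecial 2 E) (x y z : E) (h : x * y = z * y * x)
    (hz : z ∈ Subgroup.center E) (hz1 : z ≠ 1) (hx : x ^ 2 = 1) (k : ℕ)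
    (hEk : Cfsg.PRankLE 2 (k + 1) E) :
    Cfsg.PRankLE 2 k ↥(Subgroup.centralizer ({x, y} : Set E)) := by
  intro A hAcomm hA2
  obtain ⟨B, hB⟩ : ∃ B : Subgroup E,
      B = A.map (Subgroup.centralizer ({x, y} : Set E)).subtype := ⟨_, rfl⟩
  have hBC : B ≤ Subgroup.centralizer ({x, y} : Set E) := by
    rw [hB]; exact Subgroup.map_subtype_le A
  have hcard : Nat.card B = Nat.card A := by
    rw [hB]; exact Subgroup.card_map_of_injective (Subgroup.subtype_injective _)
  have hBc : ∀ a ∈ B, ∀ b ∈ B, a * b = b * a := by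
    intro a ha b hb
    rw [hB] at ha hb
    obtain ⟨a, ha, rfl⟩ := ha
    obtain ⟨b, hb, rfl⟩ := hb
    exact congrArg Subtype.val (congrArg Subtype.val (hAcomm.is_comm.comm ⟨a, ha⟩ ⟨b, hb⟩))
  have hB2 : ∀ a ∈ B, a ^ 2 = 1 := by
    intro a ha
    rw [hB] at ha
    obtain ⟨a, ha, rfl⟩ := ha
    have h3 := congrArg Subtype.val (hA2 a ha)
    simpa using h3
  have hxC : x ∉ Subgroup.centralizer ({x, y} : Set E) := by
    intro hxC
    have h3 := (mem_cent_pair.mp hxC).2
    apply hz1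
    have h4 : z * (y * x) = 1 * (y * x) := by rw [one_mul, ← mul_assoc, ← h, h3]
    exact mul_right_cancel h4
  have hxB : ∀ a ∈ B, x * a = a * x := fun a ha => (mem_cent_pair.mp (hBC ha)).1
  obtain ⟨B', hB1, hxB', hB'c, hB'2, hcard'⟩ := adjoin_invol B hBc hB2 x hx hxB
    (fun hx' => hxC (hBC hx'))
  have h2 := hEk B' ⟨⟨fun a b => Subtype.ext (hB'c _ a.2 _ b.2)⟩⟩ hB'2
  rw [pow_succ] at h2
  omega

theorem rank0 (hE : Cfsg.IsExtraspecial 2 E) : ¬ Cfsg.PRankLE 2 0 E := by
  intro h0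
  have h1 := h0 (Subgroup.center E)
    ⟨⟨fun a b => Subtype.ext (Subgroup.mem_center_iff.mp b.2 a.1)⟩⟩
    (fun a ha => es_center_pow hE a ha)
  rw [hE.2] at h1
  norm_num at h1

theorem rankZ (hE : Cfsg.IsExtraspecial 2 E) (C : Subgroup E) (hC : C ≤ Subgroup.center E)
    (hcard : Nat.card C = 2) (k : ℕ) : Cfsg.PRankLE 2 k ↥C ↔ 1 ≤ k := by
  constructor
  · intro h
    by_contra hk
    have hk0 : k = 0 := by omega
    subst hk0
    have h1 := h ⊤
      ⟨⟨fun a b => Subtype.ext (Subtype.ext (Subgroup.mem_center_iff.mp (hC b.1.2) a.1.1))⟩⟩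
      (fun a _ => Subtype.ext (by simpa using es_center_pow hE (a : E) (hC a.2)))
    rw [Subgroup.card_top, hcard] at h1
    norm_num at h1
  · intro hk A _ _
    calc Nat.card A ≤ Nat.card C := Subgroup.card_le_card_group A
      _ = 2 ^ 1 := by rw [hcard]; norm_num
      _ ≤ 2 ^ k := Nat.pow_le_pow_right (by norm_num) hk

theorem rankQ (hE : Cfsg.IsExtraspecial 2 E) (q : QData E) (k : ℕ) :
    Cfsg.PRankLE 2 k E ↔ 1 ≤ k := by
  constructor
  · intro h
    by_contra hk
    have hk0 : k = 0 := by omega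
    subst hk0
    exact rank0 hE h
  · intro hk A _ hA2
    have h1 : Nat.card A ≤ Nat.card {e : E // e ^ 2 = 1} :=
      Nat.card_le_card_of_injective (fun a : A => (⟨a.1, hA2 a.1 a.2⟩ : {e : E // e ^ 2 = 1}))
        (fun a b hab => Subtype.ext
          (show (a : E) = (b : E) from congrArg (fun t : {e : E // e ^ 2 = 1} => (t : E)) hab))
    rw [count_card8_Q hE q] at h1
    calc Nat.card A ≤ 2 ^ 1 := by omega
      _ ≤ 2 ^ k := Nat.pow_le_pow_right (by norm_num) hk

end

theorem rank_main : ∀ (n : ℕ) (E : Type u) [Group E] [Finite E], Nat.card E = n →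
    Cfsg.IsExtraspecial 2 E → ∀ m : ℕ, n = 2 ^ (2 * m + 1) →
      (Nat.card {e : E // e ^ 2 = 1} = 2 ^ (2 * m) + 2 ^ m →
        ∀ k, Cfsg.PRankLE 2 k E ↔ m + 1 ≤ k) ∧
      (Nat.card {e : E // e ^ 2 = 1} = 2 ^ (2 * m) - 2 ^ m →
        ∀ k, Cfsg.PRankLE 2 k E ↔ m ≤ k) := by
  intro n
  induction n using Nat.strong_induction_on with
  | _ n ih =>
    intro E _ _ hn hE m hm
    rcases dichotomy hE with d | q
    · obtain ⟨x, y, z, hz, hz1, hxy, hx, hy⟩ := d
      have h0 := rank0 hE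
      have hstep : ∀ k, Cfsg.PRankLE 2 (k + 1) E ↔
          Cfsg.PRankLE 2 k ↥(Subgroup.centralizer ({x, y} : Set E)) := fun k =>
        ⟨rank_down hE x y z hxy hz hz1 hx k, rank_up hE x y z hxy hz hz1 hx k⟩
      by_cases hC : Subgroup.centralizer ({x, y} : Set E) ≤ Subgroup.center E
      · have h8 := card8_of_cent_le hE x y z hxy hz hz1 hC
        have hm1 : m = 1 := by
          have h3 : 2 ^ (2 * m + 1) = 2 ^ 3 := by rw [← hm, ← hn, h8]; norm_num
          have h4 := Nat.pow_right_injective (le_refl 2) h3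
          omega
        subst hm1
        have hi := count_card8_D hE ⟨x, y, z, hz, hz1, hxy, hx, hy⟩ h8
        have hZ := rankZ hE _ hC (es_cent_card_of_le hE x y hC)
        constructor
        · intro _ k
          cases k with
          | zero => exact ⟨fun h => absurd h h0, fun h => by omega⟩
          | succ k => rw [hstep, hZ]; omega
        · intro hi'
          rw [hi] at hi'
          norm_num at hi'
      · obtain ⟨hes, -⟩ := cent_extraspecial hE x y z hxy hz hz1 hC
        have hcard := es_card hE x y z hxy hz hz1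
        have hlt : Nat.card (Subgroup.centralizer ({x, y} : Set E)) < n := by
          have hpos : 0 < Nat.card (Subgroup.centralizer ({x, y} : Set E)) := Nat.card_pos
          omega
        obtain ⟨m', hm'1, hm'c, hm'i⟩ :=
          orderCount _ (↥(Subgroup.centralizer ({x, y} : Set E))) rfl hes
        have hmm : m = m' + 1 := by
          have h3 : 2 ^ (2 * m + 1) = 2 ^ (2 * (m' + 1) + 1) := by
            rw [← hm, ← hn, hcard, hm'c]; ring
          have h4 := Nat.pow_right_injective (le_refl 2) h3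
          omega
        subst hmm
        have hD := count_D hE x y z hxy hz hz1 hx hy
        obtain ⟨ihp, ihm⟩ := ih _ hlt (↥(Subgroup.centralizer ({x, y} : Set E))) rfl hes m' hm'c
        have e1 : 2 ^ (2 * (m' + 1)) = 4 * 2 ^ (2 * m') := by ring
        have e2 : 2 ^ (m' + 1) = 2 * 2 ^ m' := by ring
        have e3 : 2 ^ (2 * m' + 1) = 2 * 2 ^ (2 * m') := by ring
        have hle : 2 ^ m' ≤ 2 ^ (2 * m') := Nat.pow_le_pow_right (by norm_num) (by omega)
        have hpos : 0 < 2 ^ m' := by positivity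
        constructor
        · intro hi k
          have hiC : Nat.card {k : ↥(Subgroup.centralizer ({x, y} : Set E)) // k ^ 2 = 1} =
              2 ^ (2 * m') + 2 ^ m' := by
            rcases hm'i with h | h
            · exact h
            · exfalso
              rw [hD, h, hm'c, e1, e2, e3] at hi
              omega
          cases k with
          | zero => exact ⟨fun h => absurd h h0, fun h => by omega⟩
          | succ k => rw [hstep, ihp hiC]; omega
        · intro hi k
          have hiC : Nat.card {k : ↥(Subgroup.centralizer ({x, y} : Set E)) // k ^ 2 = 1} =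
              2 ^ (2 * m') - 2 ^ m' := by
            rcases hm'i with h | h
            · exfalso
              rw [hD, h, hm'c, e1, e2, e3] at hi
              omega
            · exact h
          cases k with
          | zero => exact ⟨fun h => absurd h h0, fun h => by omega⟩
          | succ k => rw [hstep, ihm hiC]; omega
    · have h8 := card8_of_QData hE q
      have hm1 : m = 1 := by
        have h3 : 2 ^ (2 * m + 1) = 2 ^ 3 := by rw [← hm, ← hn, h8]; norm_num
        have h4 := Nat.pow_right_injective (le_refl 2) h3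
        omega
      subst hm1
      have hi := count_card8_Q hE q
      constructor
      · intro hi'
        rw [hi] at hi'
        norm_num at hi'
      · intro _ k
        rw [rankQ hE q]

end Cfsg.Agent.Lib.Helper3.Extra3
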