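import Cfsg.Agent.Lib.Helper3.Extra3
import Mathlib

set_option autoImplicit false
set_option linter.unusedSectionVars false
set_option linter.unusedVariables false

namespace Cfsg.Agent.Lib.Helper3.Extra4

open Cfsg.Agent.Lib.Helper3 Cfsg.Agent.Lib.Helper3.Extra Cfsg.Agent.S0099
  Cfsg.Agent.Lib.Helper3.Extra2 Cfsg.Agent.S4416 Cfsg.Agent.Lib.Helper3.Extra3

open scoped commutatorElement

/-- Elementwise criterion for an extraspecial 2-group. -/
theorem es2_of_data {G : Type*} [Group G] [Finite G] (hG : IsPGroup 2 G) (z : G) (hz1 : z ≠ 1)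
    (hz2 : z ^ 2 = 1) (hzc : ∀ g, g * z = z * g)
    (hcen : ∀ c, (∀ g, g * c = c * g) → c = 1 ∨ c = z)
    (hcomm : ∀ a b : G, ∃ w, (∀ g, g * w = w * g) ∧ a * b = w * b * a)
    (hsq : ∀ a g : G, g * a ^ 2 = a ^ 2 * g) (hna : ∃ a b : G, a * b ≠ b * a) :
    Cfsg.IsExtraspecial 2 G := by
  have hzcen : z ∈ Subgroup.center G := Subgroup.mem_center_iff.mpr hzc
  have hcenter : Subgroup.center G = Subgroup.zpowers z := by
    apply le_antisymm
    · intro c hc
      rcases hcen c (Subgroup.mem_center_iff.mp hc) with h | h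
      · rw [h]; exact Subgroup.one_mem _
      · rw [h]; exact Subgroup.mem_zpowers z
    · exact Subgroup.zpowers_le.mpr hzcen
  have hcard : Nat.card (Subgroup.center G) = 2 := by
    rw [hcenter, Nat.card_zpowers]
    exact orderOf_eq_prime hz2 hz1
  have hcomm_le : commutator G ≤ Subgroup.center G := by
    rw [commutator_eq_closure, Subgroup.closure_le]
    rintro _ ⟨a, b, rfl⟩
    obtain ⟨w, hw, hab⟩ := hcomm a b
    have h1 : ⁅a, b⁆ = w := by
      rw [commutatorElement_def, hab]; group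
    rw [SetLike.mem_coe, h1]
    exact Subgroup.mem_center_iff.mpr hw
  have hcomm_ge : Subgroup.center G ≤ commutator G := by
    obtain ⟨a, b, hab⟩ := hna
    obtain ⟨w, hw, hab'⟩ := hcomm a b
    have hw1 : w ≠ 1 := by
      intro h
      rw [h, one_mul] at hab'
      exact hab hab'
    have hwz : w = z := by
      rcases hcen w hw with h | h
      · exact absurd h hw1
      · exact h
    have h1 : ⁅a, b⁆ = z := by
      rw [commutatorElement_def, hab', hwz]; group
    rw [hcenter, Subgroup.zpowers_le, ← h1]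
    exact Subgroup.commutator_mem_commutator (Subgroup.mem_top a) (Subgroup.mem_top b)
  have hcomm_eq : commutator G = Subgroup.center G := le_antisymm hcomm_le hcomm_ge
  have : Fact (Nat.Prime 2) := ⟨Nat.prime_two⟩
  have hfr : frattini G = Subgroup.center G := by
    apply le_antisymm
    · apply frattini_le_of_elementary (p := 2) _ hcomm_le
      intro t
      exact Subgroup.mem_center_iff.mpr (hsq t)
    · rw [← hcomm_eq]; exact comm_le_frattini hG
  exact ⟨⟨hG, hfr, hcomm_eq⟩, hcard⟩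

section next
variable {E : Type} [Group E]

/-- `κ 0 = 1`, `κ 1 = z`. -/
def kap (z : E) (s : ZMod 2) : E := if s = 0 then 1 else z

theorem kap_zero (z : E) : kap z 0 = 1 := by simp [kap]

theorem kap_one (z : E) : kap z 1 = z := by
  have : (1 : ZMod 2) ≠ 0 := by decide
  simp [kap, this]

theorem zmod2_cases (s : ZMod 2) : s = 0 ∨ s = 1 := by
  revert s; decide

theorem kap_add (z : E) (hz2 : z ^ 2 = 1) (s t : ZMod 2) :
    kap z (s + t) = kap z s * kap z t := by
  have hzz : z * z = 1 := by rw [← pow_two]; exact hz2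
  have h11 : (1 : ZMod 2) + 1 = 0 := by decide
  rcases zmod2_cases s with rfl | rfl <;> rcases zmod2_cases t with rfl | rfl
  · simp [kap_zero]
  · simp [kap_zero, kap_one]
  · simp [kap_zero, kap_one]
  · rw [h11, kap_zero, kap_one, hzz]

theorem kap_comm (z : E) (hz : z ∈ Subgroup.center E) (s : ZMod 2) (g : E) :
    kap z s * g = g * kap z s := by
  rcases zmod2_cases s with rfl | rfl
  · simp [kap_zero]
  · rw [kap_one]; exact (Subgroup.mem_center_iff.mp hz g).symm

/-- The central product `D₈ ∘ E` as a cocycle extension of `E` by `(ZMod 2)²`. -/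
@[ext] structure NExt (z : E) where
  b : ZMod 2
  c : ZMod 2
  e : E

variable (z : E)

instance NExt.instMul : Mul (NExt z) :=
  ⟨fun m n => ⟨m.b + n.b, m.c + n.c, kap z (m.c * n.b) * m.e * n.e⟩⟩
instance NExt.instOne : One (NExt z) := ⟨⟨0, 0, 1⟩⟩
instance NExt.instInv : Inv (NExt z) := ⟨fun m => ⟨m.b, m.c, kap z (m.c * m.b) * m.e⁻¹⟩⟩

theorem NExt.mul_b (m n : NExt z) : (m * n).b = m.b + n.b := rfl
theorem NExt.mul_c (m n : NExt z) : (m * n).c = m.c + n.c := rfl
theorem NExt.mul_e (m n : NExt z) : (m * n).e = kap z (m.c * n.b) * m.e * n.e := rfl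
theorem NExt.one_b : (1 : NExt z).b = 0 := rfl
theorem NExt.one_c : (1 : NExt z).c = 0 := rfl
theorem NExt.one_e : (1 : NExt z).e = 1 := rfl
theorem NExt.inv_b (m : NExt z) : (m⁻¹).b = m.b := rfl
theorem NExt.inv_c (m : NExt z) : (m⁻¹).c = m.c := rfl
theorem NExt.inv_e (m : NExt z) : (m⁻¹).e = kap z (m.c * m.b) * m.e⁻¹ := rfl

instance NExt.instGroup [hz : Fact (z ∈ Subgroup.center E ∧ z ^ 2 = 1)] : Group (NExt z) where
  mul_assoc m n k := by
    ext
    · simp only [NExt.mul_b]; ring
    · simp only [NExt.mul_c]; ring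
    · simp only [NExt.mul_e, NExt.mul_b, NExt.mul_c]
      have h1 : kap z ((m.c + n.c) * k.b) * (kap z (m.c * n.b) * m.e * n.e) * k.e =
          kap z ((m.c + n.c) * k.b + m.c * n.b) * (m.e * n.e * k.e) := by
        rw [kap_add z hz.out.2]; simp only [mul_assoc]
      have h2 : kap z (m.c * (n.b + k.b)) * m.e * (kap z (n.c * k.b) * n.e * k.e) =
          kap z (m.c * (n.b + k.b) + n.c * k.b) * (m.e * n.e * k.e) := by
        rw [kap_add z hz.out.2]
        have h3 : m.e * (kap z (n.c * k.b) * n.e * k.e) = kap z (n.c * k.b) * (m.e * n.e * k.e) := by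
          rw [mul_assoc (kap z (n.c * k.b)), ← mul_assoc m.e, ← kap_comm z hz.out.1]
          simp only [mul_assoc]
        rw [mul_assoc (kap z (m.c * (n.b + k.b))), h3]
        simp only [mul_assoc]
      rw [h1, h2]
      congr 2
      ring
  one_mul m := by
    ext
    · simp only [NExt.mul_b, NExt.one_b]; ring
    · simp only [NExt.mul_c, NExt.one_c]; ring
    · simp only [NExt.mul_e, NExt.one_c, NExt.one_e, zero_mul, kap_zero, one_mul]
  mul_one m := by
    ext
    · simp only [NExt.mul_b, NExt.one_b]; ring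
    · simp only [NExt.mul_c, NExt.one_c]; ring
    · simp only [NExt.mul_e, NExt.one_b, NExt.one_e, mul_zero, kap_zero, one_mul, mul_one]
  inv_mul_cancel m := by
    ext
    · simp only [NExt.mul_b, NExt.inv_b, NExt.one_b]; exact CharTwo.add_self_eq_zero _
    · simp only [NExt.mul_c, NExt.inv_c, NExt.one_c]; exact CharTwo.add_self_eq_zero _
    · simp only [NExt.mul_e, NExt.inv_c, NExt.inv_e, NExt.one_e]
      rw [← mul_assoc, ← kap_add z hz.out.2, CharTwo.add_self_eq_zero, kap_zero, one_mul,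
        inv_mul_cancel]

end next

section nextfacts
variable {E : Type} [Group E] [Finite E] (z : E) [hzF : Fact (z ∈ Subgroup.center E ∧ z ^ 2 = 1)]

/-- The underlying equivalence. -/
def NExt.equiv : NExt z ≃ (ZMod 2 × ZMod 2) × E where
  toFun n := ((n.b, n.c), n.e)
  invFun q := ⟨q.1.1, q.1.2, q.2⟩
  left_inv n := rfl
  right_inv q := rfl

instance NExt.instFinite : Finite (NExt z) := Finite.of_equiv _ (NExt.equiv z).symm

theorem NExt.card : Nat.card (NExt z) = 4 * Nat.card E := by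
  rw [Nat.card_congr (NExt.equiv z), Nat.card_prod, Nat.card_prod, Nat.card_zmod]

theorem NExt.central_of (c₀ : E) (hc₀ : c₀ ∈ Subgroup.center E) (g : NExt z) :
    g * (⟨0, 0, c₀⟩ : NExt z) = ⟨0, 0, c₀⟩ * g := by
  ext
  · simp only [NExt.mul_b]; ring
  · simp only [NExt.mul_c]; ring
  · simp only [NExt.mul_e, mul_zero, zero_mul, kap_zero, one_mul]
    exact Subgroup.mem_center_iff.mp hc₀ g.e

theorem kap_mem_center (s : ZMod 2) : kap z s ∈ Subgroup.center E := by
  rcases zmod2_cases s with rfl | rfl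
  · rw [kap_zero]; exact Subgroup.one_mem _
  · rw [kap_one]; exact hzF.out.1

theorem kap_self (s : ZMod 2) : kap z s * kap z s = 1 := by
  rw [← kap_add z hzF.out.2, CharTwo.add_self_eq_zero, kap_zero]

theorem NExt.sq (a : NExt z) : a ^ 2 = (⟨0, 0, kap z (a.c * a.b) * a.e * a.e⟩ : NExt z) := by
  rw [pow_two]
  ext
  · simp only [NExt.mul_b]; exact CharTwo.add_self_eq_zero _
  · simp only [NExt.mul_c]; exact CharTwo.add_self_eq_zero _
  · simp only [NExt.mul_e]

theorem NExt.extraspecial (hE : Cfsg.IsExtraspecial 2 E) (hz1 : z ≠ 1) :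
    Cfsg.IsExtraspecial 2 (NExt z) := by
  have hzc : z ∈ Subgroup.center E := hzF.out.1
  have hz2 : z ^ 2 = 1 := hzF.out.2
  have hzz : z * z = 1 := by rw [← pow_two]; exact hz2
  have h10 : (1 : ZMod 2) ≠ 0 := by decide
  have hkap1 : ∀ s : ZMod 2, kap z s = 1 → s = 0 := by
    intro s hs
    rcases zmod2_cases s with rfl | rfl
    · rfl
    · rw [kap_one] at hs; exact absurd hs hz1
  apply es2_of_data (z := (⟨0, 0, z⟩ : NExt z))
  · obtain ⟨k, hk⟩ := IsPGroup.iff_card.mp hE.1.1
    apply IsPGroup.of_card (n := k + 2)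
    rw [NExt.card, hk]; ring
  · intro h
    exact hz1 (congrArg NExt.e h)
  · rw [NExt.sq]
    ext
    · rfl
    · rfl
    · simp only [mul_zero, kap_zero, one_mul, NExt.one_e]; exact hzz
  · exact NExt.central_of z z hzc
  · intro c hc
    have hx := congrArg NExt.e (hc ⟨1, 0, 1⟩)
    simp only [NExt.mul_e, zero_mul, mul_one, kap_zero, one_mul] at hx
    have hy := congrArg NExt.e (hc ⟨0, 1, 1⟩)
    simp only [NExt.mul_e, mul_zero, mul_one, one_mul, kap_zero] at hy
    have hcc : c.c = 0 := by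
      apply hkap1
      have h3 : 1 * c.e = kap z c.c * c.e := by rw [one_mul]; exact hx
      exact (mul_right_cancel h3).symm
    have hcb : c.b = 0 := by
      apply hkap1
      have h3 : kap z c.b * c.e = 1 * c.e := by rw [one_mul]; exact hy
      exact mul_right_cancel h3
    have hce : c.e ∈ Subgroup.center E := by
      rw [Subgroup.mem_center_iff]
      intro g
      have hg := congrArg NExt.e (hc ⟨0, 0, g⟩)
      simp only [NExt.mul_e, zero_mul, mul_zero, kap_zero, one_mul] at hg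
      exact hg
    rcases es2_center hE z hzc hz1 c.e hce with h | h
    · left
      ext
      · exact hcb
      · exact hcc
      · exact h
    · right
      ext
      · exact hcb
      · exact hcc
      · exact h
  · intro a b
    have hK1 := kap_mem_center z (a.c * b.b)
    have hK2 := kap_mem_center z (b.c * a.b)
    have hW := es_comm_mem hE a.e b.e
    refine ⟨⟨0, 0, kap z (a.c * b.b) * kap z (b.c * a.b) * (a.e * b.e * a.e⁻¹ * b.e⁻¹)⟩,
      fun g => NExt.central_of z _ (Subgroup.mul_mem _ (Subgroup.mul_mem _ hK1 hK2) hW) g, ?_⟩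
    ext
    · simp only [NExt.mul_b]; ring
    · simp only [NExt.mul_c]; ring
    · simp only [NExt.mul_e, NExt.mul_c, zero_add, zero_mul, kap_zero, one_mul]
      have c1 : kap z (b.c * a.b) * kap z (a.c * b.b) = kap z (a.c * b.b) * kap z (b.c * a.b) :=
        kap_comm z hzc _ _
      have c2 := kap_self z (b.c * a.b)
      obtain ⟨W, hWdef⟩ : ∃ W : E, W = a.e * b.e * a.e⁻¹ * b.e⁻¹ := ⟨_, rfl⟩
      have h5 : W * b.e * a.e = a.e * b.e := by rw [hWdef]; group
      rw [← hWdef]
      revert c1 c2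
      generalize kap z (a.c * b.b) = K₁
      generalize kap z (b.c * a.b) = K₂
      intro c1 c2
      calc K₁ * a.e * b.e = K₁ * (K₂ * K₂) * (a.e * b.e) := by rw [c2, mul_one, mul_assoc]
        _ = (K₁ * K₂) * K₂ * (a.e * b.e) := by simp only [mul_assoc]
        _ = (K₂ * K₁) * K₂ * (W * b.e * a.e) := by rw [c1, h5]
        _ = K₂ * (K₁ * K₂ * W * b.e) * a.e := by simp only [mul_assoc]
  · intro a g
    rw [NExt.sq]
    refine NExt.central_of z _ ?_ g
    rw [mul_assoc]
    exact Subgroup.mul_mem _ (kap_mem_center z _) (by rw [← pow_two]; exact es_pow_mem hE a.e)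
  · refine ⟨⟨1, 0, 1⟩, ⟨0, 1, 1⟩, ?_⟩
    intro h
    have h3 := congrArg NExt.e h
    simp only [NExt.mul_e, mul_zero, mul_one, kap_zero, kap_one] at h3
    exact hz1 h3.symm

theorem zmod2_sum (f : ZMod 2 → ℕ) : ∑ b : ZMod 2, f b = f 0 + f 1 := Fin.sum_univ_two f

theorem NExt.count (hE : Cfsg.IsExtraspecial 2 E) (hz1 : z ≠ 1) :
    Nat.card {n : NExt z // n ^ 2 = 1} = 2 * Nat.card {e : E // e ^ 2 = 1} + Nat.card E := by
  classical
  have hzc : z ∈ Subgroup.center E := hzF.out.1
  have hz2 : z ^ 2 = 1 := hzF.out.2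
  have hzz : z * z = 1 := by rw [← pow_two]; exact hz2
  have e1 : {n : NExt z // n ^ 2 = 1} ≃
      {q : (ZMod 2 × ZMod 2) × E // kap z (q.1.2 * q.1.1) * q.2 * q.2 = 1} :=
    Equiv.subtypeEquiv (NExt.equiv z) (fun n => by
      rw [NExt.sq]
      constructor
      · intro h; exact congrArg NExt.e h
      · intro h
        ext
        · rfl
        · rfl
        · exact h)
  have e2 : {q : (ZMod 2 × ZMod 2) × E // kap z (q.1.2 * q.1.1) * q.2 * q.2 = 1} ≃
      Σ bc : ZMod 2 × ZMod 2, {e : E // kap z (bc.2 * bc.1) * e * e = 1} :=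
    Equiv.subtypeProdEquivSigmaSubtype
      (fun (bc : ZMod 2 × ZMod 2) (e : E) => kap z (bc.2 * bc.1) * e * e = 1)
  have hA : ∀ s : ZMod 2, s = 0 →
      Nat.card {e : E // kap z s * e * e = 1} = Nat.card {e : E // e ^ 2 = 1} := by
    intro s hs
    apply Nat.card_congr
    apply Equiv.subtypeEquivRight
    intro e
    rw [hs, kap_zero, one_mul, pow_two]
  have hB : Nat.card {e : E // kap z (1 * 1) * e * e = 1} + Nat.card {e : E // e ^ 2 = 1} =
      Nat.card E := by
    have hiff : ∀ e : E, kap z (1 * 1) * e * e = 1 ↔ ¬ (e ^ 2 = 1) := by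
      intro e
      rw [mul_one, kap_one, mul_assoc, ← pow_two]
      rcases es2_center hE z hzc hz1 (e ^ 2) (es_pow_mem hE e) with h2 | h2
      · rw [h2, mul_one]
        exact ⟨fun h3 => absurd h3 hz1, fun h3 => absurd rfl h3⟩
      · rw [h2, hzz]
        exact ⟨fun _ h3 => hz1 h3, fun _ => rfl⟩
    rw [Nat.card_congr (Equiv.subtypeEquivRight hiff), add_comm, ← Nat.card_sum]
    exact Nat.card_congr (Equiv.sumCompl _)
  rw [Nat.card_congr (e1.trans e2), Nat.card_sigma, Fintype.sum_prod_type, zmod2_sum]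
  simp only [zmod2_sum]
  rw [hA (0 * 0) (by ring), hA (1 * 0) (by ring), hA (0 * 1) (by ring)]
  omega

theorem next_step (hE : Cfsg.IsExtraspecial 2 E) :
    ∃ (E' : Type) (_ : Group E') (_ : Finite E'), Cfsg.IsExtraspecial 2 E' ∧
      Nat.card E' = 4 * Nat.card E ∧
      Nat.card {e : E' // e ^ 2 = 1} = 2 * Nat.card {e : E // e ^ 2 = 1} + Nat.card E := by
  obtain ⟨z, hz, hz1⟩ := es_exists_central hE
  have : Fact (z ∈ Subgroup.center E ∧ z ^ 2 = 1) := ⟨⟨hz, es_center_pow hE z hz⟩⟩
  exact ⟨NExt z, inferInstance, inferInstance, NExt.extraspecial z hE hz1, NExt.card z,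
    NExt.count z hE hz1⟩

end nextfacts

section models

theorem d8_es : Cfsg.IsExtraspecial 2 (DihedralGroup 4) := by
  refine es2_of_data ?_ (DihedralGroup.r 2) ?_ ?_ ?_ ?_ ?_ ?_ ?_
  · apply IsPGroup.of_card (n := 3)
    rw [DihedralGroup.nat_card]; norm_num
  · decide
  · decide
  · decide
  · decide
  · decide
  · decide
  · decide

theorem d8_count : Nat.card {x : DihedralGroup 4 // x ^ 2 = 1} = 6 := by
  rw [Nat.card_eq_fintype_card, Fintype.card_subtype]; decide

theorem q8_es : Cfsg.IsExtraspecial 2 (QuaternionGroup 2) := by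
  refine es2_of_data ?_ (QuaternionGroup.a 2) ?_ ?_ ?_ ?_ ?_ ?_ ?_
  · apply IsPGroup.of_card (n := 3)
    rw [Nat.card_eq_fintype_card, QuaternionGroup.card]; norm_num
  · decide
  · decide
  · decide
  · decide
  · decide
  · decide
  · decide

theorem q8_count : Nat.card {x : QuaternionGroup 2 // x ^ 2 = 1} = 2 := by
  rw [Nat.card_eq_fintype_card, Fintype.card_subtype]; decide

theorem exists_plus : ∀ n : ℕ, 1 ≤ n → ∃ (E : Type) (_ : Group E) (_ : Finite E),
    Cfsg.IsExtraspecial 2 E ∧ Nat.card E = 2 ^ (2 * n + 1) ∧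
      Nat.card {e : E // e ^ 2 = 1} = 2 ^ (2 * n) + 2 ^ n := by
  intro n hn
  induction n, hn using Nat.le_induction with
  | base =>
    exact ⟨DihedralGroup 4, inferInstance, inferInstance, d8_es,
      by rw [DihedralGroup.nat_card]; norm_num, by rw [d8_count]; norm_num⟩
  | succ n hn ih =>
    obtain ⟨E, _, _, hE, hc, hi⟩ := ih
    obtain ⟨E', g', f', hE', hc', hi'⟩ := next_step hE
    refine ⟨E', g', f', hE', ?_, ?_⟩
    · rw [hc', hc]; ring
    · rw [hi', hi, hc]; ring

theorem exists_minus : ∀ n : ℕ, 1 ≤ n → ∃ (E : Type) (_ : Group E) (_ : Finite E),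
    Cfsg.IsExtraspecial 2 E ∧ Nat.card E = 2 ^ (2 * n + 1) ∧
      Nat.card {e : E // e ^ 2 = 1} = 2 ^ (2 * n) - 2 ^ n := by
  intro n hn
  induction n, hn using Nat.le_induction with
  | base =>
    exact ⟨QuaternionGroup 2, inferInstance, inferInstance, q8_es,
      by rw [Nat.card_eq_fintype_card, QuaternionGroup.card]; norm_num,
      by rw [q8_count]; norm_num⟩
  | succ n hn ih =>
    obtain ⟨E, _, _, hE, hc, hi⟩ := ih
    obtain ⟨E', g', f', hE', hc', hi'⟩ := next_step hE
    refine ⟨E', g', f', hE', ?_, ?_⟩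
    · rw [hc', hc]; ring
    · rw [hi', hi, hc]
      have e1 : 2 ^ (2 * (n + 1)) = 4 * 2 ^ (2 * n) := by ring
      have e2 : 2 ^ (n + 1) = 2 * 2 ^ n := by ring
      have e3 : 2 ^ (2 * n + 1) = 2 * 2 ^ (2 * n) := by ring
      have hle : 2 ^ n ≤ 2 ^ (2 * n) := Nat.pow_le_pow_right (by norm_num) (by omega)
      rw [e1, e2, e3]
      omega

theorem sSup_rank {E : Type*} [Group E] [Finite E] (hE : Cfsg.IsExtraspecial 2 E) (r : ℕ)
    (hr : 1 ≤ r) (hprof : ∀ k, Cfsg.PRankLE 2 k E ↔ r ≤ k) :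
    sSup {k : ℕ | ∃ A : Subgroup E, Cfsg.IsElementaryAbelian 2 A ∧ Nat.card A = 2 ^ k} = r := by
  apply IsGreatest.csSup_eq
  constructor
  · have h1 : ¬ Cfsg.PRankLE 2 (r - 1) E := fun h => by
      have h3 := (hprof _).mp h
      omega
    unfold Cfsg.PRankLE at h1
    push Not at h1
    obtain ⟨A, hAc, hA2, hAcard⟩ := h1
    have h2 : Nat.card A ≤ 2 ^ r := (hprof r).mpr (le_refl r) A hAc hA2
    obtain ⟨j, hj⟩ := IsPGroup.iff_card.mp (hE.1.1.to_subgroup A)
    refine ⟨A, ⟨hAc, hA2⟩, ?_⟩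
    rw [hj] at hAcard h2 ⊢
    have h3 : r - 1 < j := (Nat.pow_lt_pow_iff_right (by norm_num)).mp hAcard
    have h4 : j ≤ r := (Nat.pow_le_pow_iff_right (by norm_num)).mp h2
    have h5 : j = r := by omega
    rw [h5]
  · rintro k ⟨A, ⟨hAc, hA2⟩, hk⟩
    have h2 : Nat.card A ≤ 2 ^ r := (hprof r).mpr (le_refl r) A hAc hA2
    rw [hk] at h2
    exact (Nat.pow_le_pow_iff_right (by norm_num)).mp h2

end models

end Cfsg.Agent.Lib.Helper3.Extra4
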