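import Mathlib
import Cfsg.Agent.Lib.Helper3.ZJ7
import Cfsg.Agent.S0057

/-!
# Control of strong fusion by `N(W(D))` for a strongly closed subgroup `D`

Generic induction (`sc_ctl`): for a class `𝒞` of groups closed under subgroups and quotients in
which the elementwise `p`-stability hypothesis of `zj_general` holds, and a functor `WD` on
subgroups as in `sc_npc`, `N_X(WD D)` controls strong fusion in a Sylow `p`-subgroup `S` whenever
`D` is strongly closed in `S`.  The proof reduces to `N(Z(J(S)))` by the classical theorem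
(helper42's section machinery), and then follows the usual case analysis
(`O_{p'} ≠ 1`, constrained, `S C(O_p) ≠ X`, `S C(O_p) = X`) with helper42's lemmas.
-/

set_option autoImplicit false

namespace Cfsg.Agent.Lib.Helper3.ZJ

open Cfsg
open Cfsg.Agent.Lib.Helper26
open Cfsg.Agent.Lib.Helper42
open scoped commutatorElement

universe u

/-- hypotheses on a functor on (strongly closed) subgroups -/
structure WDHyp (p : ℕ) (WD : ∀ (X : Type u) [Group X], Subgroup X → Subgroup X) : Prop where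
  map : ∀ (X X' : Type u) [Group X] [Group X'] (f : X →* X') (D : Subgroup X),
      (∀ u ∈ D, f u = 1 → u = 1) → WD X' (D.map f) = (WD X D).map f
  le : ∀ (X : Type u) [Group X] (D : Subgroup X), WD X D ≤ D
  ne_bot : ∀ (X : Type u) [Group X] [Finite X] (D : Subgroup X), IsPGroup p D → D ≠ ⊥ →
      WD X D ≠ ⊥

/-- hypotheses on a class of groups -/
structure ClassHyp (p : ℕ) (𝒞 : ∀ (X : Type u) [Group X], Prop) : Prop where
  sub : ∀ (X : Type u) [Group X], 𝒞 X → ∀ K : Subgroup X, 𝒞 ↥K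
  quot : ∀ (X : Type u) [Group X], 𝒞 X → ∀ (N : Subgroup X) [N.Normal], 𝒞 (X ⧸ N)
  stab : ∀ (X : Type u) [Group X] [Finite X], 𝒞 X →
    ∀ B : Subgroup X, B.Normal → IsPGroup p B → ∀ a : X,
      (∀ v ∈ B, a * ⁅a, v⁆ = ⁅a, v⁆ * a) →
      ∃ L : Subgroup X, L.Normal ∧ a ∈ L ∧
        ∀ l ∈ L, ∃ j : ℕ, l ^ p ^ j ∈ Subgroup.centralizer (B : Set X)

section wd

variable {p : ℕ} [Fact p.Prime] {WD : ∀ (X : Type u) [Group X], Subgroup X → Subgroup X}

omit [Fact p.Prime] in
theorem wd_cj (hW : WDHyp p WD) {X : Type u} [Group X] (g : X) (D : Subgroup X) :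
    WD X (cj g D) = cj g (WD X D) :=
  hW.map X X (MulAut.conj g).toMonoidHom D (fun u _ hu => by
    have : g * u * g⁻¹ = 1 := hu
    calc u = g⁻¹ * (g * u * g⁻¹) * g := by group
      _ = 1 := by rw [this]; group)

omit [Fact p.Prime] in
theorem wd_normalizer_le (hW : WDHyp p WD) {X : Type u} [Group X] (D : Subgroup X) :
    Subgroup.normalizer (D : Set X) ≤ Subgroup.normalizer (WD X D : Set X) := by
  intro x hx
  rw [← cj_eq_self_iff] at hx ⊢
  rw [← wd_cj hW, hx]

omit [Fact p.Prime] in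
theorem wd_normal (hW : WDHyp p WD) {X : Type u} [Group X] (D : Subgroup X) (hD : D.Normal) :
    (WD X D).Normal := by
  rw [← Subgroup.normalizer_eq_top_iff, eq_top_iff]
  exact (Subgroup.normalizer_eq_top_iff.mpr hD).ge.trans (wd_normalizer_le hW D)

omit [Fact p.Prime] in
theorem sc_le_normalizer {X : Type u} [Group X] {D S : Subgroup X} (hD : IsStronglyClosed D S) :
    S ≤ Subgroup.normalizer (D : Set X) := by
  intro s hs
  rw [Subgroup.mem_normalizer_iff]
  intro h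
  constructor
  · intro hh
    exact hD.2 h hh s (S.mul_mem (S.mul_mem hs (hD.1 hh)) (S.inv_mem hs))
  · intro hh
    have h1 : s⁻¹ * (s * h * s⁻¹) * s⁻¹⁻¹ ∈ S := by
      rw [inv_inv]
      exact S.mul_mem (S.mul_mem (S.inv_mem hs) (hD.1 hh)) hs
    have h2 := hD.2 _ hh s⁻¹ h1
    have e : s⁻¹ * (s * h * s⁻¹) * s⁻¹⁻¹ = h := by group
    rwa [e] at h2

omit [Fact p.Prime] in
theorem sc_le_normalizer_wd (hW : WDHyp p WD) {X : Type u} [Group X] {D S : Subgroup X}
    (hD : IsStronglyClosed D S) : S ≤ Subgroup.normalizer (WD X D : Set X) :=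
  (sc_le_normalizer hD).trans (wd_normalizer_le hW D)

omit [Fact p.Prime] in
/-- transport of factorizations from a subgroup containing the Sylow subgroup. -/
theorem fac_of_sub (hW : WDHyp p WD) {X : Type u} [Group X] [Finite X] (S : Sylow p X)
    (D : Subgroup X) (hD : IsStronglyClosed D (S : Subgroup X)) (K : Subgroup X)
    (hSK : (S : Subgroup X) ≤ K)
    (hK : ∀ (S' : Sylow p ↥K) (D' : Subgroup ↥K), IsStronglyClosed D' (S' : Subgroup ↥K) →
      ∀ (T' : Subgroup ↥K) (g' : ↥K), T' ≤ (S' : Subgroup ↥K) → cj g' T' ≤ (S' : Subgroup ↥K) →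
        Fac (Subgroup.normalizer (WD ↥K D' : Set ↥K)) T' g')
    (T : Subgroup X) (k : X) (hk : k ∈ K) (hT : T ≤ (S : Subgroup X))
    (hkT : cj k T ≤ (S : Subgroup X)) :
    Fac (Subgroup.normalizer (WD X D : Set X)) T k := by
  have hcoe : ((S.subtype hSK : Sylow p K) : Subgroup K) = (S : Subgroup X).subgroupOf K :=
    S.coe_subtype hSK
  have hmapD : (D.subgroupOf K).map K.subtype = D :=
    Subgroup.map_subgroupOf_eq_of_le (hD.1.trans hSK)
  have hJ1 : (WD ↥K (D.subgroupOf K)).map K.subtype = WD X D := by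
    rw [← hW.map ↥K X K.subtype (D.subgroupOf K) (fun u _ hu => Subtype.ext hu), hmapD]
  have hD' : IsStronglyClosed (D.subgroupOf K) ((S.subtype hSK : Sylow p K) : Subgroup K) := by
    rw [hcoe]
    refine ⟨fun x hx => Subgroup.mem_subgroupOf.mpr (hD.1 (Subgroup.mem_subgroupOf.mp hx)), ?_⟩
    intro x hx g hg
    exact Subgroup.mem_subgroupOf.mpr (hD.2 (x : X) (Subgroup.mem_subgroupOf.mp hx) (g : X)
      (Subgroup.mem_subgroupOf.mp hg))
  have h := hK (S.subtype hSK) (D.subgroupOf K) hD' (T.subgroupOf K) ⟨k, hk⟩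
    (by
      rw [hcoe]
      intro x hx
      exact Subgroup.mem_subgroupOf.mpr (hT (Subgroup.mem_subgroupOf.mp hx)))
    (by
      rw [hcoe]
      intro x hx
      rw [mem_cj] at hx
      rw [Subgroup.mem_subgroupOf] at hx ⊢
      apply hkT
      rw [mem_cj]
      exact hx)
  obtain ⟨n, hn, c, hc, hkc⟩ := h
  refine ⟨(n : X), ?_, (c : X), ?_, ?_⟩
  · have h1 : K.subtype n ∈ (Subgroup.normalizer
        ((WD ↥K (D.subgroupOf K) : Subgroup K) : Set K)).map K.subtype :=
      Subgroup.mem_map_of_mem _ hn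
    have h2 := Subgroup.le_normalizer_map K.subtype h1
    rw [hJ1] at h2
    exact h2
  · rw [Subgroup.mem_centralizer_iff]
    intro t ht
    have := (Subgroup.mem_centralizer_iff.mp hc) ⟨t, hSK (hT ht)⟩
      (Subgroup.mem_subgroupOf.mpr ht)
    exact congrArg Subtype.val this
  · exact congrArg Subtype.val hkc

/-- absorbing an element of a normal `p'`-subgroup. -/
theorem pprime_fac {X : Type u} [Group X] [Finite X] (Y : Subgroup X) [hYn : Y.Normal]
    (hY : (Nat.card Y).Coprime p) (M T : Subgroup X) (hT : IsPGroup p T) (hTM : T ≤ M)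
    (n y : X) (hn : n ∈ M) (hy : y ∈ Y) (hc : cj (n * y) T ≤ M) : Fac M T (n * y) := by
  have hyT : ∀ a ∈ T, y * a * y⁻¹ ∈ M := by
    intro a ha
    have h1 : (n * y) * a * (n * y)⁻¹ ∈ M := hc (conj_mem_cj ha)
    have e : y * a * y⁻¹ = n⁻¹ * ((n * y) * a * (n * y)⁻¹) * n := by group
    rw [e]; exact M.mul_mem (M.mul_mem (M.inv_mem hn) h1) hn
  have hA : T ≤ Subgroup.normalizer ((M ⊓ Y : Subgroup X) : Set X) := by
    intro t ht
    rw [Subgroup.mem_normalizer_iff]
    intro h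
    constructor
    · rintro ⟨h1, h2⟩
      exact ⟨M.mul_mem (M.mul_mem (hTM ht) h1) (M.inv_mem (hTM ht)), hYn.conj_mem h h2 t⟩
    · rintro ⟨h1, h2⟩
      refine ⟨?_, ?_⟩
      · have e : h = t⁻¹ * (t * h * t⁻¹) * t := by group
        rw [e]; exact M.mul_mem (M.mul_mem (M.inv_mem (hTM ht)) h1) (hTM ht)
      · have e : h = t⁻¹ * (t * h * t⁻¹) * t⁻¹⁻¹ := by group
        rw [e]; exact hYn.conj_mem _ h2 t⁻¹
  have hcop : (Nat.card T).Coprime (Nat.card (M ⊓ Y : Subgroup X)) :=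
    Nat.Coprime.coprime_dvd_right (Subgroup.card_dvd_of_le inf_le_right)
      (coprime_card_of_isPGroup hT hY)
  have hsolv : Group.IsSolvable T ∨ Group.IsSolvable (M ⊓ Y : Subgroup X) := Or.inl (by
    have : Group.IsNilpotent T := hT.isNilpotent
    infer_instance)
  obtain ⟨y₁, hy₁, hcen⟩ := Cfsg.Agent.S0057.lift_fix hA hcop hsolv y (fun a ha => by
    refine ⟨M.mul_mem (hyT a ha) (M.inv_mem (hTM ha)), ?_⟩
    have e : y * a * y⁻¹ * a⁻¹ = y * (a * y⁻¹ * a⁻¹) := by group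
    rw [e]; exact Y.mul_mem hy (hYn.conj_mem _ (Y.inv_mem hy) a))
  exact ⟨n * y₁, M.mul_mem hn hy₁.1, y₁⁻¹ * y, hcen, by group⟩

/-- lifting factorizations from the quotient by a normal `p'`-subgroup. -/
theorem fac_of_pprime_quot (hW : WDHyp p WD) {X : Type u} [Group X] [Finite X] (O : Subgroup X)
    [hOn : O.Normal] (hO : (Nat.card O).Coprime p) (S : Sylow p X) (D : Subgroup X)
    (hD : IsStronglyClosed D (S : Subgroup X))
    (hQ : ∀ (S' : Sylow p (X ⧸ O)) (D' : Subgroup (X ⧸ O)),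
      IsStronglyClosed D' (S' : Subgroup (X ⧸ O)) →
      ∀ (T' : Subgroup (X ⧸ O)) (g' : X ⧸ O), T' ≤ (S' : Subgroup (X ⧸ O)) →
        cj g' T' ≤ (S' : Subgroup (X ⧸ O)) →
        Fac (Subgroup.normalizer (WD (X ⧸ O) D' : Set (X ⧸ O))) T' g')
    (T : Subgroup X) (g : X) (hT : T ≤ (S : Subgroup X)) (hgT : cj g T ≤ (S : Subgroup X)) :
    Fac (Subgroup.normalizer (WD X D : Set X)) T g := by
  have hπ := QuotientGroup.mk'_surjective O
  have hinjD : ∀ u ∈ D, QuotientGroup.mk' O u = 1 → u = 1 := by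
    intro u hu hu1
    have huY : u ∈ O := mem_of_mk'_eq_one O hu1
    exact eq_one_of_mem_pgroup_of_coprime S.isPGroup' (hD.1 hu)
      (Nat.Coprime.coprime_dvd_left (Subgroup.orderOf_dvd_natCard O huY) hO)
  have hcoe : ((S.mapSurjective hπ : Sylow p (X ⧸ O)) : Subgroup (X ⧸ O)) =
      (S : Subgroup X).map (QuotientGroup.mk' O) := Sylow.coe_mapSurjective hπ S
  have hJeq : WD (X ⧸ O) (D.map (QuotientGroup.mk' O)) = (WD X D).map (QuotientGroup.mk' O) :=
    hW.map X (X ⧸ O) _ D hinjD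
  have hSM : (S : Subgroup X) ≤ Subgroup.normalizer (WD X D : Set X) := sc_le_normalizer_wd hW hD
  have h := hQ (S.mapSurjective hπ) (D.map (QuotientGroup.mk' O))
    (by rw [hcoe]; exact sc_map_quot O S D hD)
    (T.map (QuotientGroup.mk' O)) (QuotientGroup.mk' O g)
    (by rw [hcoe]; exact Subgroup.map_mono hT)
    (by
      rw [hcoe]
      rintro _ ⟨_, ⟨t, ht, rfl⟩, rfl⟩
      refine ⟨g * t * g⁻¹, hgT (conj_mem_cj ht), ?_⟩
      simp [MulAut.conj_apply])
  obtain ⟨nb, hnb, cb, hcb, hgnc⟩ := h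
  rw [hJeq] at hnb
  have hVp : IsPGroup p (WD X D) := S.isPGroup'.to_le ((hW.le X D).trans hD.1)
  obtain ⟨n, hn, rfl⟩ := normalizer_map_le O hO _ hVp hnb
  obtain ⟨c, hc, rfl⟩ := centralizer_map_le O hO T (S.isPGroup'.to_le hT) hcb
  have hy : (n * c)⁻¹ * g ∈ O := by
    apply mem_of_mk'_eq_one
    rw [map_mul, map_inv, map_mul, hgnc]
    group
  have e : g = (n * (c * ((n * c)⁻¹ * g) * c⁻¹)) * c := by group
  rw [e]
  apply Fac.mul_right _ hc
  apply pprime_fac O hO _ T (S.isPGroup'.to_le hT) (hT.trans hSM) n _ hn (hOn.conj_mem _ hy c)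
  have e2 : n * (c * ((n * c)⁻¹ * g) * c⁻¹) = g * c⁻¹ := by group
  rw [e2, ← cj_cj, cj_eq_of_mem_centralizer (Subgroup.inv_mem _ hc)]
  exact hgT.trans hSM


variable {𝒞 : ∀ (X : Type u) [Group X], Prop}

/-- the classical theorem: in a group of the class, `N(Z(J(S)))` controls strong fusion. -/
theorem classical_fac (hp2 : p ≠ 2) (h𝒞 : ClassHyp p 𝒞) {X : Type u} [Group X] [Finite X]
    (hX : 𝒞 X) (S : Sylow p X) (T : Subgroup X) (g : X) (hT : T ≤ (S : Subgroup X))
    (hgT : cj g T ≤ (S : Subgroup X)) :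
    Fac (Subgroup.normalizer (centerThompsonAOf (S : Subgroup X) : Set X)) T g := by
  have h𝓦 : ∀ W' ∈ ({@zjA} : Set (∀ (Q : Type u) [Group Q], Subgroup Q)),
      IsCharPFunctor.{u} p W' := by
    rintro W' rfl; exact zjA_char p
  have key := ctl_of_sections h𝓦 (G := X) (fun K R hR hc => by
    obtain ⟨T'⟩ : Nonempty (Sylow p (↥K ⧸ R.subgroupOf K)) := inferInstance
    apply ctl_single_of_normal T'
    rw [ind_zjA]
    exact (zj_normal hp2 T' (T' : Subgroup (↥K ⧸ R.subgroupOf K)) ⟨le_rfl, fun _ _ _ h => h⟩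
      (h𝒞.stab _ (h𝒞.quot _ (h𝒞.sub X hX K) _)) hc).1)
  have hctl := key X (IsSec.refl X)
  have hgA : lc g (T : Set X) ⊆ ((S : Subgroup X) : Set X) := by rw [lc_coe]; exact hgT
  obtain ⟨l, hl, hact⟩ := FC_of_familyControls (Cfsg.Agent.Lib.Helper42.fam_conj h𝓦 X)
    (sylow_isSylIn S) hctl (T : Set X) g trivial hT hgA
  refine fac_of_conj_eq (x := l.reverse.prod) ?_ (fun a ha => hact a ha)
  apply Subgroup.list_prod_mem
  intro s hs
  obtain ⟨_, ⟨W', hW', rfl⟩, hs'⟩ := hl.mem_steps l s (List.mem_reverse.mp hs)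
  have : W' = @zjA := hW'
  subst this
  have h2 : s ∈ Subgroup.normalizer
      ((inducedFunctor @zjA (S : Subgroup X) : Subgroup X) : Set X) := hs'.2
  rw [ind_zjA] at h2
  exact h2

/-- **Control of strong fusion by `N(W(D))`**, generic induction. -/
theorem sc_ctl (hp2 : p ≠ 2) (hW : WDHyp p WD) (h𝒞 : ClassHyp p 𝒞)
    (hnorm : ∀ (X : Type u) [Group X] [Finite X], 𝒞 X → ∀ (S : Sylow p X) (D : Subgroup X),
      IsStronglyClosed D (S : Subgroup X) →
      Subgroup.centralizer ((pCore p X : Subgroup X) : Set X) ≤ pCore p X → (WD X D).Normal) :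
    ∀ (n : ℕ) (X : Type u) [Group X] [Finite X], Nat.card X = n → 𝒞 X →
      ∀ (S : Sylow p X) (D : Subgroup X), IsStronglyClosed D (S : Subgroup X) →
      ∀ (T : Subgroup X) (g : X), T ≤ (S : Subgroup X) → cj g T ≤ (S : Subgroup X) →
        Fac (Subgroup.normalizer (WD X D : Set X)) T g := by
  intro n
  induction n using Nat.strong_induction_on with
  | _ n ih =>
  intro X _ _ hcard hX S D hD T g hT hgT
  have ihK : ∀ K : Subgroup X, K ≠ ⊤ → ∀ (S' : Sylow p ↥K) (D' : Subgroup ↥K),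
      IsStronglyClosed D' (S' : Subgroup ↥K) →
      ∀ (T' : Subgroup ↥K) (g' : ↥K), T' ≤ (S' : Subgroup ↥K) → cj g' T' ≤ (S' : Subgroup ↥K) →
        Fac (Subgroup.normalizer (WD ↥K D' : Set ↥K)) T' g' := by
    intro K hK
    have hlt : Nat.card K < n := by
      rw [← hcard, ← Subgroup.card_top (G := X)]
      exact card_lt_of_lt (lt_top_iff_ne_top.mpr hK)
    exact ih _ hlt ↥K rfl (h𝒞.sub X hX K)
  have ihQ : ∀ (N : Subgroup X) [N.Normal], N ≠ ⊥ → ∀ (S' : Sylow p (X ⧸ N))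
      (D' : Subgroup (X ⧸ N)), IsStronglyClosed D' (S' : Subgroup (X ⧸ N)) →
      ∀ (T' : Subgroup (X ⧸ N)) (g' : X ⧸ N), T' ≤ (S' : Subgroup (X ⧸ N)) →
        cj g' T' ≤ (S' : Subgroup (X ⧸ N)) →
        Fac (Subgroup.normalizer (WD (X ⧸ N) D' : Set (X ⧸ N))) T' g' := by
    intro N _ hN
    have hlt : Nat.card (X ⧸ N) < n := by
      rw [← hcard, Subgroup.card_eq_card_quotient_mul_card_subgroup N]
      have h1 : 1 < Nat.card N := by
        rw [Subgroup.one_lt_card_iff_ne_bot]; exact hN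
      have h2 : 0 < Nat.card (X ⧸ N) := Nat.card_pos
      nlinarith
    exact ih _ hlt (X ⧸ N) rfl (h𝒞.quot X hX N)
  have hSM : (S : Subgroup X) ≤ Subgroup.normalizer (WD X D : Set X) :=
    sc_le_normalizer_wd hW hD
  have hSp : IsPGroup p (S : Subgroup X) := S.isPGroup'
  -- trivial Sylow subgroup
  by_cases hS1 : (S : Subgroup X) = ⊥
  · refine ⟨1, Subgroup.one_mem _, g, ?_, by group⟩
    rw [Subgroup.mem_centralizer_iff]
    intro t ht
    have : t = 1 := by
      have := hT ht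
      rw [hS1, Subgroup.mem_bot] at this
      exact this
    rw [this]; group
  -- reduction to `Z(J(S))` normal
  have hSN₀ : (S : Subgroup X) ≤
      Subgroup.normalizer (centerThompsonAOf (S : Subgroup X) : Set X) := by
    have := normalizer_le_normalizer_ind (zjA_char p) (X := X) hSp
    rw [ind_zjA] at this
    exact Subgroup.le_normalizer.trans this
  by_cases hN₀ : Subgroup.normalizer (centerThompsonAOf (S : Subgroup X) : Set X) = ⊤
  swap
  · obtain ⟨n₀, hn₀, c₀, hc₀, rfl⟩ := classical_fac hp2 h𝒞 hX S T g hT hgT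
    apply Fac.mul_right _ hc₀
    apply fac_of_sub hW S D hD _ hSN₀ (ihK _ hN₀) T n₀ hn₀ hT
    rw [← cj_cj, cj_eq_of_mem_centralizer hc₀] at hgT
    exact hgT
  have hZn : (centerThompsonAOf (S : Subgroup X)).Normal :=
    Subgroup.normalizer_eq_top_iff.mp hN₀
  -- constrained case
  by_cases hc : Subgroup.centralizer ((pCore p X : Subgroup X) : Set X) ≤ pCore p X
  · have hn : (WD X D).Normal := hnorm X hX S D hD hc
    exact Fac.of_mem (by rw [Subgroup.normalizer_eq_top_iff.mpr hn]; trivial)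
  -- nontrivial normal `p'`-subgroup
  by_cases hO' : ∃ O : Subgroup X, O.Normal ∧ (Nat.card O).Coprime p ∧ O ≠ ⊥
  · obtain ⟨O, hOn, hOc, hOne⟩ := hO'
    exact fac_of_pprime_quot hW O hOc S D hD (ihQ O hOne) T g hT hgT
  push Not at hO'
  have hPn : (Cfsg.pCore p X).Normal := pCore_normal p X
  have hP : IsPGroup p (Cfsg.pCore p X) := isPGroup_pCore p X
  have hmax : ∀ Q : Subgroup X, Q.Normal → IsPGroup p Q → Q ≤ Cfsg.pCore p X :=
    fun Q hn hQ => le_pCore hn hQ
  have hPne : Cfsg.pCore p X ≠ ⊥ := by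
    intro hbot
    have h1 : centerThompsonAOf (S : Subgroup X) ≤ Cfsg.pCore p X :=
      hmax _ hZn (hSp.to_le (ctA_le _))
    have h2 := ind_ne_bot (zjA_char p) (X := X) hSp hS1
    rw [ind_zjA] at h2
    exact h2 (le_bot_iff.mp (hbot ▸ h1))
  have hlt := structure_cases S hP hc (fun O hn hc' => hO' O hn hc')
  obtain ⟨hMne, hSM₂, hfacM⟩ := b2_facts S hmax hlt
  set P := Cfsg.pCore p X with hPdef
  by_cases hL : (S : Subgroup X) ⊔ Subgroup.centralizer (P : Set X) = ⊤
  swap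
  · have hgA : lc g (T : Set X) ⊆ ((S : Subgroup X) : Set X) := by rw [lc_coe]; exact hgT
    obtain ⟨l, hl, m, hm, rfl, hlA⟩ := decomp S
      (L := (S : Subgroup X) ⊔ Subgroup.centralizer (P : Set X)) le_sup_left hSM₂
      (fun h => by
        obtain ⟨m, hm, c, hc, rfl⟩ := hfacM h
        exact ⟨m, hm, c, Subgroup.mem_sup_right hc, rfl⟩) (T : Set X) hT g hgA
    rw [lc_coe] at hlA
    have h1 := fac_of_sub hW S D hD _ le_sup_left (ihK _ hL) T l hl hT hlA
    have h2 := fac_of_sub hW S D hD _ hSM₂ (ihK _ hMne) (cj l T) m hm hlA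
      (by rw [cj_cj]; exact hgT)
    exact h1.comp h2
  -- the case `X = S C(P)`
  have hfacS : ∀ g : X, ∃ u ∈ (S : Subgroup X), ∃ c ∈ Subgroup.centralizer (P : Set X),
      g = u * c := fun g => mem_sup_normal_right (by rw [hL]; trivial)
  by_cases hDP : D ≤ P
  · have hDn : D.Normal := by
      refine ⟨fun d hd x => ?_⟩
      obtain ⟨u, hu, c, hc, rfl⟩ := hfacS x
      have hcd := Subgroup.mem_centralizer_iff.mp hc d (hDP hd)
      have e : u * c * d * (u * c)⁻¹ = u * d * u⁻¹ := by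
        calc u * c * d * (u * c)⁻¹ = u * (c * d) * c⁻¹ * u⁻¹ := by group
          _ = u * (d * c) * c⁻¹ * u⁻¹ := by rw [hcd]
          _ = u * d * u⁻¹ := by group
      rw [e]
      exact hD.2 d hd u (S.mul_mem (S.mul_mem hu (hD.1 hd)) (S.inv_mem hu))
    have hn : (WD X D).Normal := wd_normal hW D hDn
    exact Fac.of_mem (by rw [Subgroup.normalizer_eq_top_iff.mpr hn]; trivial)
  set π := QuotientGroup.mk' P with hπdef
  have hπ : Function.Surjective π := QuotientGroup.mk'_surjective P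
  have hker : π.ker = P := QuotientGroup.ker_mk' P
  have hPS' : P ≤ (S : Subgroup X) := normal_pgroup_le_sylow S hP
  have hcoe : ((S.mapSurjective hπ : Sylow p (X ⧸ P)) : Subgroup (X ⧸ P)) =
      (S : Subgroup X).map π := Sylow.coe_mapSurjective hπ S
  have hDb : IsStronglyClosed (D.map π) ((S.mapSurjective hπ : Sylow p (X ⧸ P)) :
      Subgroup (X ⧸ P)) := by rw [hcoe]; exact sc_map_quot P S D hD
  have hDbne : D.map π ≠ ⊥ := by
    intro h0
    rw [Subgroup.map_eq_bot_iff, hker] at h0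
    exact hDP h0
  have hDbp : IsPGroup p (D.map π) := (hSp.to_le hD.1).map π
  set V' := WD (X ⧸ P) (D.map π) with hV'
  have hV'ne : V' ≠ ⊥ := hW.ne_bot (X ⧸ P) (D.map π) hDbp hDbne
  have hSK : (S : Subgroup X) ≤
      (Subgroup.normalizer ((V' : Subgroup (X ⧸ P)) : Set (X ⧸ P))).comap π := by
    intro x hx
    have h1 : π x ∈ ((S.mapSurjective hπ : Sylow p (X ⧸ P)) : Subgroup (X ⧸ P)) := by
      rw [hcoe]; exact ⟨x, hx, rfl⟩
    exact sc_le_normalizer_wd hW hDb h1
  have hKne : (Subgroup.normalizer ((V' : Subgroup (X ⧸ P)) : Set (X ⧸ P))).comap π ≠ ⊤ := by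
    intro htop
    have hVn : V'.Normal := by
      rw [← Subgroup.normalizer_eq_top_iff, eq_top_iff]
      intro y _
      obtain ⟨x, rfl⟩ := hπ y
      have : x ∈ (Subgroup.normalizer ((V' : Subgroup (X ⧸ P)) : Set (X ⧸ P))).comap π := by
        rw [htop]; trivial
      exact this
    have hV'p : IsPGroup p V' := hDbp.to_le (hW.le _ _)
    have h1 : V'.comap π ≤ P :=
      hmax _ (hVn.comap π) (hV'p.comap_of_ker_isPGroup π (by rw [hker]; exact hP))
    have h2 : V' = ⊥ := by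
      rw [← Subgroup.map_comap_eq_self_of_surjective hπ V', Subgroup.map_eq_bot_iff, hker]
      exact h1
    exact hV'ne h2
  refine alperin_fac S _ ?_ T g hT hgT
  intro A hA IH
  obtain ⟨m, hm, hsyl⟩ := exists_fn_conj S hA
  refine ⟨m, hm, hsyl.2.2, fun t ht => ?_⟩
  by_cases hPA : P ≤ cj m A
  · have h := ihQ P hPne (S.mapSurjective hπ) (D.map π) hDb ((cj m A).map π) (π t)
      (by rw [hcoe]; exact Subgroup.map_mono hm)
      (by
        rw [hcoe]
        rintro _ ⟨_, ⟨a, ha, rfl⟩, rfl⟩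
        refine ⟨t * a * t⁻¹, hm ?_, ?_⟩
        · have := conj_mem_cj (g := t) ha
          rwa [cj_eq_of_mem_normalizer ht] at this
        · simp [MulAut.conj_apply])
    obtain ⟨nb, hnb, cb, hcb, hπt⟩ := h
    obtain ⟨n₁, rfl⟩ := hπ nb
    have hn₁ : n₁ ∈ (Subgroup.normalizer ((V' : Subgroup (X ⧸ P)) : Set (X ⧸ P))).comap π := hnb
    have hcb' : cb = π (n₁⁻¹ * t) := by
      rw [map_mul, map_inv, hπt]; group
    have hy : ∀ a ∈ cj m A, (n₁⁻¹ * t) * a * (n₁⁻¹ * t)⁻¹ * a⁻¹ ∈ P := by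
      intro a ha
      rw [← hker, MonoidHom.mem_ker]
      have h1 := Subgroup.mem_centralizer_iff.mp hcb (π a) ⟨a, ha, rfl⟩
      rw [hcb'] at h1
      have e : π ((n₁⁻¹ * t) * a * (n₁⁻¹ * t)⁻¹ * a⁻¹) =
          (π (n₁⁻¹ * t) * π a) * (π (n₁⁻¹ * t))⁻¹ * (π a)⁻¹ := by
        simp only [map_mul, map_inv]
      rw [e, ← h1]
      group
    obtain ⟨u, hu, huy⟩ := act_as_sylow S hP hPA hsyl hfacS hy
    have hzN : n₁⁻¹ * t ∈ Subgroup.normalizer ((cj m A : Subgroup X) : Set X) :=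
      trivMod_le_normalizer hPA (mem_trivMod.mpr hy)
    have hn₁N : n₁ ∈ Subgroup.normalizer ((cj m A : Subgroup X) : Set X) := by
      have := Subgroup.mul_mem _ ht (Subgroup.inv_mem _ hzN)
      have e : t * (n₁⁻¹ * t)⁻¹ = n₁ := by group
      rwa [e] at this
    have hcu : u⁻¹ * (n₁⁻¹ * t) ∈ Subgroup.centralizer ((cj m A : Subgroup X) : Set X) := by
      rw [Subgroup.mem_centralizer_iff]
      intro a ha
      have := huy a ha
      calc a * (u⁻¹ * (n₁⁻¹ * t)) = u⁻¹ * (u * a * u⁻¹) * (n₁⁻¹ * t) := by group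
        _ = u⁻¹ * ((n₁⁻¹ * t) * a * (n₁⁻¹ * t)⁻¹) * (n₁⁻¹ * t) := by rw [this]
        _ = u⁻¹ * (n₁⁻¹ * t) * a := by group
    have h1 := fac_of_sub hW S D hD _ hSK (ihK _ hKne) (cj m A) (n₁ * u)
      (Subgroup.mul_mem _ hn₁ (hSK hu.1)) hm
      (by
        rw [← cj_cj, cj_eq_of_mem_normalizer hu.2, cj_eq_of_mem_normalizer hn₁N]
        exact hm)
    have h2 := h1.mul_right hcu
    have e : n₁ * u * (u⁻¹ * (n₁⁻¹ * t)) = t := by group
    rwa [e] at h2
  · have hB : cj m A ⊔ P ≤ (S : Subgroup X) := sup_le hm hPS'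
    have hlt : Nat.card A < Nat.card (cj m A ⊔ P : Subgroup X) := by
      rw [← card_cj m A]
      exact card_lt_of_lt (lt_of_le_of_ne le_sup_left (fun h => hPA (h ▸ le_sup_right)))
    have htB : cj t (cj m A ⊔ P) = cj m A ⊔ P := by
      show (cj m A ⊔ P).map _ = _
      rw [Subgroup.map_sup]
      have h1 : cj t (cj m A) = cj m A := cj_eq_of_mem_normalizer ht
      have h2 : cj t P = P := cj_eq_of_mem_normalizer (by rw [Subgroup.normalizer_eq_top]; trivial)
      exact congrArg₂ _ h1 h2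
    have := IH (cj m A ⊔ P) t hB (by rw [htB]; exact hB) hlt
    exact this.mono (fun x hx => (le_sup_left : cj m A ≤ cj m A ⊔ P) hx)

end wd

end Cfsg.Agent.Lib.Helper3.ZJ
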