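import Mathlib
import Cfsg.Agent.Lib.Helper3.ZJ8
import Cfsg.Agent.Lib.Helper2.QdStable

/-!
# Control of strong fusion by `N(Z(J(D)))` and `N(Ω₁(Z(J_e(D))))` in `Qd(p)`-free groups

Instances of the generic induction `sc_ctl` of `ZJ8`.
-/

set_option autoImplicit false

namespace Cfsg.Agent.Lib.Helper3.ZJ

open Cfsg
open Cfsg.Agent.Lib.Helper26
open Cfsg.Agent.Lib.Helper42
open scoped commutatorElement

universe u

section inst

variable {p : ℕ} [Fact p.Prime]

theorem wdHyp_ctA : WDHyp.{u} p (fun _ _ D => centerThompsonAOf D) where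
  map := fun _ _ _ _ f D hf => ctA_map f D hf
  le := fun _ _ D => ctA_le D
  ne_bot := fun _ _ _ D hD hne => by
    have := ind_ne_bot (zjA_char p) hD hne
    rwa [ind_zjA] at this

theorem omegaOne_ne_bot_of_pgroup {X : Type u} [Group X] [Finite X] {H : Subgroup X}
    (hH : IsPGroup p H) (hne : H ≠ ⊥) : omegaOne p H ≠ ⊥ := by
  have hp : p.Prime := Fact.out
  have h1 : 1 < Nat.card H := (Subgroup.one_lt_card_iff_ne_bot H).mpr hne
  obtain ⟨k, hk⟩ := IsPGroup.iff_card.mp hH
  have hdvd : p ∣ Nat.card H := by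
    rw [hk]
    apply dvd_pow_self
    rintro rfl
    rw [pow_zero] at hk
    omega
  obtain ⟨x, hx⟩ := exists_prime_orderOf_dvd_card' p hdvd
  intro hbot
  have hxm : (x : X) ∈ omegaOne p H := by
    apply Subgroup.subset_closure
    refine ⟨x.2, ?_⟩
    have h2 : x ^ p = 1 := by rw [← hx]; exact pow_orderOf_eq_one x
    have := congrArg Subtype.val h2
    simpa using this
  rw [hbot, Subgroup.mem_bot] at hxm
  have h3 : x = 1 := Subtype.ext hxm
  rw [h3, orderOf_one] at hx
  exact hp.one_lt.ne hx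

theorem wdHyp_omega : WDHyp.{u} p (fun _ _ D => omegaOne p (centerThompsonOf p D)) where
  map := fun _ _ _ _ f D hf => omega_ctO_map f D hf
  le := fun _ _ D => (Cfsg.Agent.Lib.Helper14.omegaOne_le _).trans (ctO_le D)
  ne_bot := fun _ _ _ D hD hne => by
    have h1 := ind_ne_bot (zjE_char p) hD hne
    rw [ind_zjE] at h1
    exact omegaOne_ne_bot_of_pgroup (hD.to_le (ctO_le D)) h1

theorem classHyp_qd (hp2 : p ≠ 2) : ClassHyp.{u} p (fun X _ => ¬ Involves ↥(qd p) X) where
  sub := fun _ _ h K hK => h (Cfsg.Agent.Lib.Helper2.involves_of_subgroup K hK)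
  quot := fun _ _ h N _ hN => h (Cfsg.Agent.Lib.Helper2.involves_of_quotient N hN)
  stab := fun _ _ _ h =>
    hst_of_nps (Cfsg.Agent.Lib.Helper2.isNormalizerPStable_of_qd_free hp2 h)

/-- the final form: control of strong fusion of subsets. -/
theorem sc_controls {WD : ∀ (X : Type u) [Group X], Subgroup X → Subgroup X}
    {𝒞 : ∀ (X : Type u) [Group X], Prop} (hp2 : p ≠ 2) (hW : WDHyp p WD) (h𝒞 : ClassHyp p 𝒞)
    (hnorm : ∀ (X : Type u) [Group X] [Finite X], 𝒞 X → ∀ (S : Sylow p X) (D : Subgroup X),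
      IsStronglyClosed D (S : Subgroup X) →
      Subgroup.centralizer ((pCore p X : Subgroup X) : Set X) ≤ pCore p X → (WD X D).Normal)
    {G : Type u} [Group G] [Finite G] (hG : 𝒞 G) (P : Sylow p G) (D : Subgroup G)
    (hD : IsStronglyClosed D (P : Subgroup G)) (A : Set G) (hA : A ⊆ (P : Subgroup G)) :
    ControlsStrongFusionOf (Subgroup.normalizer (WD G D : Set G)) (P : Subgroup G) A := by
  refine ⟨hA, fun g hg => ?_⟩
  have hT : Subgroup.closure A ≤ (P : Subgroup G) := (Subgroup.closure_le _).mpr hA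
  have h := sc_ctl hp2 hW h𝒞 hnorm _ G rfl hG P D hD (Subgroup.closure A) g hT
    (image_conj_subset_iff.mp hg)
  obtain ⟨x, hx, hxa⟩ := h.conj_eq
  exact ⟨x, hx, fun a ha => (hxa a (Subgroup.subset_closure ha)).symm⟩

/-- `S3081`, first part. -/
theorem sc_controls_ctA_qd (hp2 : p ≠ 2) {G : Type u} [Group G] [Finite G] (P : Sylow p G)
    (D : Subgroup G) (hD : IsStronglyClosed D (P : Subgroup G))
    (hqd : ¬ Involves ↥(qd p) G) (A : Set G) (hA : A ⊆ (P : Subgroup G)) :
    ControlsStrongFusionOf (Subgroup.normalizer (centerThompsonAOf D : Set G))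
      (P : Subgroup G) A :=
  sc_controls (WD := fun _ _ D => centerThompsonAOf D) hp2 wdHyp_ctA (classHyp_qd hp2)
    (fun X _ _ hX S D hD hc => (zj_normal hp2 S D hD ((classHyp_qd hp2).stab X hX) hc).1)
    hqd P D hD A hA

/-- `S3081`, second part. -/
theorem sc_controls_omega_qd (hp2 : p ≠ 2) {G : Type u} [Group G] [Finite G] (P : Sylow p G)
    (D : Subgroup G) (hD : IsStronglyClosed D (P : Subgroup G))
    (hqd : ¬ Involves ↥(qd p) G) (A : Set G) (hA : A ⊆ (P : Subgroup G)) :
    ControlsStrongFusionOf (Subgroup.normalizer (omegaOne p (centerThompsonOf p D) : Set G))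
      (P : Subgroup G) A :=
  sc_controls (WD := fun _ _ D => omegaOne p (centerThompsonOf p D)) hp2 wdHyp_omega
    (classHyp_qd hp2)
    (fun X _ _ hX S D hD hc => (zj_normal hp2 S D hD ((classHyp_qd hp2).stab X hX) hc).2.2)
    hqd P D hD A hA

end inst

end Cfsg.Agent.Lib.Helper3.ZJ
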