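import Mathlib
import Cfsg.Agent.Lib.Helper3.FC2
import Cfsg.Agent.Lib.Helper3.ZJ9
import Cfsg.Agent.Lib.Helper15.QuadSL2b

/-!
# Groups whose automizers of `p`-subgroups have no section `SL₂(p)`

The class `AF p` (every `N_X(Q)/C_X(Q)`, `Q` a `p`-subgroup, has no section isomorphic to
`SL₂(p)`) is closed under subgroups and quotients and satisfies the elementwise stability
hypothesis of `zj_general`; hence `N(Z(J(S)))` controls strong fusion in such groups.
-/

set_option autoImplicit false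
set_option linter.unusedSectionVars false
set_option linter.unusedVariables false

namespace Cfsg.Agent.Lib.Helper3.FC

open Cfsg
open Cfsg.Agent.Lib.Helper26
open Cfsg.Agent.Lib.Helper42
open Cfsg.Agent.Lib.Helper3.ZJ
open scoped commutatorElement

universe u

section transport

/-- A section of a homomorphic image is a section of the group, lying above the kernel. -/
theorem section_comap' {G Q : Type*} [Group G] [Group Q] (π : G →* Q) (K L : Subgroup Q)
    (hL : (L.subgroupOf K).Normal) (hK : K ≤ π.range) :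
    ∃ (K' L' : Subgroup G) (hL' : (L'.subgroupOf K').Normal), π.ker ≤ L' ∧ L' ≤ K' ∧
      Nonempty ((K' ⧸ L'.subgroupOf K') ≃* (K ⧸ L.subgroupOf K)) := by
  obtain ⟨K', hK'def⟩ : ∃ K' : Subgroup G, K' = K.comap π := ⟨_, rfl⟩
  obtain ⟨L', hL'def⟩ : ∃ L' : Subgroup G, L' = (L ⊓ K).comap π := ⟨_, rfl⟩
  have hmem : ∀ k : ↥K', π k ∈ K := fun k => by
    have : (k : G) ∈ K.comap π := hK'def.le k.2
    exact this
  let ψ₀ : ↥K' →* ↥K :=
    { toFun := fun k => ⟨π k, hmem k⟩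
      map_one' := Subtype.ext (by simp)
      map_mul' := fun a b => Subtype.ext (by simp) }
  have hψ₀ : ∀ k : ↥K', (ψ₀ k : Q) = π k := fun k => rfl
  let ψ : ↥K' →* ↥K ⧸ L.subgroupOf K := (QuotientGroup.mk' (L.subgroupOf K)).comp ψ₀
  have hψ : ∀ k, ψ k = QuotientGroup.mk' (L.subgroupOf K) (ψ₀ k) := fun k => rfl
  have hsurj : Function.Surjective ψ := by
    intro y
    obtain ⟨⟨z, hz⟩, rfl⟩ := QuotientGroup.mk'_surjective (L.subgroupOf K) y
    obtain ⟨u, rfl⟩ := hK hz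
    have huK : u ∈ K' := by rw [hK'def]; exact hz
    exact ⟨⟨u, huK⟩, rfl⟩
  have hker : L'.subgroupOf K' = ψ.ker := by
    ext k
    rw [Subgroup.mem_subgroupOf, MonoidHom.mem_ker, hψ, QuotientGroup.mk'_apply,
      QuotientGroup.eq_one_iff, Subgroup.mem_subgroupOf, hψ₀, hL'def, Subgroup.mem_comap,
      Subgroup.mem_inf]
    exact ⟨fun h => h.1, fun h => ⟨h, hmem k⟩⟩
  have hL' : (L'.subgroupOf K').Normal := by rw [hker]; infer_instance
  refine ⟨K', L', hL', ?_, ?_, ⟨(QuotientGroup.quotientMulEquivOfEq hker).trans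
      (QuotientGroup.quotientKerEquivOfSurjective ψ hsurj)⟩⟩
  · intro x hx
    rw [hL'def, Subgroup.mem_comap, MonoidHom.mem_ker.mp hx]
    exact Subgroup.one_mem _
  · rw [hL'def, hK'def]
    exact Subgroup.comap_mono inf_le_right

/-- an isomorphism of sections induced by a homomorphism -/
theorem sec_iso {X₁ X₂ : Type*} [Group X₁] [Group X₂] (f : X₁ →* X₂) (H₁ K₁ : Subgroup X₁)
    (H₂ K₂ : Subgroup X₂) (hK₁ : (K₁.subgroupOf H₁).Normal) (hK₂ : (K₂.subgroupOf H₂).Normal)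
    (hf : ∀ a ∈ H₁, f a ∈ H₂)
    (hsurj : ∀ b ∈ H₂, ∃ a ∈ H₁, (f a)⁻¹ * b ∈ K₂)
    (hker : ∀ a ∈ H₁, f a ∈ K₂ ↔ a ∈ K₁) :
    Nonempty ((↥H₁ ⧸ K₁.subgroupOf H₁) ≃* (↥H₂ ⧸ K₂.subgroupOf H₂)) := by
  let ψ₀ : ↥H₁ →* ↥H₂ :=
    { toFun := fun k => ⟨f k, hf k k.2⟩
      map_one' := Subtype.ext (by simp)
      map_mul' := fun a b => Subtype.ext (by simp) }
  have hψ₀ : ∀ k : ↥H₁, (ψ₀ k : X₂) = f k := fun k => rfl
  let ψ : ↥H₁ →* ↥H₂ ⧸ K₂.subgroupOf H₂ := (QuotientGroup.mk' (K₂.subgroupOf H₂)).comp ψ₀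
  have hψ : ∀ k, ψ k = QuotientGroup.mk' (K₂.subgroupOf H₂) (ψ₀ k) := fun k => rfl
  have hsurj' : Function.Surjective ψ := by
    intro y
    obtain ⟨⟨z, hz⟩, rfl⟩ := QuotientGroup.mk'_surjective (K₂.subgroupOf H₂) y
    obtain ⟨a, ha, haz⟩ := hsurj z hz
    refine ⟨⟨a, ha⟩, ?_⟩
    rw [hψ, QuotientGroup.mk'_apply, QuotientGroup.mk'_apply, QuotientGroup.eq,
      Subgroup.mem_subgroupOf]
    exact haz
  have hker' : K₁.subgroupOf H₁ = ψ.ker := by
    ext k
    rw [Subgroup.mem_subgroupOf, MonoidHom.mem_ker, hψ, QuotientGroup.mk'_apply,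
      QuotientGroup.eq_one_iff, Subgroup.mem_subgroupOf, hψ₀]
    exact (hker k k.2).symm
  exact ⟨(QuotientGroup.quotientMulEquivOfEq hker').trans
      (QuotientGroup.quotientKerEquivOfSurjective ψ hsurj')⟩

end transport

section quad

variable {X : Type*} [Group X] [Finite X] {p : ℕ} [Fact p.Prime]

/-- **Quadratic action on a normal `p`-subgroup**, with the section located between `C_X(P)` and
`X`: if `a` acts quadratically on the normal `p`-subgroup `P` of `X` (`p` odd) and the image of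
`a` in `X / C_X(P)` is not in `O_p(X / C_X(P))`, then `X / C_X(P)` has a section isomorphic to
`SL₂(p)`. -/
theorem quad_section_of_normal' (hp2 : p ≠ 2) (P : Subgroup X) [P.Normal] (hP : IsPGroup p P)
    (C : Subgroup X) [C.Normal] (hC : C = Subgroup.centralizer (P : Set X)) (a : X)
    (hq : ⁅⁅P, Subgroup.zpowers a⁆, Subgroup.zpowers a⁆ = ⊥)
    (ha : QuotientGroup.mk' C a ∉ pCore p (X ⧸ C)) :
    ∃ (K L : Subgroup X) (hL : (L.subgroupOf K).Normal), C ≤ L ∧ L ≤ K ∧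
      Nonempty ((K ⧸ L.subgroupOf K) ≃* Matrix.SpecialLinearGroup (Fin 2) (ZMod p)) := by
  classical
  have hA : ∀ v : ↥P ⧸ frattini ↥P, v ^ p = 1 := by
    intro v
    induction v using QuotientGroup.induction_on with
    | H u =>
      rw [← QuotientGroup.mk_pow, QuotientGroup.eq_one_iff]
      exact Cfsg.Agent.Lib.Helper72.pow_mem_frattini hP u
  obtain ⟨θ₀, hθ₀⟩ : ∃ θ₀ : X →* MulAut (↥P ⧸ frattini ↥P),
    θ₀ = Cfsg.Agent.Lib.Helper15.frattAct P := ⟨_, rfl⟩
  have hCker : C ≤ θ₀.ker := by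
    intro c hc
    rw [MonoidHom.mem_ker]
    ext v
    induction v using QuotientGroup.induction_on with
    | H u =>
      rw [hθ₀, Cfsg.Agent.Lib.Helper15.frattAct_mk, MulAut.one_apply]
      congr 1
      apply Subtype.ext
      rw [MulAut.conjNormal_apply]
      rw [hC, Subgroup.mem_centralizer_iff] at hc
      have := hc u u.2
      rw [← this]; group
  let θ₁ : X ⧸ C →* MulAut (↥P ⧸ frattini ↥P) := QuotientGroup.lift C θ₀ hCker
  have hθ₁ : ∀ x : X, θ₁ (QuotientGroup.mk' C x) = θ₀ x := fun x => rfl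
  -- the kernel of `θ₁` is a `p`-group
  have hker : IsPGroup p ↥θ₁.ker := by
    apply Cfsg.Agent.Lib.Helper14.isPGroup_of_no_prime_order
    intro r hr hrp g hg
    obtain ⟨g₀, hg₀⟩ := QuotientGroup.mk'_surjective C (g : X ⧸ C)
    have hg' : orderOf (QuotientGroup.mk' C g₀) = r := by
      rw [hg₀, Subgroup.orderOf_coe]; exact hg
    obtain ⟨c, k, hck, hc1, hcz⟩ :=
      Cfsg.Agent.Lib.Helper15.exists_rpow_lift (QuotientGroup.mk' C) hr g₀ hg'
    apply hc1
    rw [QuotientGroup.mk'_apply, QuotientGroup.eq_one_iff, hC]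
    have : Fact r.Prime := ⟨hr⟩
    apply Cfsg.Agent.Lib.Helper75.Fratt.mem_centralizer_of_frattini (p := p) (q := r)
      (Ne.symm hrp) P hP c k hck
    intro x hx
    have hθc : θ₀ c = 1 := by
      obtain ⟨j, rfl⟩ := Subgroup.mem_zpowers_iff.mp hcz
      rw [map_zpow, ← hθ₁, hg₀]
      have : θ₁ (g : X ⧸ C) = 1 := MonoidHom.mem_ker.mp g.2
      rw [this, one_zpow]
    have h1 : θ₀ c ((⟨x, hx⟩ : ↥P) : ↥P ⧸ frattini ↥P) =
        ((⟨x, hx⟩ : ↥P) : ↥P ⧸ frattini ↥P) := by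
      rw [hθc]; rfl
    rw [hθ₀, Cfsg.Agent.Lib.Helper15.frattAct_mk, QuotientGroup.eq_iff_div_mem] at h1
    refine ⟨_, h1, ?_⟩
    simp [div_eq_mul_inv, MulAut.conjNormal_apply]
  -- the faithful quotient
  let θ : (X ⧸ C) ⧸ θ₁.ker →* MulAut (↥P ⧸ frattini ↥P) := QuotientGroup.kerLift θ₁
  have hθinj : ∀ g, θ g = 1 → g = 1 := fun g hg =>
    QuotientGroup.kerLift_injective θ₁ (hg.trans (map_one _).symm)
  let π : X →* (X ⧸ C) ⧸ θ₁.ker := (QuotientGroup.mk' θ₁.ker).comp (QuotientGroup.mk' C)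
  have hπ : Function.Surjective π :=
    (QuotientGroup.mk'_surjective _).comp (QuotientGroup.mk'_surjective _)
  have hθπ : ∀ x, θ (π x) = θ₀ x := fun x => rfl
  -- quadratic action
  have hquad : ∀ v : ↥P ⧸ frattini ↥P, θ (π a) (θ (π a) v / v) = θ (π a) v / v := by
    intro v
    induction v using QuotientGroup.induction_on with
    | H u =>
      rw [hθπ, hθ₀, Cfsg.Agent.Lib.Helper15.frattAct_mk, ← QuotientGroup.mk_div,
        Cfsg.Agent.Lib.Helper15.frattAct_mk]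
      congr 1
      apply Subtype.ext
      rw [MulAut.conjNormal_apply, Subgroup.coe_div, MulAut.conjNormal_apply]
      obtain ⟨c, hc⟩ : ∃ c : X, c = a * u * a⁻¹ / u := ⟨_, rfl⟩
      rw [← hc]
      have hc1 : c = ⁅(u : X), a⁆⁻¹ := by
        rw [hc, commutatorElement_def, div_eq_mul_inv]; group
      have hc2 : c ∈ ⁅P, Subgroup.zpowers a⁆ := by
        rw [hc1]
        exact Subgroup.inv_mem _
          (Subgroup.commutator_mem_commutator u.2 (Subgroup.mem_zpowers _))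
      have hc3 : ⁅c, a⁆ ∈ ⁅⁅P, Subgroup.zpowers a⁆, Subgroup.zpowers a⁆ :=
        Subgroup.commutator_mem_commutator hc2 (Subgroup.mem_zpowers _)
      rw [hq, Subgroup.mem_bot] at hc3
      have hc4 : c * a = a * c := commutatorElement_eq_one_iff_mul_comm.mp hc3
      calc a * c * a⁻¹ = c * a * a⁻¹ := by rw [hc4]
        _ = c := by group
  -- not in the `p`-core
  have hna : π a ∉ pCore p ((X ⧸ C) ⧸ θ₁.ker) := by
    intro hmem
    apply ha
    have hMp : IsPGroup p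
        ((pCore p ((X ⧸ C) ⧸ θ₁.ker)).comap (QuotientGroup.mk' θ₁.ker)) := by
      apply IsPGroup.comap_of_ker_isPGroup Cfsg.Agent.Lib.Helper14.pCore_isPGroup
      rw [QuotientGroup.ker_mk']; exact hker
    have hMn : ((pCore p ((X ⧸ C) ⧸ θ₁.ker)).comap (QuotientGroup.mk' θ₁.ker)).Normal :=
      Subgroup.Normal.comap inferInstance _
    exact Cfsg.Agent.Lib.Helper14.le_pCore hMn hMp hmem
  obtain ⟨K, L, hL, ⟨e⟩⟩ := @Cfsg.Agent.Lib.Helper15.quad_SL2_section _ _ _
    (↥P ⧸ frattini ↥P) (Cfsg.Agent.Lib.Helper15.frattCommGroup hP) _ p _ hp2 hA θ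
    hθinj (π a) hquad hna
  obtain ⟨K', L', hL', hkerL, hLK, ⟨e'⟩⟩ := section_comap' π K L hL (by
    rw [MonoidHom.range_eq_top.mpr hπ]; exact le_top)
  refine ⟨K', L', hL', ?_, hLK, ⟨e'.trans e⟩⟩
  intro c hc
  apply hkerL
  rw [MonoidHom.mem_ker]
  show QuotientGroup.mk' θ₁.ker (QuotientGroup.mk' C c) = 1
  have : QuotientGroup.mk' C c = 1 := by
    rw [QuotientGroup.mk'_apply, QuotientGroup.eq_one_iff]; exact hc
  rw [this, map_one]

end quad


section af

/-- no automizer `N_X(Q)/C_X(Q)` of a `p`-subgroup has a section isomorphic to `SL₂(p)` (finite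
groups). -/
def AF (p : ℕ) (X : Type u) [Group X] : Prop :=
  Finite X ∧ ∀ Q : Subgroup X, IsPGroup p ↥Q →
    ¬ ∃ (H K : Subgroup X) (_ : (K.subgroupOf H).Normal),
      Subgroup.centralizer (Q : Set X) ≤ K ∧ K ≤ H ∧ H ≤ Subgroup.normalizer (Q : Set X) ∧
      Nonempty ((↥H ⧸ K.subgroupOf H) ≃* Matrix.SpecialLinearGroup (Fin 2) (ZMod p))

theorem normalizer_inf_le_sup {X : Type*} [Group X] (A B : Subgroup X) :
    Subgroup.normalizer (A : Set X) ⊓ Subgroup.normalizer (B : Set X) ≤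
      Subgroup.normalizer ((A ⊔ B : Subgroup X) : Set X) := by
  intro g hg
  rw [← cj_eq_self_iff]
  show (A ⊔ B).map _ = _
  rw [Subgroup.map_sup]
  exact congrArg₂ _ (cj_eq_of_mem_normalizer hg.1) (cj_eq_of_mem_normalizer hg.2)

theorem normalizer_inf_le_inf {X : Type*} [Group X] (A B : Subgroup X) :
    Subgroup.normalizer (A : Set X) ⊓ Subgroup.normalizer (B : Set X) ≤
      Subgroup.normalizer ((A ⊓ B : Subgroup X) : Set X) := by
  intro g hg
  rw [← cj_eq_self_iff, cj_inf, cj_eq_of_mem_normalizer hg.1, cj_eq_of_mem_normalizer hg.2]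

/-- the elementwise stability hypothesis of `zj_general` in the class `AF`. -/
theorem af_stab {p : ℕ} [Fact p.Prime] (hp2 : p ≠ 2) {X : Type u} [Group X] [Finite X]
    (h : AF p X) :
    ∀ B : Subgroup X, B.Normal → IsPGroup p B → ∀ a : X,
      (∀ v ∈ B, a * ⁅a, v⁆ = ⁅a, v⁆ * a) →
      ∃ L : Subgroup X, L.Normal ∧ a ∈ L ∧
        ∀ l ∈ L, ∃ j : ℕ, l ^ p ^ j ∈ Subgroup.centralizer (B : Set X) := by
  intro B hBn hB a ha
  have := hBn
  have hq := quad_comm_of_elt B a ha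
  by_contra hcon
  apply h.2 B hB
  obtain ⟨K, L, hL, hCL, hLK, e⟩ := quad_section_of_normal' hp2 B hB
    (Subgroup.centralizer (B : Set X)) rfl a hq (fun hmem => hcon (pIn_of_mem_pCore _ hmem))
  exact ⟨K, L, hL, hCL, hLK, by rw [Subgroup.normalizer_eq_top]; exact le_top, e⟩

/-- `AF` passes to subgroups. -/
theorem af_sub {p : ℕ} {X : Type u} [Group X] (h : AF p X) (K₀ : Subgroup X) : AF p ↥K₀ := by
  have hfin := h.1
  refine ⟨inferInstance, ?_⟩
  rintro Q hQ ⟨H, K, hK, hCK, hKH, hHN, ⟨e⟩⟩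
  obtain ⟨Q', hQ'def⟩ : ∃ Q' : Subgroup X, Q' = Q.map K₀.subtype := ⟨_, rfl⟩
  obtain ⟨C, hCdef⟩ : ∃ C : Subgroup X, C = Subgroup.centralizer (Q' : Set X) := ⟨_, rfl⟩
  have hQ' : IsPGroup p Q' := by rw [hQ'def]; exact hQ.map _
  apply h.2 Q' hQ'
  obtain ⟨H', hH'def⟩ : ∃ H' : Subgroup X, H' = H.map K₀.subtype ⊔ C := ⟨_, rfl⟩
  obtain ⟨K', hK'def⟩ : ∃ K' : Subgroup X, K' = K.map K₀.subtype ⊔ C := ⟨_, rfl⟩
  have hHnQ : H.map K₀.subtype ≤ Subgroup.normalizer (Q' : Set X) := by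
    rw [hQ'def]
    exact (Subgroup.map_mono hHN).trans (Subgroup.le_normalizer_map _)
  have hHnC : H.map K₀.subtype ≤ Subgroup.normalizer (C : Set X) := by
    rw [hCdef]
    exact hHnQ.trans (normalizer_le_normalizer_centralizer Q')
  have hKnC : K.map K₀.subtype ≤ Subgroup.normalizer (C : Set X) :=
    (Subgroup.map_mono hKH).trans hHnC
  have hCK' : C ≤ K' := by rw [hK'def]; exact le_sup_right
  have hK'H' : K' ≤ H' := by
    rw [hK'def, hH'def]
    exact sup_le_sup_right (Subgroup.map_mono hKH) C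
  have hH'N : H' ≤ Subgroup.normalizer (Q' : Set X) := by
    rw [hH'def]
    refine sup_le hHnQ ?_
    rw [hCdef]
    exact Subgroup.centralizer_le_normalizer _
  have hHK : H ≤ Subgroup.normalizer (K : Set ↥K₀) :=
    (Subgroup.normal_subgroupOf_iff_le_normalizer hKH).mp hK
  have hH'nK' : H' ≤ Subgroup.normalizer (K' : Set X) := by
    rw [hH'def]
    refine sup_le ?_ (hCK'.trans Subgroup.le_normalizer)
    rw [hK'def]
    refine le_trans (le_inf ?_ hHnC) (normalizer_inf_le_sup _ _)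
    exact (Subgroup.map_mono hHK).trans (Subgroup.le_normalizer_map _)
  have hK'n : (K'.subgroupOf H').Normal :=
    (Subgroup.normal_subgroupOf_iff_le_normalizer hK'H').mpr hH'nK'
  have hcent : ∀ k : ↥K₀, (k : X) ∈ C → k ∈ Subgroup.centralizer (Q : Set ↥K₀) := by
    intro k hk
    rw [hCdef, Subgroup.mem_centralizer_iff] at hk
    rw [Subgroup.mem_centralizer_iff]
    intro q hq
    apply Subtype.ext
    have := hk (q : X) (by rw [hQ'def]; exact ⟨q, hq, rfl⟩)
    simpa using this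
  obtain ⟨e'⟩ := sec_iso K₀.subtype H K H' K' hK hK'n
    (fun a ha => by rw [hH'def]; exact Subgroup.mem_sup_left ⟨a, ha, rfl⟩)
    (fun b hb => by
      rw [hH'def] at hb
      obtain ⟨u, hu, o, ho, rfl⟩ := mem_sup_of_le_normalizer hHnC hb
      obtain ⟨a, ha, rfl⟩ := hu
      refine ⟨a, ha, ?_⟩
      have e1 : (K₀.subtype a)⁻¹ * (K₀.subtype a * o) = o := by group
      rw [e1]
      exact hCK' ho)
    (fun a ha => by
      constructor
      · intro hmem
        rw [hK'def] at hmem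
        obtain ⟨u, hu, o, ho, hao⟩ := mem_sup_of_le_normalizer hKnC hmem
        obtain ⟨k, hk, rfl⟩ := hu
        have ho' : ((k⁻¹ * a : ↥K₀) : X) ∈ C := by
          have e1 : ((k⁻¹ * a : ↥K₀) : X) = o := by
            have : (K₀.subtype a) = K₀.subtype k * o := hao
            simp only [Subgroup.coe_mul, Subgroup.coe_inv]
            rw [show (a : X) = K₀.subtype a from rfl, this]
            simp
          rw [e1]; exact ho
        have h2 := hCK (hcent _ ho')
        have e2 : a = k * (k⁻¹ * a) := by group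
        rw [e2]; exact K.mul_mem hk h2
      · intro hmem
        rw [hK'def]
        exact Subgroup.mem_sup_left ⟨a, hmem, rfl⟩)
  exact ⟨H', K', hK'n, by rw [← hCdef]; exact hCK', hK'H', hH'N, ⟨e'.symm.trans e⟩⟩

/-- `AF` passes to quotients. -/
theorem af_quot {p : ℕ} [Fact p.Prime] {X : Type u} [Group X] (h : AF p X) (N : Subgroup X)
    [N.Normal] : AF p (X ⧸ N) := by
  have hfin := h.1
  refine ⟨inferInstance, ?_⟩
  rintro Qb hQb ⟨Hb, Kb, hKb, hCKb, hKHb, hHNb, ⟨e⟩⟩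
  obtain ⟨π, hπdef⟩ : ∃ π : X →* X ⧸ N, π = QuotientGroup.mk' N := ⟨_, rfl⟩
  have hπ : Function.Surjective π := by rw [hπdef]; exact QuotientGroup.mk'_surjective N
  obtain ⟨M, hMdef⟩ : ∃ M : Subgroup X, M = Qb.comap π := ⟨_, rfl⟩
  -- a Sylow subgroup of `M` mapping onto `Qb`
  obtain ⟨R, hR⟩ := exists_isSylIn p M
  have hRQ : R.map π = Qb := by
    apply le_antisymm
    · rw [Subgroup.map_le_iff_le_comap, ← hMdef]; exact hR.1
    · obtain ⟨S⟩ : Nonempty (Sylow p X) := inferInstance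
      have hSb := isSylIn_map_of_surjective π hπ (sylow_isSylIn S)
      obtain ⟨hb, -, hle⟩ := hSb.exists_conj_le (le_top : Qb ≤ ⊤) hQb
      obtain ⟨g, rfl⟩ := hπ hb
      -- `Q₁ = S^{g⁻¹} ∩ M` maps onto `Qb`
      obtain ⟨Q₁, hQ₁def⟩ : ∃ Q₁ : Subgroup X, Q₁ = cj g⁻¹ (S : Subgroup X) ⊓ M := ⟨_, rfl⟩
      have hQ₁p : IsPGroup p Q₁ := by
        rw [hQ₁def]; exact (isPGroup_cj S.isPGroup').to_inf_left
      have hQ₁M : Q₁ ≤ M := by rw [hQ₁def]; exact inf_le_right
      have hQ₁map : ∀ q ∈ Qb, ∃ s ∈ Q₁, π s = q := by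
        intro q hq
        have h1 : π g * q * (π g)⁻¹ ∈ (S : Subgroup X).map π := hle (conj_mem_cj hq)
        obtain ⟨s, hs, hsq⟩ := h1
        refine ⟨g⁻¹ * s * g, ?_, ?_⟩
        · rw [hQ₁def, Subgroup.mem_inf]
          refine ⟨?_, ?_⟩
          · have e0 : g⁻¹ * s * g = g⁻¹ * s * g⁻¹⁻¹ := by group
            rw [e0]
            exact conj_mem_cj hs
          · rw [hMdef]
            show π (g⁻¹ * s * g) ∈ Qb
            have e1 : π (g⁻¹ * s * g) = q := by
              rw [map_mul, map_mul, hsq, map_inv]; group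
            rw [e1]; exact hq
        · rw [map_mul, map_mul, hsq, map_inv]; group
      obtain ⟨m, hm, hmle⟩ := hR.exists_conj_le hQ₁M hQ₁p
      intro q hq
      have hmQ : π m ∈ Qb := by rw [hMdef] at hm; exact hm
      have hq' : (π m)⁻¹ * q * π m ∈ Qb := Qb.mul_mem (Qb.mul_mem (Qb.inv_mem hmQ) hq) hmQ
      obtain ⟨s, hs, hsq⟩ := hQ₁map _ hq'
      refine ⟨m * s * m⁻¹, hmle (conj_mem_cj hs), ?_⟩
      rw [map_mul, map_mul, hsq, map_inv]; group
  have hRp : IsPGroup p R := hR.2.1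
  apply h.2 R hRp
  -- Frattini
  have hfrat : ∀ xb ∈ Subgroup.normalizer (Qb : Set (X ⧸ N)),
      ∃ y ∈ Subgroup.normalizer (R : Set X), π y = xb := by
    intro xb hxb
    obtain ⟨x, rfl⟩ := hπ xb
    have hxM : x ∈ Subgroup.normalizer (M : Set X) := by
      rw [hMdef]
      exact Subgroup.le_normalizer_comap π hxb
    obtain ⟨m, hm, hmx⟩ := frattini_isSylIn hR hxM
    have hmQ : π m ∈ R.map π := by rw [hRQ]; rw [hMdef] at hm; exact hm
    obtain ⟨r, hr, hrm⟩ := hmQ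
    refine ⟨r⁻¹ * (m * x), Subgroup.mul_mem _ (Subgroup.inv_mem _ (Subgroup.le_normalizer hr)) hmx,
      ?_⟩
    rw [map_mul, map_inv, map_mul, hrm]; group
  obtain ⟨H, hHdef⟩ : ∃ H : Subgroup X, H = Hb.comap π ⊓ Subgroup.normalizer (R : Set X) :=
    ⟨_, rfl⟩
  obtain ⟨K, hKdef⟩ : ∃ K : Subgroup X, K = Kb.comap π ⊓ Subgroup.normalizer (R : Set X) :=
    ⟨_, rfl⟩
  have hCK : Subgroup.centralizer (R : Set X) ≤ K := by
    intro c hc
    rw [hKdef, Subgroup.mem_inf]
    refine ⟨?_, Subgroup.centralizer_le_normalizer _ hc⟩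
    show π c ∈ Kb
    apply hCKb
    rw [Subgroup.mem_centralizer_iff]
    intro q hq
    rw [← hRQ] at hq
    obtain ⟨r, hr, rfl⟩ := hq
    rw [Subgroup.mem_centralizer_iff] at hc
    rw [← map_mul, ← map_mul, hc r hr]
  have hKH : K ≤ H := by
    rw [hKdef, hHdef]
    exact inf_le_inf_right _ (Subgroup.comap_mono hKHb)
  have hHN : H ≤ Subgroup.normalizer (R : Set X) := by rw [hHdef]; exact inf_le_right
  have hHbK : Hb ≤ Subgroup.normalizer (Kb : Set (X ⧸ N)) :=
    (Subgroup.normal_subgroupOf_iff_le_normalizer hKHb).mp hKb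
  have hHnK : H ≤ Subgroup.normalizer (K : Set X) := by
    rw [hKdef]
    refine le_trans (le_inf ?_ ?_) (normalizer_inf_le_inf _ _)
    · rw [hHdef]
      exact inf_le_left.trans ((Subgroup.comap_mono hHbK).trans (Subgroup.le_normalizer_comap π))
    · exact hHN.trans Subgroup.le_normalizer
  have hKn : (K.subgroupOf H).Normal :=
    (Subgroup.normal_subgroupOf_iff_le_normalizer hKH).mpr hHnK
  obtain ⟨e'⟩ := sec_iso π H K Hb Kb hKn hKb
    (fun a ha => by rw [hHdef] at ha; exact ha.1)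
    (fun b hb => by
      obtain ⟨y, hy, rfl⟩ := hfrat b (hHNb hb)
      refine ⟨y, ?_, ?_⟩
      · rw [hHdef]; exact ⟨hb, hy⟩
      · rw [inv_mul_cancel]; exact Subgroup.one_mem _)
    (fun a ha => by
      rw [hKdef]
      rw [hHdef] at ha
      exact ⟨fun hmem => ⟨hmem, ha.2⟩, fun hmem => hmem.1⟩)
  exact ⟨H, K, hKn, hCK, hKH, hHN, ⟨e'.trans e⟩⟩

/-- the class `AF` satisfies the hypotheses of the generic induction. -/
theorem classHyp_af {p : ℕ} [Fact p.Prime] (hp2 : p ≠ 2) : ClassHyp.{u} p (AF p) where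
  sub := fun X _ h K => af_sub h K
  quot := fun X _ h N _ => af_quot h N
  stab := fun X _ _ h => af_stab hp2 h

end af

end Cfsg.Agent.Lib.Helper3.FC
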