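import Mathlib
import Cfsg.Agent.Lib.Helper3.FC3

/-!
# The least centric radical subgroup controls fusion (`S1953`)

For an odd prime `p` and a finite group `G` in which no automizer of a `p`-subgroup has a section
`SL₂(p)`: the largest subgroup `Q₀` of the Sylow subgroup `P` whose normalizer controls strong
fusion in `P` is centric and radical and lies in every centric radical subgroup of `P`.
-/

set_option autoImplicit false
set_option linter.unusedSectionVars false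
set_option linter.unusedVariables false

namespace Cfsg.Agent.Lib.Helper3.FC

open Cfsg
open Cfsg.Agent.Lib.Helper26
open Cfsg.Agent.Lib.Helper42
open Cfsg.Agent.Lib.Helper3.ZJ
open scoped commutatorElement

universe u

section tools

variable {G : Type*} [Group G]

/-- in a finite group, `g` normalizes `T` as soon as it conjugates `T` into `T`. -/
theorem mem_normalizer_of_cj_le [Finite G] {g : G} {T : Subgroup G} (h : cj g T ≤ T) :
    g ∈ Subgroup.normalizer (T : Set G) := by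
  rw [← cj_eq_self_iff]
  exact Subgroup.eq_of_le_of_card_ge h (by rw [card_cj])

/-- the index of `D` in `A D` is a power of `p` if `A` is a `p`-group normalizing `D`. -/
theorem relIndex_sup_pow [Finite G] {p : ℕ} [Fact p.Prime] {A D : Subgroup G}
    (hA : IsPGroup p A) (hAD : A ≤ Subgroup.normalizer (D : Set G)) :
    ∃ k : ℕ, D.relIndex (A ⊔ D) = p ^ k := by
  have hDn : (D.subgroupOf (A ⊔ D)).Normal :=
    (Subgroup.normal_subgroupOf_iff_le_normalizer le_sup_right).mpr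
      (sup_le hAD Subgroup.le_normalizer)
  have hquot : IsPGroup p (↥(A ⊔ D) ⧸ D.subgroupOf (A ⊔ D)) := by
    intro q
    induction q using QuotientGroup.induction_on with
    | H y' =>
      obtain ⟨a, ha, d, hd, hy⟩ := mem_sup_of_le_normalizer hAD y'.2
      obtain ⟨k, hk⟩ := hA ⟨a, ha⟩
      have hk' : a ^ p ^ k = 1 := by
        have := congrArg Subtype.val hk
        simpa using this
      refine ⟨k, ?_⟩
      have e1 : y' = (⟨a, Subgroup.mem_sup_left ha⟩ : ↥(A ⊔ D)) * ⟨d, Subgroup.mem_sup_right hd⟩ :=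
        Subtype.ext hy
      have e2 : ((⟨d, Subgroup.mem_sup_right hd⟩ : ↥(A ⊔ D)) : ↥(A ⊔ D) ⧸ D.subgroupOf (A ⊔ D)) = 1 := by
        rw [QuotientGroup.eq_one_iff, Subgroup.mem_subgroupOf]; exact hd
      rw [e1, QuotientGroup.mk_mul, e2, mul_one, ← QuotientGroup.mk_pow, QuotientGroup.eq_one_iff,
        Subgroup.mem_subgroupOf]
      simp only [Subgroup.coe_pow]
      rw [hk']; exact Subgroup.one_mem _
  obtain ⟨n, hn⟩ := IsPGroup.iff_card.mp hquot
  exact ⟨n, hn⟩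

/-- if the index of `D` in `Y` is a power of `p` (and `D` is normal in `Y`), then `p`-power
powers of the elements of `Y` lie in `D`. -/
theorem pow_mem_of_relIndex [Finite G] {p : ℕ} {D Y : Subgroup G} (hDY : D ≤ Y)
    (hYD : Y ≤ Subgroup.normalizer (D : Set G)) {k : ℕ} (hk : D.relIndex Y = p ^ k) :
    ∀ y ∈ Y, y ^ p ^ k ∈ D := by
  have hDn : (D.subgroupOf Y).Normal :=
    (Subgroup.normal_subgroupOf_iff_le_normalizer hDY).mpr hYD
  intro y hy
  have h1 : ((⟨y, hy⟩ : ↥Y) : ↥Y ⧸ D.subgroupOf Y) ^ Nat.card (↥Y ⧸ D.subgroupOf Y) = 1 :=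
    pow_card_eq_one'
  have h2 : Nat.card (↥Y ⧸ D.subgroupOf Y) = p ^ k := hk
  rw [h2, ← QuotientGroup.mk_pow, QuotientGroup.eq_one_iff, Subgroup.mem_subgroupOf] at h1
  simpa using h1

/-- a central Sylow `p`-subgroup `Z` of `C` has a complement `K₀`, the set of `p'`-elements. -/
theorem central_sylow_decomp [Finite G] {p : ℕ} [Fact p.Prime] (C Z : Subgroup G)
    (hZ : IsSylIn p Z C) (hcent : ∀ z ∈ Z, ∀ c ∈ C, c * z = z * c) :
    ∃ K₀ : Subgroup G, (Nat.card K₀).Coprime p ∧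
      (∀ x : G, x ∈ K₀ ↔ x ∈ C ∧ (orderOf x).Coprime p) ∧
      ∀ c ∈ C, ∃ z ∈ Z, ∃ k ∈ K₀, c = z * k := by
  have hp : p.Prime := Fact.out
  let P₀ : Sylow p ↥C := IsPGroup.toSylow (P := Z.subgroupOf C) hZ.2.1.comap_subtype hZ.2.2
  have hP₀ : ∀ x : ↥C, x ∈ (P₀ : Subgroup ↥C) ↔ (x : G) ∈ Z := by
    intro x
    show x ∈ Z.subgroupOf C ↔ _
    rw [Subgroup.mem_subgroupOf]
  have hP : Subgroup.normalizer ((P₀ : Subgroup ↥C) : Set ↥C) ≤
      Subgroup.centralizer ((P₀ : Subgroup ↥C) : Set ↥C) := by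
    intro c _
    rw [Subgroup.mem_centralizer_iff]
    intro x hx
    apply Subtype.ext
    have := hcent x ((hP₀ x).mp hx) c c.2
    simpa using this.symm
  let τ := MonoidHom.transferSylow P₀ hP
  have hcompl := MonoidHom.ker_transferSylow_isComplement' P₀ hP
  have hcard : ¬ p ∣ Nat.card τ.ker := MonoidHom.not_dvd_card_ker_transferSylow P₀ hP
  have hmem : ∀ x : G, x ∈ τ.ker.map C.subtype ↔ x ∈ C ∧ (orderOf x).Coprime p := by
    intro x
    constructor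
    · rintro ⟨k, hk, rfl⟩
      refine ⟨k.2, ?_⟩
      have h1 : orderOf (C.subtype k) = orderOf k := Subgroup.orderOf_coe k
      rw [h1]
      have h2 : orderOf (⟨k, hk⟩ : τ.ker) ∣ Nat.card τ.ker := orderOf_dvd_natCard _
      have h3 : orderOf (⟨k, hk⟩ : τ.ker) = orderOf k := by
        rw [← Subgroup.orderOf_coe]
      rw [h3] at h2
      exact Nat.Coprime.coprime_dvd_left h2 ((Nat.Prime.coprime_iff_not_dvd hp).mpr hcard).symm
    · rintro ⟨hxC, hxo⟩
      refine ⟨⟨x, hxC⟩, ?_, rfl⟩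
      rw [SetLike.mem_coe, MonoidHom.mem_ker]
      have h1 : orderOf (τ ⟨x, hxC⟩) ∣ orderOf (⟨x, hxC⟩ : ↥C) := orderOf_map_dvd τ _
      have h2 : orderOf (⟨x, hxC⟩ : ↥C) = orderOf x := by
        rw [← Subgroup.orderOf_coe]
      rw [h2] at h1
      obtain ⟨k, hk⟩ := (IsPGroup.iff_orderOf.mp P₀.isPGroup') (τ ⟨x, hxC⟩)
      have h3 : (orderOf (τ ⟨x, hxC⟩)).Coprime p := Nat.Coprime.coprime_dvd_left h1 hxo
      rw [hk] at h3
      have hk0 : k = 0 := by
        by_contra hne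
        have h4 : p ∣ p ^ k := dvd_pow_self p hne
        have h5 : p ∣ Nat.gcd (p ^ k) p := Nat.dvd_gcd h4 dvd_rfl
        rw [h3] at h5
        exact hp.one_lt.ne' (Nat.dvd_one.mp h5)
      rw [hk0, pow_zero] at hk
      exact orderOf_eq_one_iff.mp hk
  refine ⟨τ.ker.map C.subtype, ?_, hmem, ?_⟩
  · rw [Subgroup.card_map_of_injective C.subtype_injective]
    exact ((Nat.Prime.coprime_iff_not_dvd hp).mpr hcard).symm
  · intro c hc
    obtain ⟨⟨k, z⟩, hkz⟩ := (Subgroup.isComplement'_def.mp hcompl).2 ⟨c, hc⟩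
    have hz : ((z : ↥C) : G) ∈ Z := (hP₀ z).mp z.2
    refine ⟨((z : ↥C) : G), hz, ((k : ↥C) : G), ⟨(k : ↥C), k.2, rfl⟩, ?_⟩
    have h1 : (c : G) = ((k : ↥C) : G) * ((z : ↥C) : G) := by
      have := congrArg Subtype.val hkz
      simpa using this.symm
    rw [h1]
    exact hcent _ hz _ (k : ↥C).2

/-- absorbing an element of a `p'`-subgroup normalized by `T`. -/
theorem pprime_fac' [Finite G] {p : ℕ} [Fact p.Prime] (Y : Subgroup G)
    (hY : (Nat.card Y).Coprime p) (M T : Subgroup G) (hT : IsPGroup p T) (hTM : T ≤ M)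
    (hTY : T ≤ Subgroup.normalizer (Y : Set G))
    (n y : G) (hn : n ∈ M) (hy : y ∈ Y) (hc : cj (n * y) T ≤ M) : Fac M T (n * y) := by
  have hyT : ∀ a ∈ T, y * a * y⁻¹ ∈ M := by
    intro a ha
    have h1 : (n * y) * a * (n * y)⁻¹ ∈ M := hc (conj_mem_cj ha)
    have e : y * a * y⁻¹ = n⁻¹ * ((n * y) * a * (n * y)⁻¹) * n := by group
    rw [e]; exact M.mul_mem (M.mul_mem (M.inv_mem hn) h1) hn
  have hTY' : ∀ t ∈ T, ∀ h ∈ Y, t * h * t⁻¹ ∈ Y := fun t ht h hh =>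
    (Subgroup.mem_normalizer_iff.mp (hTY ht) h).mp hh
  have hA : T ≤ Subgroup.normalizer ((M ⊓ Y : Subgroup G) : Set G) := by
    intro t ht
    apply mem_normalizer_of_cj_le
    rintro _ ⟨h, ⟨h1, h2⟩, rfl⟩
    exact ⟨M.mul_mem (M.mul_mem (hTM ht) h1) (M.inv_mem (hTM ht)), hTY' t ht h h2⟩
  have hcop : (Nat.card T).Coprime (Nat.card (M ⊓ Y : Subgroup G)) :=
    Nat.Coprime.coprime_dvd_right (Subgroup.card_dvd_of_le inf_le_right)
      (coprime_card_of_isPGroup hT hY)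
  have hsolv : Group.IsSolvable T ∨ Group.IsSolvable (M ⊓ Y : Subgroup G) := Or.inl (by
    have : Group.IsNilpotent T := hT.isNilpotent
    infer_instance)
  obtain ⟨y₁, hy₁, hcen⟩ := Cfsg.Agent.S0057.lift_fix hA hcop hsolv y (fun a ha => by
    refine ⟨M.mul_mem (hyT a ha) (M.inv_mem (hTM ha)), ?_⟩
    have e : y * a * y⁻¹ * a⁻¹ = y * (a * y⁻¹ * a⁻¹) := by group
    rw [e]; exact Y.mul_mem hy (hTY' a ha _ (Y.inv_mem hy)))
  exact ⟨n * y₁, M.mul_mem hn hy₁.1, y₁⁻¹ * y, hcen, by group⟩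

end tools


section central

variable {p : ℕ} [Fact p.Prime]

/-- **Lifting `Z(J)`-control through a central `p`-subgroup**: if `Z` is a central `p`-subgroup of
the `AF`-group `X` and `T` is the preimage of `Z(J(S/Z))`, then `N_X(T)` controls strong fusion
in the Sylow subgroup `S`. -/
theorem central_ctl (hp2 : p ≠ 2) {X : Type u} [Group X] [Finite X] (hX : AF p X)
    (S : Sylow p X) (Z : Subgroup X) (hZp : IsPGroup p Z) (hZc : Z ≤ Subgroup.center X) :
    ∃ T : Subgroup X, Z ≤ T ∧ T ≤ (S : Subgroup X) ∧ ((S : Subgroup X) ≠ Z → T ≠ Z) ∧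
      ∀ (A : Subgroup X) (x : X), A ≤ (S : Subgroup X) → cj x A ≤ (S : Subgroup X) →
        Fac (Subgroup.normalizer (T : Set X)) A x := by
  have hZcomm : ∀ z ∈ Z, ∀ g : X, g * z = z * g := fun z hz g =>
    Subgroup.mem_center_iff.mp (hZc hz) g
  have hZn : Z.Normal := ⟨fun z hz g => by
    have e : g * z * g⁻¹ = z := by rw [hZcomm z hz g]; group
    rw [e]; exact hz⟩
  have hZS : Z ≤ (S : Subgroup X) := normal_pgroup_le_sylow S hZp
  have hSp : IsPGroup p (S : Subgroup X) := S.isPGroup'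
  obtain ⟨π, hπdef⟩ : ∃ π : X →* X ⧸ Z, π = QuotientGroup.mk' Z := ⟨_, rfl⟩
  have hπ : Function.Surjective π := by rw [hπdef]; exact QuotientGroup.mk'_surjective Z
  have hker : π.ker = Z := by rw [hπdef]; exact QuotientGroup.ker_mk' Z
  have hcoe : ((S.mapSurjective hπ : Sylow p (X ⧸ Z)) : Subgroup (X ⧸ Z)) =
      (S : Subgroup X).map π := Sylow.coe_mapSurjective hπ S
  obtain ⟨Sb, hSbdef⟩ : ∃ Sb : Sylow p (X ⧸ Z), Sb = S.mapSurjective hπ := ⟨_, rfl⟩
  have hcoe' : (Sb : Subgroup (X ⧸ Z)) = (S : Subgroup X).map π := by rw [hSbdef]; exact hcoe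
  obtain ⟨Tb, hTbdef⟩ : ∃ Tb : Subgroup (X ⧸ Z),
    Tb = centerThompsonAOf (Sb : Subgroup (X ⧸ Z)) := ⟨_, rfl⟩
  obtain ⟨T, hTdef⟩ : ∃ T : Subgroup X, T = Tb.comap π := ⟨_, rfl⟩
  have hZT : Z ≤ T := by
    intro z hz
    rw [hTdef, Subgroup.mem_comap]
    have : π z = 1 := by
      rw [← MonoidHom.mem_ker, hker]; exact hz
    rw [this]; exact Subgroup.one_mem _
  have hTS : T ≤ (S : Subgroup X) := by
    intro x hx
    rw [hTdef, Subgroup.mem_comap, hTbdef] at hx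
    have h1 : π x ∈ (S : Subgroup X).map π := by
      rw [← hcoe']; exact ctA_le _ hx
    obtain ⟨s, hs, hsx⟩ := h1
    have h2 : s⁻¹ * x ∈ Z := by
      rw [← hker, MonoidHom.mem_ker, map_mul, map_inv, hsx]; group
    have e : x = s * (s⁻¹ * x) := by group
    rw [e]; exact Subgroup.mul_mem _ hs (hZS h2)
  have hSbp : IsPGroup p (Sb : Subgroup (X ⧸ Z)) := Sb.isPGroup'
  have hSbN : (Sb : Subgroup (X ⧸ Z)) ≤ Subgroup.normalizer (Tb : Set (X ⧸ Z)) := by
    have := normalizer_le_normalizer_ind (zjA_char p) (X := X ⧸ Z) hSbp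
    rw [ind_zjA] at this
    rw [hTbdef]
    exact Subgroup.le_normalizer.trans this
  have hSnT : (S : Subgroup X) ≤ Subgroup.normalizer (T : Set X) := by
    intro s hs
    rw [hTdef]
    apply Subgroup.le_normalizer_comap π
    rw [Subgroup.mem_comap]
    apply hSbN
    rw [hcoe']; exact ⟨s, hs, rfl⟩
  have hfacS : ∀ g : X, ∃ u ∈ (S : Subgroup X), ∃ c ∈ Subgroup.centralizer (Z : Set X),
      g = u * c := fun g => ⟨1, Subgroup.one_mem _, g, by
        rw [Subgroup.mem_centralizer_iff]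
        intro z hz
        exact (hZcomm z hz g).symm, by group⟩
  refine ⟨T, hZT, hTS, ?_, ?_⟩
  · intro hne hTZ
    have hTb : Tb = ⊥ := by
      rw [← Subgroup.map_comap_eq_self_of_surjective hπ Tb, ← hTdef, hTZ,
        Subgroup.map_eq_bot_iff, hker]
    have hSb1 : (Sb : Subgroup (X ⧸ Z)) ≠ ⊥ := by
      intro h0
      rw [hcoe', Subgroup.map_eq_bot_iff, hker] at h0
      exact hne (le_antisymm h0 hZS)
    have h2 := ind_ne_bot (zjA_char p) (X := X ⧸ Z) hSbp hSb1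
    rw [ind_zjA, ← hTbdef] at h2
    exact h2 hTb
  refine alperin_fac S _ ?_
  intro A hA IH
  obtain ⟨m, hm, hsyl⟩ := exists_fn_conj S hA
  refine ⟨m, hm, hsyl.2.2, fun t ht => ?_⟩
  by_cases hPA : Z ≤ cj m A
  · have h := classical_fac hp2 (classHyp_af hp2) (af_quot hX Z) Sb ((cj m A).map π) (π t)
      (by rw [hcoe']; exact Subgroup.map_mono hm)
      (by
        rw [hcoe']
        rintro _ ⟨_, ⟨a, ha, rfl⟩, rfl⟩
        refine ⟨t * a * t⁻¹, hm ?_, ?_⟩
        · have := conj_mem_cj (g := t) ha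
          rwa [cj_eq_of_mem_normalizer ht] at this
        · simp [MulAut.conj_apply])
    obtain ⟨nb, hnb, cb, hcb, hπt⟩ := h
    obtain ⟨n₁, rfl⟩ := hπ nb
    have hn₁ : n₁ ∈ Subgroup.normalizer (T : Set X) := by
      rw [hTdef]
      apply Subgroup.le_normalizer_comap π
      rw [Subgroup.mem_comap, hTbdef]
      exact hnb
    have hcb' : cb = π (n₁⁻¹ * t) := by
      rw [map_mul, map_inv, hπt]; group
    have hy : ∀ a ∈ cj m A, (n₁⁻¹ * t) * a * (n₁⁻¹ * t)⁻¹ * a⁻¹ ∈ Z := by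
      intro a ha
      rw [← hker, MonoidHom.mem_ker]
      have h1 := Subgroup.mem_centralizer_iff.mp hcb (π a) ⟨a, ha, rfl⟩
      rw [hcb'] at h1
      have e : π ((n₁⁻¹ * t) * a * (n₁⁻¹ * t)⁻¹ * a⁻¹) =
          (π (n₁⁻¹ * t) * π a) * (π (n₁⁻¹ * t))⁻¹ * (π a)⁻¹ := by
        simp only [map_mul, map_inv]
      rw [e, ← h1]
      group
    obtain ⟨u, hu, huy⟩ := act_as_sylow S hZp hPA hsyl hfacS hy
    have hcu : u⁻¹ * (n₁⁻¹ * t) ∈ Subgroup.centralizer ((cj m A : Subgroup X) : Set X) := by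
      rw [Subgroup.mem_centralizer_iff]
      intro a ha
      have := huy a ha
      calc a * (u⁻¹ * (n₁⁻¹ * t)) = u⁻¹ * (u * a * u⁻¹) * (n₁⁻¹ * t) := by group
        _ = u⁻¹ * ((n₁⁻¹ * t) * a * (n₁⁻¹ * t)⁻¹) * (n₁⁻¹ * t) := by rw [this]
        _ = u⁻¹ * (n₁⁻¹ * t) * a := by group
    exact ⟨n₁ * u, Subgroup.mul_mem _ hn₁ (hSnT hu.1), u⁻¹ * (n₁⁻¹ * t), hcu, by group⟩
  · have hB : cj m A ⊔ Z ≤ (S : Subgroup X) := sup_le hm hZS
    have hlt : Nat.card A < Nat.card (cj m A ⊔ Z : Subgroup X) := by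
      rw [← card_cj m A]
      exact card_lt_of_lt (lt_of_le_of_ne le_sup_left (fun h => hPA (h ▸ le_sup_right)))
    have htB : cj t (cj m A ⊔ Z) = cj m A ⊔ Z := by
      show (cj m A ⊔ Z).map _ = _
      rw [Subgroup.map_sup]
      have h1 : cj t (cj m A) = cj m A := cj_eq_of_mem_normalizer ht
      have h2 : cj t Z = Z := cj_eq_of_mem_normalizer (by rw [Subgroup.normalizer_eq_top]; trivial)
      exact congrArg₂ _ h1 h2
    have := IH (cj m A ⊔ Z) t hB (by rw [htB]; exact hB) hlt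
    exact this.mono (fun x hx => (le_sup_left : cj m A ≤ cj m A ⊔ Z) hx)

end central


section main

variable {p : ℕ} [Fact p.Prime]

/-- `N_G(Q)` controls strong fusion in `P`. -/
def CtlBy {G : Type*} [Group G] (P Q : Subgroup G) : Prop :=
  ∀ (T : Subgroup G) (g : G), T ≤ P → cj g T ≤ P → Fac (Subgroup.normalizer (Q : Set G)) T g

omit [Fact p.Prime] in
theorem ctlBy_le_normalizer {G : Type*} [Group G] {P Q : Subgroup G} (hQP : Q ≤ P)
    (h : CtlBy P Q) : P ≤ Subgroup.normalizer (Q : Set G) := by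
  intro x hx
  obtain ⟨n, hn, c, hc, rfl⟩ := h P x le_rfl
    (cj_eq_of_mem_normalizer (Subgroup.le_normalizer hx)).le
  exact Subgroup.mul_mem _ hn
    (Subgroup.centralizer_le_normalizer _ (Subgroup.centralizer_le hQP hc))

omit [Fact p.Prime] in
/-- there is a largest subgroup of `P` whose normalizer controls strong fusion in `P`. -/
theorem exists_largest_ctl {G : Type*} [Group G] [Finite G] (P : Subgroup G) :
    ∃ Q₀ : Subgroup G, Q₀ ≤ P ∧ CtlBy P Q₀ ∧ ∀ Q : Subgroup G, Q ≤ P → CtlBy P Q → Q ≤ Q₀ := by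
  classical
  obtain ⟨s, hs⟩ : ∃ s : Finset (Subgroup G), ∀ Q, Q ∈ s ↔ (Q ≤ P ∧ CtlBy P Q) :=
    ⟨(Set.toFinite {Q | Q ≤ P ∧ CtlBy P Q}).toFinset, fun Q => by simp⟩
  refine ⟨sSup (↑s : Set (Subgroup G)), sSup_le (fun Q hQ => ((hs Q).mp hQ).1), ?_,
    fun Q hQP hQ => le_sSup ((hs Q).mpr ⟨hQP, hQ⟩)⟩
  intro T g hT hgT
  obtain ⟨h, -, hnorm, c, hc, rfl⟩ := finset_ctl (R := P) (N := ⊤) s
    (fun V' hV' => ⟨((hs V').mp hV').1, fun A hA n _ hnA => by
      obtain ⟨h, hh, c, hc, rfl⟩ := ((hs V').mp hV').2 A n hA hnA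
      exact ⟨h, ⟨trivial, hh⟩, c, ⟨trivial, hc⟩, rfl⟩⟩) T hT g trivial hgT
  refine ⟨h, ?_, c, hc.2, rfl⟩
  apply mem_normalizer_of_cj_le
  show (sSup (↑s : Set (Subgroup G))).map _ ≤ _
  rw [Subgroup.map_le_iff_le_comap]
  apply sSup_le
  intro V' hV'
  rw [← Subgroup.map_le_iff_le_comap]
  have h1 : cj h V' = V' := hnorm V' hV'
  exact h1.le.trans (le_sSup hV')

/-- Sylow subgroups of a subgroup, in the two languages. -/
theorem isSylIn_iff_sylow {G : Type*} [Group G] [Finite G] (T H : Subgroup G) (hT : T ≤ H) :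
    (∃ R : Sylow p ↥H, (R : Subgroup ↥H).map H.subtype = T) ↔ IsSylIn p T H := by
  constructor
  · rintro ⟨R, rfl⟩
    refine ⟨Subgroup.map_subtype_le _, R.isPGroup'.map _, ?_⟩
    have h1 : ((R : Subgroup H).map H.subtype).subgroupOf H = (R : Subgroup H) := by
      ext x; simp [Subgroup.mem_subgroupOf]
    rw [Subgroup.relIndex, h1]
    exact R.not_dvd_index
  · intro h
    refine ⟨IsPGroup.toSylow (P := T.subgroupOf H) h.2.1.comap_subtype h.2.2, ?_⟩
    show (T.subgroupOf H).map H.subtype = T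
    rw [Subgroup.subgroupOf_map_subtype, inf_eq_left.mpr hT]

/-- a subgroup whose normalizer controls strong fusion lies in every centric radical subgroup. -/
theorem ctl_le_of_cr {G : Type*} [Group G] [Finite G] (P : Sylow p G) (Q R : Subgroup G)
    (hQP : Q ≤ (P : Subgroup G)) (hQ : CtlBy (P : Subgroup G) Q) (hRP : R ≤ (P : Subgroup G))
    (hRc : IsSylIn p (R ⊓ Subgroup.centralizer (R : Set G)) (Subgroup.centralizer (R : Set G)))
    (hRr : ∀ X : Subgroup G, X ≤ Subgroup.normalizer (R : Set G) →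
      (∀ n ∈ Subgroup.normalizer (R : Set G), cj n X = X) →
      R ⊔ Subgroup.centralizer (R : Set G) ≤ X →
      (∃ k : ℕ, (R ⊔ Subgroup.centralizer (R : Set G)).relIndex X = p ^ k) →
      X = R ⊔ Subgroup.centralizer (R : Set G)) : Q ≤ R := by
  have hPp : IsPGroup p (P : Subgroup G) := P.isPGroup'
  have hPNQ := ctlBy_le_normalizer hQP hQ
  obtain ⟨NR, hNR⟩ : ∃ NR : Subgroup G, NR = Subgroup.normalizer (R : Set G) := ⟨_, rfl⟩
  obtain ⟨CR, hCR⟩ : ∃ CR : Subgroup G, CR = Subgroup.centralizer (R : Set G) := ⟨_, rfl⟩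
  rw [← hNR, ← hCR] at hRr
  rw [← hCR] at hRc
  have hCN : CR ≤ NR := by rw [hCR, hNR]; exact Subgroup.centralizer_le_normalizer _
  have hRN : R ≤ NR := by rw [hNR]; exact Subgroup.le_normalizer
  have hNnR : NR ≤ Subgroup.normalizer (R : Set G) := hNR.le
  have hNnC : NR ≤ Subgroup.normalizer (CR : Set G) := by
    rw [hNR, hCR]; exact normalizer_le_normalizer_centralizer R
  have hNnD : NR ≤ Subgroup.normalizer ((R ⊔ CR : Subgroup G) : Set G) :=
    fun n hn => normalizer_inf_le_sup _ _ ⟨hNnR hn, hNnC hn⟩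
  obtain ⟨A, hAdef⟩ : ∃ A : Subgroup G, A = Q ⊓ NR := ⟨_, rfl⟩
  have hAp : IsPGroup p A := by rw [hAdef]; exact (hPp.to_le hQP).to_inf_left
  have hAN : A ≤ NR := by rw [hAdef]; exact inf_le_right
  have hAD : A ≤ Subgroup.normalizer ((R ⊔ CR : Subgroup G) : Set G) := hAN.trans hNnD
  have hX := hRr (A ⊔ (R ⊔ CR)) (sup_le hAN (sup_le hRN hCN)) (by
    intro n hn
    have hnR : cj n R = R := cj_eq_of_mem_normalizer (hNnR hn)
    obtain ⟨h, hh, c, hc, rfl⟩ := hQ R n hRP (by rw [hnR]; exact hRP)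
    have hcC : c ∈ CR := by rw [hCR]; exact hc
    have hhN : h ∈ NR := by
      have e : h = h * c * c⁻¹ := by group
      rw [e]; exact NR.mul_mem hn (NR.inv_mem (hCN hcC))
    have hcX : c ∈ Subgroup.normalizer ((A ⊔ (R ⊔ CR) : Subgroup G) : Set G) :=
      Subgroup.le_normalizer (Subgroup.mem_sup_right (Subgroup.mem_sup_right hcC))
    have hNN : NR ≤ Subgroup.normalizer (NR : Set G) := Subgroup.le_normalizer
    have hhA : h ∈ Subgroup.normalizer (A : Set G) := by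
      rw [hAdef]; exact normalizer_inf_le_inf _ _ ⟨hh, hNN hhN⟩
    have hhX : h ∈ Subgroup.normalizer ((A ⊔ (R ⊔ CR) : Subgroup G) : Set G) :=
      normalizer_inf_le_sup _ _ ⟨hhA, hNnD hhN⟩
    rw [← cj_cj, cj_eq_of_mem_normalizer hcX, cj_eq_of_mem_normalizer hhX]) le_sup_right
    (relIndex_sup_pow hAp hAD)
  have hA : A ≤ R ⊔ CR := by rw [← hX]; exact le_sup_left
  have hPD : ∀ x ∈ (P : Subgroup G), x ∈ R ⊔ CR → x ∈ R := by
    intro x hxP hx
    obtain ⟨r, hr, c, hc, rfl⟩ := mem_sup_of_le_normalizer (hRN.trans hNnC) hx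
    have hcP : c ∈ (P : Subgroup G) := by
      have e : c = r⁻¹ * (r * c) := by group
      rw [e]; exact Subgroup.mul_mem _ (Subgroup.inv_mem _ (hRP hr)) hxP
    have heq : R ⊓ CR = (P : Subgroup G) ⊓ CR :=
      hRc.eq_of_le inf_le_right hPp.to_inf_left (inf_le_inf_right _ hRP)
    have hcR : c ∈ R ⊓ CR := by rw [heq]; exact ⟨hcP, hc⟩
    exact R.mul_mem hr hcR.1
  by_contra hQR
  have hne : R ≠ Q ⊔ R := fun h => hQR (h ▸ le_sup_left)
  have hQRP : Q ⊔ R ≤ (P : Subgroup G) := sup_le hQP hRP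
  have hlt := card_lt_card_inf_normalizer (hPp.to_le hQRP) (le_sup_right : R ≤ Q ⊔ R) hne
  have hnle : ¬ ((Q ⊔ R) ⊓ Subgroup.normalizer (R : Set G) ≤ R) := fun hle =>
    absurd (Subgroup.card_le_of_le hle) (not_le.mpr hlt)
  obtain ⟨x, hx, hxR⟩ := SetLike.not_le_iff_exists.mp hnle
  apply hxR
  have hx1 : x ∈ R ⊔ Q := by rw [sup_comm]; exact hx.1
  obtain ⟨r, hr, q, hq, rfl⟩ := mem_sup_of_le_normalizer (hRP.trans hPNQ) hx1
  have hqN : q ∈ NR := by
    have e : q = r⁻¹ * (r * q) := by group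
    rw [e, hNR]
    exact Subgroup.mul_mem _ (Subgroup.inv_mem _ (Subgroup.le_normalizer hr)) hx.2
  exact R.mul_mem hr (hPD q (hQP hq) (hA (by rw [hAdef]; exact ⟨hq, hqN⟩)))

/-- the largest subgroup whose normalizer controls strong fusion is centric. -/
theorem largest_centric (hp2 : p ≠ 2) {G : Type u} [Group G] [Finite G] (hG : AF p G)
    (P : Sylow p G) (Q₀ : Subgroup G) (hQP : Q₀ ≤ (P : Subgroup G))
    (hQ : CtlBy (P : Subgroup G) Q₀)
    (hmax : ∀ Q : Subgroup G, Q ≤ (P : Subgroup G) → CtlBy (P : Subgroup G) Q → Q ≤ Q₀) :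
    (P : Subgroup G) ⊓ Subgroup.centralizer (Q₀ : Set G) ≤ Q₀ := by
  by_contra hcon
  have hPM := ctlBy_le_normalizer hQP hQ
  obtain ⟨C, hCdef⟩ : ∃ C : Subgroup G, C = Subgroup.centralizer (Q₀ : Set G) := ⟨_, rfl⟩
  obtain ⟨M, hMdef⟩ : ∃ M : Subgroup G, M = Subgroup.normalizer (Q₀ : Set G) := ⟨_, rfl⟩
  rw [← hCdef] at hcon
  rw [← hMdef] at hPM
  have hCM : C ≤ M := by rw [hCdef, hMdef]; exact Subgroup.centralizer_le_normalizer _
  have hMC : M ≤ Subgroup.normalizer (C : Set G) := by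
    rw [hCdef, hMdef]; exact normalizer_le_normalizer_centralizer Q₀
  have hPC : IsSylIn p ((P : Subgroup G) ⊓ C) C :=
    ((sylow_isSylIn P).of_le hPM le_top).inf_normal hCM hMC
  let S_C : Sylow p ↥C := IsPGroup.toSylow (P := ((P : Subgroup G) ⊓ C).subgroupOf C)
    hPC.2.1.comap_subtype hPC.2.2
  have hS_C : ∀ x : ↥C, x ∈ (S_C : Subgroup ↥C) ↔ (x : G) ∈ (P : Subgroup G) := by
    intro x
    show x ∈ ((P : Subgroup G) ⊓ C).subgroupOf C ↔ _
    rw [Subgroup.mem_subgroupOf, Subgroup.mem_inf]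
    exact ⟨fun h => h.1, fun h => ⟨h, x.2⟩⟩
  obtain ⟨Z', hZ'def⟩ : ∃ Z' : Subgroup ↥C, Z' = Q₀.subgroupOf C := ⟨_, rfl⟩
  have hZ'mem : ∀ x : ↥C, x ∈ Z' ↔ (x : G) ∈ Q₀ := by
    intro x; rw [hZ'def, Subgroup.mem_subgroupOf]
  have hZ'p : IsPGroup p Z' := by
    rw [hZ'def]; exact (P.isPGroup'.to_le hQP).comap_subtype
  have hZ'c : Z' ≤ Subgroup.center ↥C := by
    intro z hz
    rw [Subgroup.mem_center_iff]
    intro g
    apply Subtype.ext
    have h1 : (g : G) ∈ Subgroup.centralizer (Q₀ : Set G) := by rw [← hCdef]; exact g.2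
    have := Subgroup.mem_centralizer_iff.mp h1 (z : G) ((hZ'mem z).mp hz)
    simpa using this.symm
  obtain ⟨T', hZT', hT'S, hT'ne, hT'ctl⟩ := central_ctl hp2 (af_sub hG C) S_C Z' hZ'p hZ'c
  have hSne : (S_C : Subgroup ↥C) ≠ Z' := by
    intro heq
    apply hcon
    intro x hx
    have h1 : (⟨x, hx.2⟩ : ↥C) ∈ (S_C : Subgroup ↥C) := (hS_C _).mpr hx.1
    rw [heq] at h1
    exact (hZ'mem _).mp h1
  have hT'ne' := hT'ne hSne
  obtain ⟨V, hVdef⟩ : ∃ V : Subgroup G, V = T'.map C.subtype := ⟨_, rfl⟩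
  have hVPC : V ≤ (P : Subgroup G) ⊓ C := by
    rw [hVdef]
    rintro _ ⟨x, hx, rfl⟩
    exact ⟨(hS_C x).mp (hT'S hx), x.2⟩
  have hVQ : ¬ V ≤ Q₀ := by
    intro hle
    apply hT'ne'
    refine le_antisymm ?_ hZT'
    intro x hx
    rw [hZ'mem]
    apply hle
    rw [hVdef]; exact ⟨x, hx, rfl⟩
  have hctrl : ∀ A : Subgroup G, A ≤ (P : Subgroup G) ⊓ C → ∀ n ∈ C,
      cj n A ≤ (P : Subgroup G) ⊓ C →
      ∃ h ∈ C ⊓ Subgroup.normalizer (V : Set G),
        ∃ c ∈ C ⊓ Subgroup.centralizer (A : Set G), n = h * c := by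
    intro A hA n hn hnA
    have h1 := hT'ctl (A.subgroupOf C) ⟨n, hn⟩ (by
        intro x hx
        rw [Subgroup.mem_subgroupOf] at hx
        exact (hS_C x).mpr (hA hx).1)
      (by
        rintro _ ⟨x, hx, rfl⟩
        have hx' : (x : G) ∈ A := Subgroup.mem_subgroupOf.mp hx
        rw [hS_C]
        have h2 : n * (x : G) * n⁻¹ ∈ cj n A := conj_mem_cj hx'
        exact (hnA h2).1)
    obtain ⟨h', hh', c', hc', hnc⟩ := h1
    refine ⟨(h' : G), ⟨h'.2, ?_⟩, (c' : G), ⟨c'.2, ?_⟩, ?_⟩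
    · rw [hVdef]; exact Subgroup.le_normalizer_map C.subtype ⟨h', hh', rfl⟩
    · show (c' : G) ∈ Subgroup.centralizer (A : Set G)
      rw [Subgroup.mem_centralizer_iff]
      intro a ha
      have h3 := Subgroup.mem_centralizer_iff.mp hc' ⟨a, (hA ha).2⟩
        (by rw [SetLike.mem_coe, Subgroup.mem_subgroupOf]; exact ha)
      exact congrArg Subtype.val h3
    · have h3 := congrArg Subtype.val hnc
      simpa using h3
  obtain ⟨hWle, hVW, hWctl⟩ := lift_ctl P M C hPM hCM hMC (by rw [hMdef]; exact hQ) V hVPC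
    hctrl _ rfl
  exact hVQ (hVW.trans (hmax _ (hWle.trans inf_le_left) hWctl))

/-- the largest subgroup whose normalizer controls strong fusion is radical. -/
theorem largest_radical {G : Type*} [Group G] [Finite G] (P : Sylow p G) (Q₀ : Subgroup G)
    (hQP : Q₀ ≤ (P : Subgroup G)) (hQ : CtlBy (P : Subgroup G) Q₀)
    (hmax : ∀ Q : Subgroup G, Q ≤ (P : Subgroup G) → CtlBy (P : Subgroup G) Q → Q ≤ Q₀)
    (hcen : (P : Subgroup G) ⊓ Subgroup.centralizer (Q₀ : Set G) ≤ Q₀)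
    (X : Subgroup G) (hXM : X ≤ Subgroup.normalizer (Q₀ : Set G))
    (hXinv : ∀ n ∈ Subgroup.normalizer (Q₀ : Set G), cj n X = X)
    (hle : Q₀ ⊔ Subgroup.centralizer (Q₀ : Set G) ≤ X)
    (hidx : ∃ k : ℕ, (Q₀ ⊔ Subgroup.centralizer (Q₀ : Set G)).relIndex X = p ^ k) :
    X = Q₀ ⊔ Subgroup.centralizer (Q₀ : Set G) := by
  have hPp : IsPGroup p (P : Subgroup G) := P.isPGroup'
  have hPM' := ctlBy_le_normalizer hQP hQ
  obtain ⟨C, hCdef⟩ : ∃ C : Subgroup G, C = Subgroup.centralizer (Q₀ : Set G) := ⟨_, rfl⟩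
  obtain ⟨M, hMdef⟩ : ∃ M : Subgroup G, M = Subgroup.normalizer (Q₀ : Set G) := ⟨_, rfl⟩
  rw [← hCdef] at hcen hle hidx ⊢
  rw [← hMdef] at hXM hXinv hPM'
  have hCM : C ≤ M := by rw [hCdef, hMdef]; exact Subgroup.centralizer_le_normalizer _
  have hMC : M ≤ Subgroup.normalizer (C : Set G) := by
    rw [hCdef, hMdef]; exact normalizer_le_normalizer_centralizer Q₀
  have hQM : Q₀ ≤ M := by rw [hMdef]; exact Subgroup.le_normalizer
  have hMQ : M ≤ Subgroup.normalizer (Q₀ : Set G) := hMdef.le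
  have hMX : M ≤ Subgroup.normalizer (X : Set G) := fun n hn => cj_eq_self_iff.mp (hXinv n hn)
  have hMD : M ≤ Subgroup.normalizer ((Q₀ ⊔ C : Subgroup G) : Set G) :=
    fun n hn => normalizer_inf_le_sup _ _ ⟨hMQ hn, hMC hn⟩
  have hPsyl : IsSylIn p (P : Subgroup G) M := (sylow_isSylIn P).of_le hPM' le_top
  have hPC : IsSylIn p ((P : Subgroup G) ⊓ C) C := hPsyl.inf_normal hCM hMC
  have hZeq : (P : Subgroup G) ⊓ C = Q₀ ⊓ C :=
    le_antisymm (le_inf hcen inf_le_right) (inf_le_inf_right _ hQP)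
  have hZsyl : IsSylIn p (Q₀ ⊓ C) C := by rw [← hZeq]; exact hPC
  have hZcent : ∀ z ∈ Q₀ ⊓ C, ∀ c ∈ C, c * z = z * c := by
    intro z hz c hc
    rw [hCdef] at hc
    exact (Subgroup.mem_centralizer_iff.mp hc z hz.1).symm
  obtain ⟨K₀, hK₀card, hK₀mem, hK₀dec⟩ := central_sylow_decomp C (Q₀ ⊓ C) hZsyl hZcent
  have hMK₀ : M ≤ Subgroup.normalizer (K₀ : Set G) := by
    intro g hg
    rw [Subgroup.mem_normalizer_iff]
    intro x
    rw [hK₀mem, hK₀mem]
    have h1 := Subgroup.mem_normalizer_iff.mp (hMC hg) x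
    have h2 : orderOf (g * x * g⁻¹) = orderOf x := by
      have := orderOf_injective (MulAut.conj g).toMonoidHom (MulAut.conj g).injective x
      simpa using this
    rw [h2, h1]
  obtain ⟨Q₁, hQ₁def⟩ : ∃ Q₁ : Subgroup G, Q₁ = (P : Subgroup G) ⊓ X := ⟨_, rfl⟩
  have hQ₁syl : IsSylIn p Q₁ X := by rw [hQ₁def]; exact hPsyl.inf_normal hXM hMX
  have hQ₀Q₁ : Q₀ ≤ Q₁ := by rw [hQ₁def]; exact le_inf hQP (le_sup_left.trans hle)
  have hPnQ₁ : (P : Subgroup G) ≤ Subgroup.normalizer (Q₁ : Set G) := by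
    rw [hQ₁def]
    exact fun x hx => normalizer_inf_le_inf _ _ ⟨Subgroup.le_normalizer hx, hMX (hPM' hx)⟩
  obtain ⟨k, hk⟩ := hidx
  have hpow := pow_mem_of_relIndex hle (hXM.trans hMD) hk
  have hdec := mem_sylow_mul_of_pow hPsyl hXM hMX hle hMD (fun y hy => ⟨k, hpow y hy⟩)
  have hdec' : ∀ y ∈ X, ∃ u ∈ Q₁, ∃ c ∈ C, y = u * c := by
    intro y hy
    obtain ⟨u, hu, d, hd, rfl⟩ := hdec y hy
    obtain ⟨q, hq, c, hc, rfl⟩ := mem_sup_of_le_normalizer (hQM.trans hMC) hd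
    exact ⟨u * q, Q₁.mul_mem (by rw [hQ₁def]; exact hu) (hQ₀Q₁ hq), c, hc, by group⟩
  have hQ₁ctl : CtlBy (P : Subgroup G) Q₁ := by
    intro T g hT hgT
    obtain ⟨m, hm, c₀, hc₀, rfl⟩ := hQ T g hT hgT
    apply Fac.mul_right _ hc₀
    rw [← cj_cj, cj_eq_of_mem_centralizer hc₀] at hgT
    have hmM : m ∈ M := by rw [hMdef]; exact hm
    obtain ⟨x, hx, hxm⟩ := frattini_isSylIn hQ₁syl (hMX hmM)
    obtain ⟨u, hu, c', hc', hxe⟩ := hdec' x⁻¹ (X.inv_mem hx)
    obtain ⟨n₁, hn₁⟩ : ∃ n₁ : G, n₁ = x * m := ⟨_, rfl⟩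
    rw [← hn₁] at hxm
    have hn₁M : n₁ ∈ M := by rw [hn₁]; exact M.mul_mem (hXM hx) hmM
    have hc'' : n₁⁻¹ * c' * n₁ ∈ C := by
      have := (Subgroup.mem_normalizer_iff.mp (hMC (M.inv_mem hn₁M)) c').mp hc'
      simpa using this
    obtain ⟨z, hz, k₀, hk₀, hzk⟩ := hK₀dec _ hc''
    have e : m = (u * n₁ * z) * k₀ := by
      have e1 : m = x⁻¹ * n₁ := by rw [hn₁]; group
      rw [e1, hxe]
      calc u * c' * n₁ = u * n₁ * (n₁⁻¹ * c' * n₁) := by group
        _ = u * n₁ * (z * k₀) := by rw [hzk]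
        _ = u * n₁ * z * k₀ := by group
    rw [e]
    apply pprime_fac' K₀ hK₀card _ T (hPp.to_le hT) (hT.trans hPnQ₁)
      (hT.trans (hPM'.trans hMK₀)) (u * n₁ * z) k₀ ?_ hk₀ ?_
    · exact Subgroup.mul_mem _ (Subgroup.mul_mem _ (Subgroup.le_normalizer hu) hxm)
        (Subgroup.le_normalizer (hQ₀Q₁ hz.1))
    · rw [← e]; exact hgT.trans hPnQ₁
  have hQ₁Q₀ : Q₁ ≤ Q₀ := hmax Q₁ (by rw [hQ₁def]; exact inf_le_left) hQ₁ctl
  refine le_antisymm ?_ hle
  intro y hy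
  obtain ⟨u, hu, c, hc, rfl⟩ := hdec' y hy
  exact Subgroup.mul_mem _ (Subgroup.mem_sup_left (hQ₁Q₀ hu)) (Subgroup.mem_sup_right hc)

end main

end Cfsg.Agent.Lib.Helper3.FC
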