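import Cfsg.Agent.Lib.Helper92.FT12Defs
import Cfsg.Agent.Lib.Helper3.BG13a
import Cfsg.Agent.Lib.Helper3.BG11P4D
import Cfsg.Agent.Lib.Helper3.BG11P4A
import Cfsg.Agent.S0058
import Cfsg.Agent.S1408
import Cfsg.Agent.S1414
import Cfsg.Agent.S1416
import Cfsg.Agent.S1417

/-!
# B&G Theorem 12.12 (S1421), piece KEY2 (helper3)

The `M*`-argument: in the abelian Sylow case no `q`-element `y` of `E` (`q ∈ τ₁(M)`) normalizes
no line of `A` while its power of order `q` centralizes `A`.
-/

set_option autoImplicit false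

open Cfsg Cfsg.Agent.Lib.Helper32 Cfsg.Agent.Lib.Helper32.BG10 Cfsg.Agent.Lib.Helper3.BG12
  Cfsg.Agent.Lib.Helper92.FT Cfsg.Agent.Lib.Helper3.BG13T Cfsg.Agent.Lib.Helper3.BG12S
  Cfsg.Agent.Lib.Helper3.BG13

namespace Cfsg.Agent.Lib.Helper3.FT12

universe u

/-- two commuting automorphisms of order dividing `q` of an abelian group, all of whose
"diagonal" products act without fixed points: then the group has exponent `q`. -/
theorem key2_abs {V : Type*} [CommGroup V] (q : ℕ) [hq : Fact q.Prime] (x y : MulAut V)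
    (hxy : Commute x y) (hx : x ^ q = 1) (hy : y ^ q = 1) (hfy : ∀ a : V, y a = a → a = 1)
    (hfx : ∀ (i : ℕ) (a : V), (x * y ^ i) a = a → a = 1) (a : V) : a ^ q = 1 := by
  have : NeZero q := ⟨hq.out.ne_zero⟩
  have : Fact (1 < q) := ⟨hq.out.one_lt⟩
  have h1q : (1 : ZMod q).val = 1 := ZMod.val_one q
  have hper : ∀ n m : ℕ, (x ^ n * y ^ m) a = (x ^ (n % q) * y ^ (m % q)) a := by
    intro n m
    rw [pow_eq_pow_mod n hx, pow_eq_pow_mod m hy]
  let f : ZMod q → ZMod q → V := fun m k => (x ^ k.val * y ^ m.val) a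
  have key := Cfsg.Agent.S0058.field_prod_identity f
  have hP : ∀ i : ZMod q, ∏ j, f (i * j) j = 1 := by
    intro i
    apply hfx i.val
    rw [map_prod]
    refine Fintype.prod_equiv (Equiv.addRight (1 : ZMod q)) _ _ ?_
    intro j
    show (x * y ^ i.val) ((x ^ j.val * y ^ (i * j).val) a)
      = (x ^ (j + 1).val * y ^ (i * (j + 1)).val) a
    rw [← MulAut.mul_apply]
    have e1 : (x * y ^ i.val) * (x ^ j.val * y ^ (i * j).val)
        = x ^ (j.val + 1) * y ^ ((i * j).val + i.val) := by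
      have hc : y ^ i.val * x ^ j.val = x ^ j.val * y ^ i.val := ((hxy.pow_pow j.val i.val).eq).symm
      calc (x * y ^ i.val) * (x ^ j.val * y ^ (i * j).val)
          = x * (y ^ i.val * x ^ j.val) * y ^ (i * j).val := by simp only [mul_assoc]
        _ = x * (x ^ j.val * y ^ i.val) * y ^ (i * j).val := by rw [hc]
        _ = (x * x ^ j.val) * (y ^ i.val * y ^ (i * j).val) := by simp only [mul_assoc]
        _ = x ^ (j.val + 1) * y ^ ((i * j).val + i.val) := by
          rw [← pow_succ', ← pow_add, add_comm i.val]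
    rw [e1, hper]
    congr 2
    · rw [ZMod.val_add, h1q]
    · rw [mul_add, mul_one, ZMod.val_add]
  have hN : ∏ m, f m 0 = 1 := by
    apply hfy
    rw [map_prod]
    refine Fintype.prod_equiv (Equiv.addRight (1 : ZMod q)) _ _ ?_
    intro m
    show y ((x ^ (0 : ZMod q).val * y ^ m.val) a) = (x ^ (0 : ZMod q).val * y ^ (m + 1).val) a
    rw [← MulAut.mul_apply, ZMod.val_zero, pow_zero, one_mul, one_mul, ← pow_succ',
      pow_eq_pow_mod (m.val + 1) hy, ZMod.val_add, h1q]
  have hR : ∀ b : ZMod q, ∏ m, f m b = 1 := by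
    intro b
    have h1 : ∀ m : ZMod q, f m b = (x ^ b.val) (f m 0) := by
      intro m
      show (x ^ b.val * y ^ m.val) a = (x ^ b.val) ((x ^ (0 : ZMod q).val * y ^ m.val) a)
      rw [ZMod.val_zero, pow_zero, one_mul, MulAut.mul_apply]
    rw [Finset.prod_congr rfl (fun m _ => h1 m), ← map_prod, hN, map_one]
  have h00 : f 0 0 = a := by
    show (x ^ (0 : ZMod q).val * y ^ (0 : ZMod q).val) a = a
    rw [ZMod.val_zero, pow_zero, pow_zero, one_mul, MulAut.one_apply]
  rw [Finset.prod_congr rfl (fun i _ => hP i), Finset.prod_const_one, hN, one_mul,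
    Finset.prod_congr rfl (fun b _ => hR b), Finset.prod_const_one, mul_one, h00, ZMod.card] at key
  exact key.symm

variable {G : Type u} [Group G] [Finite G]

omit [Finite G] in
/-- elements of `C(A)` normalize every subgroup of `A` -/
theorem key2_cent_norm {A X : Subgroup G} (hXA : X ≤ A) {w : G}
    (hw : w ∈ Subgroup.centralizer (A : Set G)) : w ∈ Subgroup.normalizer (X : Set G) := by
  rw [Subgroup.mem_normalizer_iff]
  intro h
  have key : ∀ a ∈ A, w * a * w⁻¹ = a := by
    intro a ha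
    have h1 : a * w = w * a := (Subgroup.mem_centralizer_iff.mp hw) a ha
    rw [← h1]; group
  constructor
  · intro hh
    rw [key h (hXA hh)]; exact hh
  · intro hh
    have h1 := key _ (hXA hh)
    have h3 : w * (w * h * w⁻¹) * w⁻¹ = w * h * w⁻¹ → h = w * h * w⁻¹ := by
      intro h4
      have h5 : w⁻¹ * (w * (w * h * w⁻¹) * w⁻¹) * w = w⁻¹ * (w * h * w⁻¹) * w := by rw [h4]
      have h6 : w⁻¹ * (w * (w * h * w⁻¹) * w⁻¹) * w = w * h * w⁻¹ := by group
      have h7 : w⁻¹ * (w * h * w⁻¹) * w = h := by group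
      rw [h6, h7] at h5
      exact h5.symm
    rw [h3 h1]; exact hh

/-- a `p`-subgroup is commutative if some Sylow `p`-subgroup is -/
theorem key2_comm_of_sylow {p : ℕ} [Fact p.Prime]
    (hS : ∃ S : Sylow p G, IsMulCommutative (S : Subgroup G)) {T : Subgroup G}
    (hT : IsPGroup p T) : ∀ a ∈ T, ∀ b ∈ T, a * b = b * a := by
  obtain ⟨S, hS⟩ := hS
  have hSs : (S : Subgroup G) ∈ sylSet p ⊤ := by
    refine ⟨le_top, ?_⟩
    rw [Subgroup.card_top]
    exact S.card_eq_multiplicity
  obtain ⟨R, hR, hTR⟩ := exists_sylSet_ge hT (le_top : T ≤ ⊤)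
  obtain ⟨n, -, hn⟩ := sylSet_conj hR hSs
  have hmem : ∀ a ∈ T, n * a * n⁻¹ ∈ (S : Subgroup G) := by
    intro a ha
    rw [← hn, mem_cj]
    have : n⁻¹ * (n * a * n⁻¹) * n = a := by group
    rw [this]; exact hTR ha
  intro a ha b hb
  have h1 := hS.is_comm.comm ⟨_, hmem a ha⟩ ⟨_, hmem b hb⟩
  have h2 : (n * a * n⁻¹) * (n * b * n⁻¹) = (n * b * n⁻¹) * (n * a * n⁻¹) :=
    congrArg Subtype.val h1
  have h3 : a * b = n⁻¹ * ((n * a * n⁻¹) * (n * b * n⁻¹)) * n := by group
  rw [h3, h2]; group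

omit [Finite G] in
/-- the fixed points on `A` of an element commuting with `y`: nothing or everything -/
theorem key2_fix_dichotomy [Finite G] {p : ℕ} [Fact p.Prime] {A : Subgroup G}
    (hAc : Nat.card A = p ^ 2) {y : G} (hyN : y ∈ Subgroup.normalizer (A : Set G))
    (hline : ∀ X : Subgroup G, X ≤ A → Nat.card X = p → y ∉ Subgroup.normalizer (X : Set G))
    {w : G} (hwy : w * y = y * w) :
    A ⊓ Subgroup.centralizer ({w} : Set G) = ⊥ ∨ w ∈ Subgroup.centralizer (A : Set G) := by
  have hpp : p.Prime := Fact.out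
  set X : Subgroup G := A ⊓ Subgroup.centralizer ({w} : Set G) with hX
  have key : ∀ g : G, g ∈ Subgroup.normalizer (A : Set G) → w * g = g * w →
      ∀ h ∈ X, g * h * g⁻¹ ∈ X := by
    intro g hg hwg h hh
    refine ⟨(Subgroup.mem_normalizer_iff.mp hg h).mp hh.1, Subgroup.mem_centralizer_iff.mpr ?_⟩
    intro t ht
    rw [Set.mem_singleton_iff] at ht
    subst ht
    have hwh : t * h = h * t := (Subgroup.mem_centralizer_iff.mp hh.2) t rfl
    have hwg' : t * g⁻¹ = g⁻¹ * t := by
      calc t * g⁻¹ = g⁻¹ * (g * t) * g⁻¹ := by group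
        _ = g⁻¹ * (t * g) * g⁻¹ := by rw [hwg]
        _ = g⁻¹ * t := by group
    calc t * (g * h * g⁻¹) = (t * g) * h * g⁻¹ := by group
      _ = g * (t * h) * g⁻¹ := by rw [hwg]; group
      _ = g * (h * t) * g⁻¹ := by rw [hwh]
      _ = g * h * (t * g⁻¹) := by group
      _ = g * h * (g⁻¹ * t) := by rw [hwg']
      _ = (g * h * g⁻¹) * t := by group
  have hwy' : w * y⁻¹ = y⁻¹ * w := by
    calc w * y⁻¹ = y⁻¹ * (y * w) * y⁻¹ := by group
      _ = y⁻¹ * (w * y) * y⁻¹ := by rw [hwy]
      _ = y⁻¹ * w := by group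
  have hyX : y ∈ Subgroup.normalizer (X : Set G) := by
    rw [Subgroup.mem_normalizer_iff]
    intro h
    constructor
    · exact key y hyN hwy h
    · intro hh
      have h1 := key y⁻¹ (Subgroup.inv_mem _ hyN) hwy' _ hh
      have h2 : y⁻¹ * (y * h * y⁻¹) * y⁻¹⁻¹ = h := by group
      rw [h2] at h1
      exact h1
  have hd : Nat.card X ∣ p ^ 2 := hAc ▸ Subgroup.card_dvd_of_le (inf_le_left : X ≤ A)
  obtain ⟨k, hk, hkc⟩ := (Nat.dvd_prime_pow hpp).mp hd
  interval_cases k
  · left
    exact Subgroup.card_eq_one.mp (by simpa using hkc)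
  · exfalso
    exact hline X inf_le_left (by simpa using hkc) hyX
  · right
    have hXA : X = A := Subgroup.eq_of_le_of_card_ge inf_le_left (by rw [hkc, hAc])
    rw [Subgroup.mem_centralizer_iff]
    intro h hh
    rw [← hXA] at hh
    exact ((Subgroup.mem_centralizer_iff.mp hh.2) w rfl).symm

omit [Finite G] in
/-- the norm argument on `A` -/
theorem key2_exists_fix {p q : ℕ} [Fact p.Prime] [Fact q.Prime] (hqp : q ≠ p) {A : Subgroup G}
    (hAel : IsElementaryAbelian p A) (hA1 : A ≠ ⊥) {u v : G}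
    (hu : u ∈ Subgroup.normalizer (A : Set G)) (hv : v ∈ Subgroup.normalizer (A : Set G))
    (huv : u * v = v * u) (huq : u ^ q ∈ Subgroup.centralizer (A : Set G))
    (hvq : v ^ q ∈ Subgroup.centralizer (A : Set G))
    (hv0 : A ⊓ Subgroup.centralizer ({v} : Set G) = ⊥) :
    ∃ j : ℕ, A ⊓ Subgroup.centralizer ({u * v ^ j} : Set G) ≠ ⊥ := by
  have hpp : p.Prime := Fact.out
  have hqq : q.Prime := Fact.out
  by_contra hcon
  push Not at hcon
  let _ : CommGroup ↥A :=
    { (inferInstance : Group ↥A) with mul_comm := fun a b => hAel.1.is_comm.comm a b }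
  let U : ↥(Subgroup.normalizer (A : Set G)) := ⟨u, hu⟩
  let V : ↥(Subgroup.normalizer (A : Set G)) := ⟨v, hv⟩
  let x : MulAut ↥A := A.normalizerMonoidHom U
  let y : MulAut ↥A := A.normalizerMonoidHom V
  have hUV : Commute U V := Subtype.ext huv
  have hxy : Commute x y := hUV.map A.normalizerMonoidHom
  have hker : ∀ W : ↥(Subgroup.normalizer (A : Set G)),
      (W : G) ∈ Subgroup.centralizer (A : Set G) → A.normalizerMonoidHom W = 1 := by
    intro W hW
    apply MonoidHom.mem_ker.mp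
    rw [Subgroup.normalizerMonoidHom_ker, Subgroup.mem_subgroupOf]
    exact hW
  have hx : x ^ q = 1 := by
    show A.normalizerMonoidHom U ^ q = 1
    rw [← map_pow]
    exact hker _ (by simpa using huq)
  have hy : y ^ q = 1 := by
    show A.normalizerMonoidHom V ^ q = 1
    rw [← map_pow]
    exact hker _ (by simpa using hvq)
  have hfix : ∀ (W : ↥(Subgroup.normalizer (A : Set G))) (a : ↥A),
      A ⊓ Subgroup.centralizer ({(W : G)} : Set G) = ⊥ →
      (A.normalizerMonoidHom W) a = a → a = 1 := by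
    intro W a h0 ha
    have h1 : (W : G) * (a : G) * (W : G)⁻¹ = a := congrArg Subtype.val ha
    have h2 : (a : G) ∈ A ⊓ Subgroup.centralizer ({(W : G)} : Set G) := by
      refine ⟨a.2, Subgroup.mem_centralizer_iff.mpr ?_⟩
      intro t ht
      rw [Set.mem_singleton_iff] at ht
      subst ht
      calc (W : G) * (a : G) = ((W : G) * (a : G) * (W : G)⁻¹) * (W : G) := by group
        _ = (a : G) * (W : G) := by rw [h1]
    rw [h0, Subgroup.mem_bot] at h2
    exact Subtype.ext h2
  have hfy : ∀ a : ↥A, y a = a → a = 1 := fun a ha => hfix V a hv0 ha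
  have hfx : ∀ (i : ℕ) (a : ↥A), (x * y ^ i) a = a → a = 1 := by
    intro i a ha
    have h0 : x * y ^ i = A.normalizerMonoidHom (U * V ^ i) := by
      rw [map_mul, map_pow]
    rw [h0] at ha
    exact hfix (U * V ^ i) a (by simpa using hcon i) ha
  have hall := key2_abs q x y hxy hx hy hfy hfx
  obtain ⟨a, ha1⟩ := (Subgroup.ne_bot_iff_exists_ne_one.mp hA1)
  have h1 : (a : G) ^ q = 1 := by
    have := congrArg Subtype.val (hall a)
    simpa using this
  have h2 : (a : G) ^ p = 1 := hAel.2 a a.2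
  have h3 : orderOf (a : G) = 1 :=
    Nat.eq_one_of_dvd_coprimes ((Nat.coprime_primes hqq hpp).mpr hqp)
      (orderOf_dvd_of_pow_eq_one h1) (orderOf_dvd_of_pow_eq_one h2)
  exact ha1 (Subtype.ext (orderOf_eq_one_iff.mp h3))

/-- KEY2 -/
theorem key2 : Key2Stmt.{u} := by
  intro G _ _ hG M E hM hE p _ A hT2 hSab y hyE q hq hPy hline hz
  have hτ := hT2.hp
  have hAE := hT2.hAE
  have hAel := hT2.hA
  have hAc := hT2.hA2
  have hpp : p.Prime := Fact.out
  have hqp : q.Prime := hq.1
  have : Fact q.Prime := ⟨hqp⟩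
  have h14 : H14 G := fun M hM => Cfsg.Agent.S1414.result hG M hM
  have h16 : H16 G := fun M hM p _ A hA => Cfsg.Agent.S1416.result hG M hM p A hA
  have h17 : H17 G := fun M hM p _ hp A hA => Cfsg.Agent.S1417.result hG M hM p hp A hA
  have h18 : H18 G := h18_of hG h16 h17
  have h1408 := Cfsg.Agent.S1408.result hG M hM p hτ.2.1 hτ.2.2.1 hτ.2.2.2
  have hA18 := h18 M hM E hE p hτ A ⟨hAE, hAel, hAc⟩
  have hEN : E ≤ Subgroup.normalizer (A : Set G) := hA18.1.1
  have hCM : Subgroup.centralizer (A : Set G) ≤ M := hA18.2.1.1.trans inf_le_left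
  have hyN : y ∈ Subgroup.normalizer (A : Set G) := hEN hyE
  have hEM : E ≤ M := hE.1
  have hyM : y ∈ M := hEM hyE
  have hA1 : A ≠ ⊥ := by
    rintro rfl
    rw [Subgroup.card_bot] at hAc
    exact (Nat.one_lt_pow (by norm_num) hpp.one_lt).ne hAc
  have hAtop : A ≠ ⊤ := by
    rintro rfl
    exact hM.1 (top_le_iff.mp (hAE.trans hEM))
  have hAp : IsPGroup p A := fun a => ⟨1, by rw [pow_one]; exact Subtype.ext (hAel.2 a.1 a.2)⟩
  obtain ⟨X₀, hX₀A, hX₀c⟩ := Cfsg.Agent.Lib.Helper3.BG11.exists_card_prime_le hpp (A := A)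
    (by rw [hAc]; exact dvd_pow_self p two_ne_zero)
  have hyC : y ∉ Subgroup.centralizer (A : Set G) :=
    fun h => hline X₀ hX₀A hX₀c (key2_cent_norm hX₀A h)
  have hqp' : q ≠ p := by
    rintro rfl
    exact hτ.2.2.2 hq.2.2.2.2
  obtain ⟨k, hk⟩ := hPy
  have hk0 : k ≠ 0 := by
    rintro rfl
    rw [pow_zero, orderOf_eq_one_iff] at hk
    exact hyC (hk ▸ Subgroup.one_mem _)
  set z := y ^ (orderOf y / q) with hzdef
  have hqdvd : q ∣ orderOf y := by rw [hk]; exact dvd_pow_self q hk0
  have hzord : orderOf z = q :=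
    orderOf_pow_orderOf_div (by rw [hk]; exact (pow_pos hqp.pos k).ne') hqdvd
  have hzq : z ^ q = 1 := by rw [← hzord]; exact pow_orderOf_eq_one z
  have hzy : z ∈ Subgroup.zpowers y := Subgroup.pow_mem _ (Subgroup.mem_zpowers y) _
  -- the maximal subgroup over `N(A)`
  obtain ⟨L, hL, hNL⟩ := exists_coatom_ge (minSimple_normalizer_ne_top hG hA1 hAtop)
  have hpL : p ∈ sigma L := mem_sigma_of_normalizer_elemAb_le hG h18 hL hAel hAc hNL
  have hAL : A ≤ L := Subgroup.le_normalizer.trans hNL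
  have hAσ : A ≤ sigmaCore L := pgroup_le_sigmaCore hG hL hpL hAp hAL
  have hyL : y ∈ L := hNL hyN
  have hYq : IsPGroup q (Subgroup.zpowers y) := IsPGroup.of_card (by rw [Nat.card_zpowers, hk])
  have hYL : Subgroup.zpowers y ≤ L := Subgroup.zpowers_le.mpr hyL
  by_cases hqL : q ∈ sigma L
  · -- (a)
    have hYσ : Subgroup.zpowers y ≤ sigmaCore L := pgroup_le_sigmaCore hG hL hqL hYq hYL
    have hpβ : p ∉ beta L := fun h => h1408.1 h.2
    have hpdL : p ∣ Nat.card L :=
      (dvd_pow_self p two_ne_zero).trans (hAc ▸ Subgroup.card_dvd_of_le hAL)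
    have hnpc := ((h14 L hL).2.2.2.2 p hpp hpdL hpβ).2.1
    have hcop : (Nat.card (Subgroup.zpowers y)).Coprime p := by
      rw [Nat.card_zpowers, hk]
      exact Nat.Coprime.pow_left k ((Nat.coprime_primes hqp hpp).mpr hqp')
    obtain ⟨K, -, hKp, hKn, hyK⟩ := le_npc_of_coprime hnpc hYσ hcop
    apply hyC
    rw [Subgroup.mem_centralizer_iff]
    intro a ha
    have hyK' : y ∈ K := hyK (Subgroup.mem_zpowers y)
    have haN : a ∈ Subgroup.normalizer (K : Set G) := hKn (Subgroup.le_normalizer (hAσ ha))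
    have h1 : a * y⁻¹ * a⁻¹ ∈ K :=
      (Subgroup.mem_normalizer_iff.mp haN y⁻¹).mp (K.inv_mem hyK')
    have hcK : y * a * y⁻¹ * a⁻¹ ∈ K := by
      have : y * a * y⁻¹ * a⁻¹ = y * (a * y⁻¹ * a⁻¹) := by group
      rw [this]; exact K.mul_mem hyK' h1
    have hcA : y * a * y⁻¹ * a⁻¹ ∈ A :=
      A.mul_mem ((Subgroup.mem_normalizer_iff.mp hyN a).mp ha) (A.inv_mem ha)
    have hone : orderOf (y * a * y⁻¹ * a⁻¹) = 1 :=
      Nat.eq_one_of_dvd_coprimes (Nat.Coprime.pow_right 2 hKp)
        (Subgroup.orderOf_dvd_natCard K hcK) (hAc ▸ Subgroup.orderOf_dvd_natCard A hcA)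
    have hone' : y * a * y⁻¹ * a⁻¹ = 1 := orderOf_eq_one_iff.mp hone
    calc a * y = (y * a * y⁻¹ * a⁻¹)⁻¹ * (y * a) := by group
      _ = y * a := by rw [hone', inv_one, one_mul]
  · by_cases hr1L : PRankLE q 1 L
    · -- (b1)
      have hzcard : Nat.card (Subgroup.zpowers z) = q := by rw [Nat.card_zpowers, hzord]
      have hmain := cyclic_centralizes hG h14 h17 h18 hL hqL hr1L hzcard
        (Subgroup.zpowers_le.mpr hzy) hYL hYq inferInstance
      apply hyC
      rw [Subgroup.mem_centralizer_iff]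
      intro a ha
      have ha' : a ∈ sigmaCore L ⊓ Subgroup.centralizer ((Subgroup.zpowers z : Subgroup G) : Set G) := by
        refine ⟨hAσ ha, Subgroup.mem_centralizer_iff.mpr ?_⟩
        intro h hh
        exact ((Subgroup.mem_centralizer_iff.mp (Subgroup.zpowers_le.mpr hz hh)) a ha).symm
      exact (Subgroup.mem_centralizer_iff.mp (hmain (Subgroup.mem_zpowers y))) a ha'
    · -- (b2)
      have hr2L : PRankLE q 2 L := by
        by_contra h
        exact hqL (alpha_sub_sigma hG (ut_of hG) hL ⟨hqp, h⟩)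
      have hτL : q ∈ tau2 L := ⟨hqp, hqL, hr2L, hr1L⟩
      obtain ⟨Qs, hQs, hyQ⟩ := exists_sylSet_ge hYq hYL
      obtain ⟨B, hBQ, hBel, hBc⟩ := exists_elemAb2_le_sylSet hr1L hQs
      have hBL : B ≤ L := hBQ.trans hQs.1
      have h17L := h17 L hL q hτL B ⟨hBL, hBel, hBc⟩
      obtain ⟨P, hP⟩ := exists_sylow_of_mem_sylSet hQs
      have hP2 := h17L.2.1 P
      rw [hP] at hP2
      have hΩ := (hP2.2 hBQ).1
      have hQcomm : ∀ a ∈ Qs, ∀ b ∈ Qs, a * b = b * a := by
        intro a ha b hb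
        rw [← hP] at ha hb
        obtain ⟨a', ha', rfl⟩ := ha
        obtain ⟨b', hb', rfl⟩ := hb
        have h1 := hP2.1.is_comm.comm ⟨a', ha'⟩ ⟨b', hb'⟩
        have h2 : a' * b' = b' * a' := congrArg Subtype.val h1
        exact congrArg Subtype.val h2
      have hnil := h17L.1
      have hCB := h17L.2.2.2.1
      have hzB : z ∈ B := (hΩ z (hyQ hzy)).mp hzq
      obtain ⟨b, hbB, hbC⟩ : ∃ b ∈ B, b ∉ Subgroup.centralizer (A : Set G) := by
        by_contra hcon
        push Not at hcon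
        have hle : A ≤ sigmaCore L ⊓ Subgroup.centralizer (B : Set G) := by
          intro a ha
          refine ⟨hAσ ha, Subgroup.mem_centralizer_iff.mpr ?_⟩
          intro b hb
          exact ((Subgroup.mem_centralizer_iff.mp (hcon b hb)) a ha).symm
        rw [hCB] at hle
        exact hA1 (le_bot_iff.mp hle)
      have hby : b * y = y * b := hQcomm b (hBQ hbB) y (hyQ (Subgroup.mem_zpowers y))
      have hbq : b ^ q = 1 := hBel.2 b hbB
      -- `L ≤ N(A)`
      obtain ⟨T, hT, hLT, -, hTmax⟩ :=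
        Cfsg.Agent.Lib.Helper3.BG11.exists_normal_sylow_of_nilpotent (p := p)
          (le_normalizer_map_subtype L _) hnil
      have hAT : A ≤ T := hTmax A hAp hAσ
      have hTp : IsPGroup p T := isPGroup_of_mem_sylSet hT
      have hTcomm := key2_comm_of_sylow hSab hTp
      have hΩT : ∀ t ∈ T, t ^ p = 1 → t ∈ A := by
        intro t ht htp
        let Ω : Subgroup G :=
          { carrier := {s | s ∈ T ∧ s ^ p = 1}
            mul_mem' := by
              rintro a b ⟨ha, hap⟩ ⟨hb, hbp⟩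
              refine ⟨T.mul_mem ha hb, ?_⟩
              rw [(show Commute a b from hTcomm a ha b hb).mul_pow, hap, hbp, one_mul]
            one_mem' := ⟨T.one_mem, one_pow p⟩
            inv_mem' := by
              rintro a ⟨ha, hap⟩
              exact ⟨T.inv_mem ha, by rw [inv_pow, hap, inv_one]⟩ }
        have hΩel : IsElementaryAbelian p Ω :=
          ⟨⟨⟨fun a b => Subtype.ext (hTcomm a.1 a.2.1 b.1 b.2.1)⟩⟩, fun a ha => ha.2⟩
        have hAΩ : A ≤ Ω := fun a ha => ⟨hAT ha, hAel.2 a ha⟩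
        have h1 := h1408.2 A (hAE.trans hEM) hAel hAc Ω hΩel hAΩ
        rw [← h1]
        exact ⟨ht, htp⟩
      have hconjA : ∀ g ∈ L, ∀ h ∈ A, g * h * g⁻¹ ∈ A := by
        intro g hg h hh
        apply hΩT
        · exact (Subgroup.mem_normalizer_iff.mp (hLT hg) h).mp (hAT hh)
        · rw [conj_pow, hAel.2 h hh, mul_one, mul_inv_cancel]
      have hLN : L ≤ Subgroup.normalizer (A : Set G) := by
        intro g hg
        rw [Subgroup.mem_normalizer_iff]
        intro h
        constructor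
        · exact hconjA g hg h
        · intro hh
          have h1 := hconjA g⁻¹ (L.inv_mem hg) _ hh
          have h2 : g⁻¹ * (g * h * g⁻¹) * g⁻¹⁻¹ = h := by group
          rw [h2] at h1
          exact h1
      have hbN : b ∈ Subgroup.normalizer (A : Set G) := hLN (hBL hbB)
      -- the power `y₁` of `y`
      have hex : ∃ j : ℕ, y ^ (q ^ j) ∈ Subgroup.centralizer (A : Set G) :=
        ⟨k, by rw [← hk, pow_orderOf_eq_one]; exact Subgroup.one_mem _⟩
      classical
      have hj₀spec := Nat.find_spec hex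
      have hj₀pos : Nat.find hex ≠ 0 := by
        intro h0
        rw [h0, pow_zero, pow_one] at hj₀spec
        exact hyC hj₀spec
      have hy₁C : y ^ (q ^ (Nat.find hex - 1)) ∉ Subgroup.centralizer (A : Set G) :=
        Nat.find_min hex (by omega)
      have hy₁q : (y ^ (q ^ (Nat.find hex - 1))) ^ q ∈ Subgroup.centralizer (A : Set G) := by
        have h1 : (y ^ (q ^ (Nat.find hex - 1))) ^ q = y ^ (q ^ (Nat.find hex)) := by
          rw [← pow_mul, ← pow_succ]
          congr 2
          omega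
        rw [h1]; exact hj₀spec
      obtain ⟨n, hy₁C, hy₁q⟩ : ∃ n : ℕ, y ^ n ∉ Subgroup.centralizer (A : Set G) ∧
          (y ^ n) ^ q ∈ Subgroup.centralizer (A : Set G) := ⟨_, hy₁C, hy₁q⟩
      have hy₁N : y ^ n ∈ Subgroup.normalizer (A : Set G) := Subgroup.pow_mem _ hyN n
      have hy₁M : y ^ n ∈ M := M.pow_mem hyM n
      have huv : y ^ n * b = b * y ^ n := ((show Commute b y from hby).pow_right n).eq.symm
      have hbqC : b ^ q ∈ Subgroup.centralizer (A : Set G) := by
        rw [hbq]; exact Subgroup.one_mem _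
      have hXb : A ⊓ Subgroup.centralizer ({b} : Set G) = ⊥ :=
        (key2_fix_dichotomy hAc hyN hline hby).resolve_right hbC
      obtain ⟨j, hj⟩ := key2_exists_fix hqp' hAel hA1 hy₁N hbN huv hy₁q hbqC hXb
      have hwy : (y ^ n * b ^ j) * y = y * (y ^ n * b ^ j) := by
        have c1 : Commute (y ^ n) y := (Commute.refl y).pow_left n
        have c2 : Commute (b ^ j) y := (show Commute b y from hby).pow_left j
        exact (c1.mul_left c2).eq
      have hwC : y ^ n * b ^ j ∈ Subgroup.centralizer (A : Set G) :=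
        (key2_fix_dichotomy hAc hyN hline hwy).resolve_left hj
      have hbjM : b ^ j ∈ M := by
        have h1 : b ^ j = (y ^ n)⁻¹ * (y ^ n * b ^ j) := by group
        rw [h1]; exact M.mul_mem (M.inv_mem hy₁M) (hCM hwC)
      have hjq : ¬ q ∣ j := by
        rintro ⟨t, rfl⟩
        rw [pow_mul, hbq, one_pow, mul_one] at hwC
        exact hy₁C hwC
      have hcop : Nat.Coprime j q := ((Nat.Prime.coprime_iff_not_dvd hqp).mpr hjq).symm
      obtain ⟨m, -, hm⟩ := Nat.exists_mul_mod_eq_one_of_coprime hcop hqp.one_lt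
      have hbM : b ∈ M := by
        have h1 : b ^ (j * m) = b := by rw [pow_eq_pow_mod (j * m) hbq, hm, pow_one]
        rw [← h1, pow_mul]; exact M.pow_mem hbjM m
      set D : Subgroup G := Subgroup.zpowers z ⊔ Subgroup.zpowers b with hD
      have hDM : D ≤ M :=
        sup_le (Subgroup.zpowers_le.mpr (M.pow_mem hyM _)) (Subgroup.zpowers_le.mpr hbM)
      have hDB : D ≤ B := sup_le (Subgroup.zpowers_le.mpr hzB) (Subgroup.zpowers_le.mpr hbB)
      have hDcard : q ^ 1 < Nat.card D := by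
        by_contra h
        push Not at h
        have heq : Subgroup.zpowers z = D :=
          Subgroup.eq_of_le_of_card_ge le_sup_left
            (by rw [Nat.card_zpowers, hzord]; simpa using h)
        have hbD : b ∈ D :=
          (le_sup_right : Subgroup.zpowers b ≤ D) (Subgroup.mem_zpowers b)
        have hbz : b ∈ Subgroup.zpowers z := by rw [heq]; exact hbD
        exact hbC (Subgroup.zpowers_le.mpr hz hbz)
      exact not_prankLE_of_le hDM
        (fun a ha c hc => congrArg Subtype.val (hBel.1.is_comm.comm ⟨a, hDB ha⟩ ⟨c, hDB hc⟩))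
        (fun a ha => hBel.2 a (hDB ha)) hDcard hq.2.2.2.2

end Cfsg.Agent.Lib.Helper3.FT12
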