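import Mathlib

/-!
# S2075 (helper70, `|Out(He)| = 2`), piece SYL2 (helper3)
-/

set_option autoImplicit false

namespace Cfsg.Agent.Lib.Helper3.HeOSYL2

open scoped Pointwise

/-- PIECE SYL2.  The central involution of a Sylow 2-subgroup is moved by automorphisms only inside
its conjugacy class. -/
theorem aut_conj_of_sylow_center {G : Type} [Group G] [Finite G] (z : G) (S : Subgroup G) (n : ℕ)
    (hS : Nat.card S = 2 ^ n) (hG : ¬ 2 ^ (n + 1) ∣ Nat.card G) (hzS : z ∈ S) (hz1 : z ≠ 1)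
    (hzc : ∀ y ∈ S, z * y = y * z)
    (hZ : ∀ x ∈ S, (∀ y ∈ S, x * y = y * x) → x = 1 ∨ x = z)
    (φ : MulAut G) : ∃ g : G, φ z = g * z * g⁻¹ := by
  have : Fact (Nat.Prime 2) := ⟨Nat.prime_two⟩
  have hSp : IsPGroup 2 S := IsPGroup.of_card hS
  have hidx : ¬ 2 ∣ S.index := by
    intro h
    apply hG
    rw [← Subgroup.card_mul_index S, hS, pow_succ]
    exact mul_dvd_mul_left _ h
  have hS'c : Nat.card (S.map φ.toMonoidHom) = 2 ^ n := by
    rw [Subgroup.card_map_of_injective φ.injective, hS]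
  have hS'p : IsPGroup 2 (S.map φ.toMonoidHom) := IsPGroup.of_card hS'c
  have hidx' : ¬ 2 ∣ (S.map φ.toMonoidHom).index := by
    intro h
    apply hG
    rw [← Subgroup.card_mul_index (S.map φ.toMonoidHom), hS'c, pow_succ]
    exact mul_dvd_mul_left _ h
  obtain ⟨g, hg⟩ := MulAction.exists_smul_eq G (hSp.toSylow hidx) (hS'p.toSylow hidx')
  have hmem : ∀ x : G, x ∈ S.map φ.toMonoidHom ↔ g⁻¹ * x * g ∈ S := by
    intro x
    have h1 : (x ∈ ((hS'p.toSylow hidx' : Sylow 2 G) : Subgroup G)) ↔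
        x ∈ S.map φ.toMonoidHom := Iff.rfl
    rw [← h1, ← hg, Sylow.coe_subgroup_smul, Subgroup.mem_pointwise_smul_iff_inv_smul_mem]
    have h2 : (MulAut.conj g)⁻¹ • x = g⁻¹ * x * g := by
      simp [MulAut.smul_def]
    rw [h2]
    exact Iff.rfl
  have hφzS' : φ z ∈ S.map φ.toMonoidHom := ⟨z, hzS, rfl⟩
  have hw : g⁻¹ * φ z * g ∈ S := (hmem _).mp hφzS'
  have hwc : ∀ y ∈ S, (g⁻¹ * φ z * g) * y = y * (g⁻¹ * φ z * g) := by
    intro y hy
    have h2 : g * y * g⁻¹ ∈ S.map φ.toMonoidHom := by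
      rw [hmem]
      have h3 : g⁻¹ * (g * y * g⁻¹) * g = y := by group
      rw [h3]; exact hy
    obtain ⟨y', hy', hyy'⟩ := h2
    have h4 : φ y' = g * y * g⁻¹ := hyy'
    have h3 : φ z * φ y' = φ y' * φ z := by rw [← map_mul, ← map_mul, hzc y' hy']
    rw [h4] at h3
    calc g⁻¹ * φ z * g * y = g⁻¹ * (φ z * (g * y * g⁻¹)) * g := by group
      _ = g⁻¹ * ((g * y * g⁻¹) * φ z) * g := by rw [h3]
      _ = y * (g⁻¹ * φ z * g) := by group
  rcases hZ _ hw hwc with h | h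
  · exfalso
    have h5 : φ z = 1 := by
      have h6 : φ z = g * (g⁻¹ * φ z * g) * g⁻¹ := by group
      rw [h6, h]; group
    exact hz1 ((map_eq_one_iff φ φ.injective).mp h5)
  · refine ⟨g, ?_⟩
    have h6 : φ z = g * (g⁻¹ * φ z * g) * g⁻¹ := by group
    rw [h] at h6
    exact h6

end Cfsg.Agent.Lib.Helper3.HeOSYL2
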