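import Mathlib
import Cfsg.Agent.Lib.Helper3.ZJ9
import Cfsg.Agent.Lib.Helper32.PConstr
import Cfsg.Agent.Lib.Helper2.QdEasy

/-!
# Strongly closed subgroups in groups with `p`-constrained, `p`-stable local subgroups (helper3)

* `hst_quot_pprime`: the stability hypothesis of the ZJ-theorem holds in the quotient of a
  normalizer-`p`-stable group by a normal `p'`-subgroup.
* `local_fac`: in a `p`-constrained normalizer-`p`-stable group, `N(W(D))` controls strong fusion
  for a strongly closed `D`.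
* `dOf`, `wOf`: the conjugacy functor attached to a strongly closed subgroup.
* `sc_controls_constrained`: the global statement.
-/

set_option autoImplicit false

namespace Cfsg.Agent.Lib.Helper3.ZJ

open Cfsg
open Cfsg.Agent.Lib.Helper26
open Cfsg.Agent.Lib.Helper42
open scoped commutatorElement

universe u

section quot

variable {p : ℕ} [Fact p.Prime]

theorem hst_quot_pprime {X : Type u} [Group X] [Finite X]
    (hst : IsNormalizerPStable p X) (O : Subgroup X) [hOn : O.Normal]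
    (hO : (Nat.card O).Coprime p) :
    ∀ B : Subgroup (X ⧸ O), B.Normal → IsPGroup p B → ∀ a : X ⧸ O,
      (∀ v ∈ B, a * ⁅a, v⁆ = ⁅a, v⁆ * a) →
      ∃ L : Subgroup (X ⧸ O), L.Normal ∧ a ∈ L ∧
        ∀ l ∈ L, ∃ j : ℕ, l ^ p ^ j ∈ Subgroup.centralizer (B : Set (X ⧸ O)) := by
  intro B hBn hB a ha
  obtain ⟨π, hπ⟩ : ∃ π : X →* X ⧸ O, π = QuotientGroup.mk' O := ⟨_, rfl⟩
  have hπs : Function.Surjective π := by rw [hπ]; exact QuotientGroup.mk'_surjective O
  have hker : ∀ x : X, π x = 1 → x ∈ O := by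
    intro x hx; rw [hπ] at hx; exact mem_of_mk'_eq_one O hx
  obtain ⟨S⟩ : Nonempty (Sylow p ↥(B.comap (QuotientGroup.mk' O))) := inferInstance
  obtain ⟨B0, hB0⟩ : ∃ B0 : Subgroup X, B0 = (S : Subgroup ↥(B.comap (QuotientGroup.mk' O))).map
      (B.comap (QuotientGroup.mk' O)).subtype := ⟨_, rfl⟩
  have hB0p : IsPGroup p B0 := hB0 ▸ S.2.map _
  have hmap : B0.map π = B := by
    rw [hB0, hπ]; exact Cfsg.Agent.Lib.Helper32.map_sylow_comap O hO hB S
  haveI hKn : (B.comap (QuotientGroup.mk' O)).Normal := hBn.comap _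
  have hfr : Subgroup.normalizer (B0 : Set X) ⊔ B.comap (QuotientGroup.mk' O) = ⊤ := by
    rw [hB0]; exact Sylow.normalizer_sup_eq_top S
  have hlift : ∀ y : X ⧸ O, ∃ n ∈ Subgroup.normalizer (B0 : Set X), π n = y := by
    intro y
    obtain ⟨x, rfl⟩ := hπs y
    have hx : x ∈ Subgroup.normalizer (B0 : Set X) ⊔ B.comap (QuotientGroup.mk' O) := by
      rw [hfr]; trivial
    obtain ⟨n, hn, k, hk, rfl⟩ := Subgroup.mem_sup_of_normal_right.mp hx
    have hkB : π k ∈ B := by rw [hπ]; exact hk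
    rw [← hmap] at hkB
    obtain ⟨b, hb, hbk⟩ := hkB
    refine ⟨n * b, Subgroup.mul_mem _ hn (Subgroup.le_normalizer hb), ?_⟩
    rw [map_mul, map_mul, hbk]
  obtain ⟨n, hn, rfl⟩ := hlift a
  have htriv : ∀ c ∈ B0, c ∈ O → c = 1 := by
    intro c hc hcO
    exact eq_one_of_mem_pgroup_of_coprime hB0p hc
      (Nat.Coprime.coprime_dvd_left (Subgroup.orderOf_dvd_natCard O hcO) hO)
  have hconj : ∀ v ∈ B0, n * v * n⁻¹ ∈ B0 := fun v hv =>
    (Subgroup.mem_normalizer_iff.mp hn v).mp hv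
  have hquad : ∀ v ∈ B0, n * ⁅n, v⁆ = ⁅n, v⁆ * n := by
    intro v hv
    have h1 := ha (π v) (by rw [← hmap]; exact ⟨v, hv, rfl⟩)
    have hc : ⁅n, v⁆ ∈ B0 := by
      rw [commutatorElement_def]
      exact B0.mul_mem (hconj v hv) (B0.inv_mem hv)
    have h2 : (n * ⁅n, v⁆) * (⁅n, v⁆ * n)⁻¹ ∈ O := by
      apply hker
      rw [map_mul, map_inv, map_mul, map_mul, map_commutatorElement, h1, mul_inv_cancel]
    have h3 : (n * ⁅n, v⁆) * (⁅n, v⁆ * n)⁻¹ ∈ B0 := by
      have e : (n * ⁅n, v⁆) * (⁅n, v⁆ * n)⁻¹ = (n * ⁅n, v⁆ * n⁻¹) * ⁅n, v⁆⁻¹ := by group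
      rw [e]
      exact B0.mul_mem (hconj _ hc) (B0.inv_mem hc)
    exact mul_inv_eq_one.mp (htriv _ h3 h2)
  have hq := quad_comm_of_elt B0 n hquad
  have h1 := hst B0 hB0p n hn hq
  refine ⟨(((pCore p (↥(Subgroup.normalizer (B0 : Set X)) ⧸
      (Subgroup.centralizer (B0 : Set X)).subgroupOf (Subgroup.normalizer (B0 : Set X)))).comap
        (QuotientGroup.mk' ((Subgroup.centralizer (B0 : Set X)).subgroupOf
          (Subgroup.normalizer (B0 : Set X))))).map (Subgroup.normalizer (B0 : Set X)).subtype).map π,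
    ?_, ?_, ?_⟩
  · constructor
    rintro _ ⟨_, ⟨l, hl, rfl⟩, rfl⟩ y
    obtain ⟨m, hm, rfl⟩ := hlift y
    have hnorm : ((pCore p (↥(Subgroup.normalizer (B0 : Set X)) ⧸
      (Subgroup.centralizer (B0 : Set X)).subgroupOf (Subgroup.normalizer (B0 : Set X)))).comap
        (QuotientGroup.mk' ((Subgroup.centralizer (B0 : Set X)).subgroupOf
          (Subgroup.normalizer (B0 : Set X))))).Normal := Subgroup.Normal.comap inferInstance _
    refine ⟨_, ⟨⟨m, hm⟩ * l * ⟨m, hm⟩⁻¹, hnorm.conj_mem l hl ⟨m, hm⟩, rfl⟩, ?_⟩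
    simp
  · exact ⟨n, ⟨⟨n, hn⟩, h1, rfl⟩, rfl⟩
  · rintro _ ⟨_, ⟨l, hl, rfl⟩, rfl⟩
    have hl' : QuotientGroup.mk' ((Subgroup.centralizer (B0 : Set X)).subgroupOf
          (Subgroup.normalizer (B0 : Set X))) l ∈ pCore p (↥(Subgroup.normalizer (B0 : Set X)) ⧸
      (Subgroup.centralizer (B0 : Set X)).subgroupOf (Subgroup.normalizer (B0 : Set X))) := hl
    obtain ⟨j, hj⟩ := (Cfsg.Agent.Lib.Helper14.pCore_isPGroup (p := p)
      (G := ↥(Subgroup.normalizer (B0 : Set X)) ⧸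
      (Subgroup.centralizer (B0 : Set X)).subgroupOf (Subgroup.normalizer (B0 : Set X)))) ⟨_, hl'⟩
    have hj' : (QuotientGroup.mk' ((Subgroup.centralizer (B0 : Set X)).subgroupOf
          (Subgroup.normalizer (B0 : Set X))) l) ^ p ^ j = 1 := congrArg Subtype.val hj
    rw [← map_pow] at hj'
    have h2 := mem_of_mk'_eq_one _ hj'
    have h3 : ((l ^ p ^ j : ↥(Subgroup.normalizer (B0 : Set X))) : X) ∈
        Subgroup.centralizer (B0 : Set X) := Subgroup.mem_subgroupOf.mp h2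
    refine ⟨j, ?_⟩
    rw [Subgroup.mem_centralizer_iff]
    intro b hb
    rw [SetLike.mem_coe, ← hmap] at hb
    obtain ⟨b0, hb0, rfl⟩ := hb
    have h4 := Subgroup.mem_centralizer_iff.mp h3 b0 hb0
    have e : (π ((Subgroup.normalizer (B0 : Set X)).subtype l)) ^ p ^ j =
        π ((l ^ p ^ j : ↥(Subgroup.normalizer (B0 : Set X))) : X) := by
      rw [← map_pow]; rfl
    rw [e, ← map_mul, ← map_mul, h4]

end quot


section loc

variable {p : ℕ} [Fact p.Prime] {WD : ∀ (X : Type u) [Group X], Subgroup X → Subgroup X}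

/-- the normality statement used for the local step (provided by `zj_normal`). -/
def NormHyp (p : ℕ) (WD : ∀ (X : Type u) [Group X], Subgroup X → Subgroup X) : Prop :=
  ∀ (X : Type u) [Group X] [Finite X] (S : Sylow p X) (D : Subgroup X),
    IsStronglyClosed D (S : Subgroup X) →
    (∀ B : Subgroup X, B.Normal → IsPGroup p B → ∀ a : X,
      (∀ v ∈ B, a * ⁅a, v⁆ = ⁅a, v⁆ * a) →
      ∃ L : Subgroup X, L.Normal ∧ a ∈ L ∧
        ∀ l ∈ L, ∃ j : ℕ, l ^ p ^ j ∈ Subgroup.centralizer (B : Set X)) →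
    Subgroup.centralizer ((pCore p X : Subgroup X) : Set X) ≤ pCore p X → (WD X D).Normal

theorem normHyp_ctA (hp2 : p ≠ 2) : NormHyp.{u} p (fun _ _ D => centerThompsonAOf D) :=
  fun _ _ _ S D hD hst hc => (zj_normal hp2 S D hD hst hc).1

theorem normHyp_omega (hp2 : p ≠ 2) :
    NormHyp.{u} p (fun _ _ D => omegaOne p (centerThompsonOf p D)) :=
  fun _ _ _ S D hD hst hc => (zj_normal hp2 S D hD hst hc).2.2

/-- local control in a `p`-constrained normalizer-`p`-stable group. -/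
theorem local_fac (hW : WDHyp p WD) (hn : NormHyp p WD)
    {X : Type u} [Group X] [Finite X] (hst : IsNormalizerPStable p X) (hc : IsPConstrained p X)
    (S : Sylow p X) (D : Subgroup X) (hD : IsStronglyClosed D (S : Subgroup X))
    (T : Subgroup X) (g : X) (hT : T ≤ (S : Subgroup X)) (hgT : cj g T ≤ (S : Subgroup X)) :
    Fac (Subgroup.normalizer (WD X D : Set X)) T g := by
  have hcop : (Nat.card (pPrimeCore p X)).Coprime p := Cfsg.Agent.Lib.Helper30.pPrimeCore_coprime p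
  refine fac_of_pprime_quot hW (pPrimeCore p X) hcop S D hD ?_ T g hT hgT
  intro S' D' hD' T' g' _ _
  have h := hn (X ⧸ pPrimeCore p X) S' D' hD' (hst_quot_pprime hst _ hcop)
    (Cfsg.Agent.Lib.Helper32.centralizer_pCore_quot_le hc)
  exact Fac.of_mem (by rw [Subgroup.normalizer_eq_top_iff.mpr h]; trivial)

end loc

section functor

variable {G : Type u} [Group G]

/-- the part of `T` fused into `D`. -/
def dOf (D T : Subgroup G) : Subgroup G :=
  Subgroup.closure {a | a ∈ T ∧ ∃ g : G, g * a * g⁻¹ ∈ D}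

theorem dOf_le (D T : Subgroup G) : dOf D T ≤ T :=
  (Subgroup.closure_le _).mpr (fun _ ha => ha.1)

theorem dOf_cj (D T : Subgroup G) (g : G) : dOf D (cj g T) = cj g (dOf D T) := by
  unfold dOf
  rw [show cj g (Subgroup.closure {a | a ∈ T ∧ ∃ g : G, g * a * g⁻¹ ∈ D}) =
    (Subgroup.closure {a | a ∈ T ∧ ∃ g : G, g * a * g⁻¹ ∈ D}).map (MulAut.conj g).toMonoidHom
    from rfl, MonoidHom.map_closure]
  congr 1
  ext a
  constructor
  · rintro ⟨ha, h, hh⟩
    refine ⟨g⁻¹ * a * g, ⟨mem_cj.mp ha, h * g, ?_⟩, ?_⟩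
    · have e : h * g * (g⁻¹ * a * g) * (h * g)⁻¹ = h * a * h⁻¹ := by group
      rw [e]; exact hh
    · show g * (g⁻¹ * a * g) * g⁻¹ = a
      group
  · rintro ⟨b, ⟨hb, h, hh⟩, rfl⟩
    refine ⟨conj_mem_cj hb, h * g⁻¹, ?_⟩
    show h * g⁻¹ * (g * b * g⁻¹) * (h * g⁻¹)⁻¹ ∈ D
    have e : h * g⁻¹ * (g * b * g⁻¹) * (h * g⁻¹)⁻¹ = h * b * h⁻¹ := by group
    rw [e]; exact hh

theorem dOf_eq_inf {D S T : Subgroup G} (hD : IsStronglyClosed D S) (hT : T ≤ S) :
    dOf D T = T ⊓ D := by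
  unfold dOf
  have e : {a | a ∈ T ∧ ∃ g : G, g * a * g⁻¹ ∈ D} = ((T ⊓ D : Subgroup G) : Set G) := by
    ext a
    constructor
    · rintro ⟨ha, g, hg⟩
      refine ⟨ha, ?_⟩
      have h1 : g⁻¹ * (g * a * g⁻¹) * g⁻¹⁻¹ = a := by group
      have h2 := hD.2 _ hg g⁻¹ (by rw [h1]; exact hT ha)
      rwa [h1] at h2
    · rintro ⟨ha, hd⟩
      exact ⟨ha, 1, by simpa using hd⟩
  rw [e, Subgroup.closure_eq]

open Classical in
/-- the conjugacy functor attached to `D`. -/
noncomputable def wOf (WD : ∀ (X : Type u) [Group X], Subgroup X → Subgroup X)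
    (D T : Subgroup G) : Subgroup G :=
  if dOf D T = ⊥ then WD G T else WD G (dOf D T)

theorem wOf_isConjugacyFunctor {p : ℕ} [Finite G]
    {WD : ∀ (X : Type u) [Group X], Subgroup X → Subgroup X} (hW : WDHyp p WD) (D : Subgroup G) :
    IsConjugacyFunctor p (wOf WD D) := by
  intro T hT
  refine ⟨?_, ?_, ?_⟩
  · unfold wOf
    split_ifs with h
    · exact hW.le G T
    · exact (hW.le G _).trans (dOf_le D T)
  · intro hne
    unfold wOf
    split_ifs with h
    · exact hW.ne_bot G T hT hne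
    · exact hW.ne_bot G _ (hT.to_le (dOf_le D T)) h
  · intro g
    show wOf WD D (cj g T) = cj g (wOf WD D T)
    unfold wOf
    rw [dOf_cj]
    have hiff : cj g (dOf D T) = ⊥ ↔ dOf D T = ⊥ := by
      constructor
      · intro h
        have := congrArg (cj g⁻¹) h
        rw [cj_inv_cj] at this
        rw [this]
        exact Subgroup.map_bot _
      · intro h
        rw [h]; exact Subgroup.map_bot _
    by_cases h : dOf D T = ⊥
    · rw [if_pos h, if_pos (hiff.mpr h)]
      exact wd_cj hW g T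
    · rw [if_neg h, if_neg (fun h' => h (hiff.mp h'))]
      exact wd_cj hW g _

end functor


section main

variable {p : ℕ} [Fact p.Prime] {WD : ∀ (X : Type u) [Group X], Subgroup X → Subgroup X}
variable {G : Type u} [Group G] [Finite G]

theorem sc_local_ctl (hW : WDHyp p WD) (hn : NormHyp p WD)
    (P : Sylow p G) (D : Subgroup G) (hD : IsStronglyClosed D (P : Subgroup G))
    (hst : IsNormalizerPStable p G)
    (hc : ∀ U : Subgroup G, U ≤ (P : Subgroup G) → U ≠ ⊥ →
      IsPConstrained p ↥(Subgroup.normalizer (U : Set G)))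
    (T : Subgroup G) (hTne : T ≠ ⊥) (hT : IsWellPlaced p (wOf WD D) (P : Subgroup G) T) :
    ControlsStrongFusionIn p (wOf WD D) (Subgroup.normalizer (T : Set G)) := by
  have hsyl := IsWellPlaced.isSylIn P.isPGroup' hT 0
  have hsyl' : IsSylIn p ((P : Subgroup G) ⊓ Subgroup.normalizer (T : Set G))
      (Subgroup.normalizer (T : Set G)) := hsyl
  have hcH : IsPConstrained p ↥(Subgroup.normalizer (T : Set G)) := hc T hT.1 hTne
  clear hsyl
  obtain ⟨H, hH⟩ : ∃ H : Subgroup G, H = Subgroup.normalizer (T : Set G) := ⟨_, rfl⟩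
  rw [← hH] at hsyl' hcH ⊢
  obtain ⟨R, hR⟩ : ∃ R : Subgroup G, R = (P : Subgroup G) ⊓ H := ⟨_, rfl⟩
  rw [← hR] at hsyl'
  have hRP : R ≤ (P : Subgroup G) := by rw [hR]; exact inf_le_left
  obtain ⟨E, hE, hER, hEsc⟩ : ∃ E : Subgroup G, wOf WD D R = WD G E ∧ E ≤ R ∧
      IsStronglyClosed E R := by
    by_cases h : dOf D R = ⊥
    · refine ⟨R, ?_, le_rfl, ⟨le_rfl, fun x hx g hg => hg⟩⟩
      unfold wOf; rw [if_pos h]
    · refine ⟨dOf D R, ?_, dOf_le D R, ?_⟩
      · unfold wOf; rw [if_neg h]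
      · rw [dOf_eq_inf hD hRP]
        exact ⟨inf_le_left, fun x hx g hg => ⟨hg, hD.2 x hx.2 g (hRP hg)⟩⟩
  have hRp : IsPGroup p (R.subgroupOf H) :=
    hsyl'.2.1.comap_of_injective H.subtype H.subtype_injective
  have hidx : ¬ p ∣ (R.subgroupOf H).index := hsyl'.2.2
  obtain ⟨R', hR'coe⟩ : ∃ R' : Sylow p ↥H, (R' : Subgroup ↥H) = R.subgroupOf H :=
    ⟨hRp.toSylow hidx, IsPGroup.toSylow_coe hRp hidx⟩
  have hE' : IsStronglyClosed (E.subgroupOf H) (R' : Subgroup ↥H) := by
    rw [hR'coe]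
    refine ⟨fun x hx => Subgroup.mem_subgroupOf.mpr (hEsc.1 (Subgroup.mem_subgroupOf.mp hx)), ?_⟩
    intro x hx g hg
    exact Subgroup.mem_subgroupOf.mpr (hEsc.2 (x : G) (Subgroup.mem_subgroupOf.mp hx) (g : G)
      (Subgroup.mem_subgroupOf.mp hg))
  have hstH : IsNormalizerPStable p ↥H :=
    Cfsg.Agent.Lib.Helper2.isNormalizerPStable_of_injective H.subtype H.subtype_injective hst
  refine ⟨R, hsyl'.1, hsyl'.2.1, hsyl'.2.2, ?_⟩
  intro A h hh hA hAh
  have hB : Subgroup.closure A ≤ R := (Subgroup.closure_le _).mpr hA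
  have hBh : cj h (Subgroup.closure A) ≤ R := image_conj_subset_iff.mp hAh
  have hfac := local_fac hW hn hstH hcH R' (E.subgroupOf H) hE'
    ((Subgroup.closure A).subgroupOf H) ⟨h, hh⟩
    (by
      rw [hR'coe]
      intro x hx
      exact Subgroup.mem_subgroupOf.mpr (hB (Subgroup.mem_subgroupOf.mp hx)))
    (by
      rw [hR'coe]
      intro x hx
      rw [mem_cj] at hx
      rw [Subgroup.mem_subgroupOf] at hx ⊢
      apply hBh
      rw [mem_cj]
      exact hx)
  obtain ⟨x, hx, hxa⟩ := hfac.conj_eq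
  have hmapE : (E.subgroupOf H).map H.subtype = E :=
    Subgroup.map_subgroupOf_eq_of_le (hER.trans hsyl'.1)
  have hJ1 : (WD ↥H (E.subgroupOf H)).map H.subtype = WD G E := by
    rw [← hW.map ↥H G H.subtype (E.subgroupOf H) (fun u _ hu => Subtype.ext hu), hmapE]
  refine ⟨(x : G), Subgroup.mem_inf.mpr ⟨x.2, ?_⟩, ?_⟩
  · rw [hE, ← hJ1]
    exact Subgroup.le_normalizer_map H.subtype (Subgroup.mem_map_of_mem _ hx)
  · intro a ha
    have haH : a ∈ H := hsyl'.1 (hA ha)
    have := hxa ⟨a, haH⟩ (Subgroup.mem_subgroupOf.mpr (Subgroup.subset_closure ha))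
    exact congrArg Subtype.val this

/-- **Control of strong fusion by `N(W(D))`** when `G` is normalizer-`p`-stable and the
normalizers of the nontrivial subgroups of `P` are `p`-constrained. -/
theorem sc_controls_constrained (hW : WDHyp p WD) (hn : NormHyp p WD)
    (P : Sylow p G) (D : Subgroup G) (hD : IsStronglyClosed D (P : Subgroup G))
    (hst : IsNormalizerPStable p G)
    (hc : ∀ U : Subgroup G, U ≤ (P : Subgroup G) → U ≠ ⊥ →
      IsPConstrained p ↥(Subgroup.normalizer (U : Set G)))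
    (A : Set G) (hA : A ⊆ (P : Subgroup G)) :
    ControlsStrongFusionOf (Subgroup.normalizer (WD G D : Set G)) (P : Subgroup G) A := by
  refine ⟨hA, fun g hg => ?_⟩
  by_cases hD0 : D = ⊥
  · refine ⟨g, ?_, fun a _ => rfl⟩
    have h1 : WD G D = ⊥ := by
      have := hW.le G D
      rw [hD0] at this ⊢
      exact le_bot_iff.mp this
    rw [h1, Subgroup.mem_normalizer_iff]
    intro h
    rw [Subgroup.mem_bot, Subgroup.mem_bot]
    constructor
    · intro hh; rw [hh]; group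
    · intro hh
      calc h = g⁻¹ * (g * h * g⁻¹) * g := by group
        _ = 1 := by rw [hh]; group
  have hT : Subgroup.closure A ≤ (P : Subgroup G) := (Subgroup.closure_le _).mpr hA
  have h := wellPlaced_global_fac P (wOf_isConjugacyFunctor hW D)
    (fun T hTne hT => sc_local_ctl hW hn P D hD hst hc T hTne hT) (Subgroup.closure A) g hT
    (image_conj_subset_iff.mp hg)
  have hWP : wOf WD D (P : Subgroup G) = WD G D := by
    have h1 : dOf D (P : Subgroup G) = D := by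
      rw [dOf_eq_inf hD le_rfl]; exact inf_eq_right.mpr hD.1
    unfold wOf; rw [h1, if_neg hD0]
  rw [hWP] at h
  obtain ⟨x, hx, hxa⟩ := h.conj_eq
  exact ⟨x, hx, fun a ha => (hxa a (Subgroup.subset_closure ha)).symm⟩

end main

end Cfsg.Agent.Lib.Helper3.ZJ
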