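import Mathlib
import Cfsg.Agent.Lib.Helper2.S4Sec

set_option autoImplicit false

/-!
# A criterion for `S₄` to be involved (helper3)

Generalisation of `Cfsg.Agent.Lib.Helper2.involves_S4` (same proof): the cyclic group generated by
`y` is replaced by any subgroup `P` of odd order containing `y` and normalising `W`.
-/

namespace Cfsg.Agent.Lib.Helper3.WC

open Cfsg Cfsg.Agent.Lib.Helper59 Cfsg.Agent.Lib.Helper2

variable {G : Type*} [Group G]

theorem involves_S4_gen [Finite G] (W P : Subgroup G) (y t : G) (hcard : Nat.card W = 4)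
    (hPN : P ≤ Subgroup.normalizer (W : Set G)) (hyP : y ∈ P)
    (ht : t ∈ Subgroup.normalizer (W : Set G))
    (hty : t ∈ Subgroup.normalizer (P : Set G))
    (hPodd : (Nat.card P).Coprime 2) (hfix : ∀ w ∈ W, w * y = y * w → w = 1)
    (ht2 : t ^ 2 ∈ Subgroup.centralizer (W : Set G))
    (htn : t ∉ Subgroup.centralizer (W : Set G)) :
    Involves (Equiv.Perm (Fin 4)) G := by
  have hy : y ∈ Subgroup.normalizer (W : Set G) := hPN hyP
  have hodd : (orderOf y).Coprime 2 :=
    Nat.Coprime.coprime_dvd_left (Subgroup.orderOf_dvd_natCard P hyP) hPodd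
  set D : Subgroup G := Subgroup.normalizer (P : Set G) ⊓
    Subgroup.normalizer (W : Set G) with hD
  have hyD : y ∈ D :=
    Subgroup.mem_inf.2 ⟨Subgroup.le_normalizer hyP, hy⟩
  have htD : t ∈ D := Subgroup.mem_inf.2 ⟨hty, ht⟩
  have hDN : D ≤ Subgroup.normalizer (W : Set G) := inf_le_right
  have hcop : (Nat.card P).Coprime (Nat.card W) := by
    rw [hcard]
    exact Nat.Coprime.pow_right 2 hPodd
  have hWD : W ⊓ D = ⊥ := by
    rw [eq_bot_iff]
    intro w hw
    have hw' := Subgroup.mem_inf.1 hw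
    have hwn : w ∈ Subgroup.normalizer (P : Set G) :=
      (Subgroup.mem_inf.1 hw'.2).1
    have h1 : w * y * w⁻¹ ∈ P :=
      (Subgroup.mem_normalizer_iff.1 hwn y).1 hyP
    have h2 : w * y * w⁻¹ * y⁻¹ ∈ P :=
      Subgroup.mul_mem _ h1 (Subgroup.inv_mem _ hyP)
    have h3 : y * w⁻¹ * y⁻¹ ∈ W := (Subgroup.mem_normalizer_iff.1 hy w⁻¹).1 (W.inv_mem hw'.1)
    have h4 : w * y * w⁻¹ * y⁻¹ ∈ W := by
      have e : w * y * w⁻¹ * y⁻¹ = w * (y * w⁻¹ * y⁻¹) := by group
      rw [e]; exact W.mul_mem hw'.1 h3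
    have h5 : w * y * w⁻¹ * y⁻¹ = 1 := Cfsg.Agent.S0057.inf_triv hcop h4 h2
    have h6 : w * y = y * w := by
      calc w * y = (w * y * w⁻¹ * y⁻¹) * (y * w) := by group
        _ = y * w := by rw [h5, one_mul]
    exact Subgroup.mem_bot.2 (hfix w hw'.1 h6)
  have hcardK : Nat.card (W ⊔ D : Subgroup G) = 4 * Nat.card D := by
    have h1 := card_sup_mul_card_inf W D hDN
    rw [hWD, Subgroup.card_bot, mul_one, hcard] at h1
    exact h1
  have hDK : D ≤ W ⊔ D := le_sup_right
  have hWK : W ≤ W ⊔ D := le_sup_left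
  -- the subgroup `C = C_D(W)`
  set C : Subgroup G := D ⊓ Subgroup.centralizer (W : Set G) with hC
  have hCD : C ≤ D := inf_le_left
  have hCn : (C.subgroupOf D).Normal := by
    rw [Subgroup.normal_subgroupOf_iff_le_normalizer hCD]
    intro d hd
    apply conj_mem_imp_mem_normalizer
    intro c hc
    have hc' := Subgroup.mem_inf.1 hc
    refine Subgroup.mem_inf.2 ⟨D.mul_mem (D.mul_mem hd hc'.1) (D.inv_mem hd), ?_⟩
    rw [Subgroup.mem_centralizer_iff]
    intro w hw
    have h1 : d⁻¹ * w * d ∈ W := by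
      have := (Subgroup.mem_normalizer_iff.1 (Subgroup.inv_mem _ (hDN hd)) w).1 hw
      simpa using this
    have h2 := (Subgroup.mem_centralizer_iff.1 hc'.2) _ h1
    calc w * (d * c * d⁻¹) = d * (d⁻¹ * w * d * c) * d⁻¹ := by group
      _ = d * (c * (d⁻¹ * w * d)) * d⁻¹ := by rw [h2]
      _ = d * c * d⁻¹ * w := by group
  have hyC : y ∉ Subgroup.centralizer (W : Set G) := by
    intro h
    have h1 : W = ⊥ := by
      rw [eq_bot_iff]
      intro w hw
      exact Subgroup.mem_bot.2 (hfix w hw ((Subgroup.mem_centralizer_iff.1 h) w hw))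
    rw [h1, Subgroup.card_bot] at hcard
    omega
  have h6 : 6 * Nat.card C ≤ Nat.card D := by
    haveI := hCn
    have h1 : Nat.card (C.subgroupOf D) * Nat.card (D ⧸ C.subgroupOf D) = Nat.card D := by
      rw [← Subgroup.index_eq_card]; exact Subgroup.card_mul_index _
    have h2 : Nat.card (C.subgroupOf D) = Nat.card C :=
      Nat.card_congr (Subgroup.subgroupOfEquivOfLe hCD).toEquiv
    have hq : ∀ d : D, (QuotientGroup.mk' (C.subgroupOf D) d = 1) ↔
        (d : G) ∈ Subgroup.centralizer (W : Set G) := by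
      intro d
      rw [QuotientGroup.mk'_apply, QuotientGroup.eq_one_iff, Subgroup.mem_subgroupOf, hC,
        Subgroup.mem_inf]
      exact ⟨fun h => h.2, fun h => ⟨d.2, h⟩⟩
    have ht2' : orderOf (QuotientGroup.mk' (C.subgroupOf D) ⟨t, htD⟩) = 2 := by
      apply orderOf_eq_prime
      · rw [← map_pow, hq]; exact ht2
      · rw [Ne, hq]; exact htn
    have hy1 : orderOf (QuotientGroup.mk' (C.subgroupOf D) ⟨y, hyD⟩) ≠ 1 := by
      rw [Ne, orderOf_eq_one_iff, hq]; exact hyC
    have hy2 : orderOf (QuotientGroup.mk' (C.subgroupOf D) ⟨y, hyD⟩) ∣ orderOf y := by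
      have := orderOf_map_dvd (QuotientGroup.mk' (C.subgroupOf D)) (⟨y, hyD⟩ : D)
      rwa [Subgroup.orderOf_mk] at this
    have hy3 : (orderOf (QuotientGroup.mk' (C.subgroupOf D) ⟨y, hyD⟩)).Coprime 2 :=
      Nat.Coprime.coprime_dvd_left hy2 hodd
    have h3 : 2 * orderOf (QuotientGroup.mk' (C.subgroupOf D) ⟨y, hyD⟩) ∣
        Nat.card (D ⧸ C.subgroupOf D) := by
      apply Nat.Coprime.mul_dvd_of_dvd_of_dvd hy3.symm
      · rw [← ht2']; exact orderOf_dvd_natCard _
      · exact orderOf_dvd_natCard _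
    have h4 : 3 ≤ orderOf (QuotientGroup.mk' (C.subgroupOf D) ⟨y, hyD⟩) := by
      have h5 : 0 < orderOf (QuotientGroup.mk' (C.subgroupOf D) ⟨y, hyD⟩) := orderOf_pos _
      have h7 : orderOf (QuotientGroup.mk' (C.subgroupOf D) ⟨y, hyD⟩) ≠ 2 := by
        intro h
        rw [h] at hy3
        exact absurd hy3 (by decide)
      omega
    have h5 : 6 ≤ Nat.card (D ⧸ C.subgroupOf D) := by
      have := Nat.le_of_dvd Nat.card_pos h3
      omega
    rw [← h1, h2]
    nlinarith
  -- the coset action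
  set D' : Subgroup (W ⊔ D : Subgroup G) := D.subgroupOf (W ⊔ D) with hD'
  have hD'card : Nat.card D' = Nat.card D :=
    Nat.card_congr (Subgroup.subgroupOfEquivOfLe hDK).toEquiv
  have hDpos : 0 < Nat.card D := Nat.card_pos
  have hidx : D'.index = 4 := by
    have h1 := Subgroup.card_mul_index D'
    rw [hD'card, hcardK] at h1
    have : Nat.card D * D'.index = Nat.card D * 4 := by rw [h1]; ring
    exact Nat.eq_of_mul_eq_mul_left hDpos this
  have hcardQ : Nat.card ((W ⊔ D : Subgroup G) ⧸ D') = 4 := by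
    rw [← Subgroup.index_eq_card]; exact hidx
  set f := MulAction.toPermHom (W ⊔ D : Subgroup G) ((W ⊔ D : Subgroup G) ⧸ D') with hf
  have hker : f.ker = D'.normalCore := (Subgroup.normalCore_eq_ker D').symm
  have hkerC : (f.ker).map (W ⊔ D : Subgroup G).subtype ≤ C := by
    rintro _ ⟨k, hk, rfl⟩
    rw [SetLike.mem_coe, hker] at hk
    have hk' : ∀ b : (W ⊔ D : Subgroup G), b * k * b⁻¹ ∈ D' := hk
    have hkD : (k : G) ∈ D := by
      have := hk' 1
      rw [one_mul, inv_one, mul_one] at this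
      exact Subgroup.mem_subgroupOf.1 this
    refine Subgroup.mem_inf.2 ⟨hkD, ?_⟩
    rw [Subgroup.mem_centralizer_iff]
    intro w hw
    have h1 : w * (k : G) * w⁻¹ ∈ D := by
      have := hk' ⟨w, hWK hw⟩
      exact Subgroup.mem_subgroupOf.1 this
    have h2 : w * (k : G) * w⁻¹ * (k : G)⁻¹ ∈ D := D.mul_mem h1 (D.inv_mem hkD)
    have h3 : (k : G) * w⁻¹ * (k : G)⁻¹ ∈ W :=
      (Subgroup.mem_normalizer_iff.1 (hDN hkD) w⁻¹).1 (W.inv_mem hw)
    have h4 : w * (k : G) * w⁻¹ * (k : G)⁻¹ ∈ W := by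
      have e : w * (k : G) * w⁻¹ * (k : G)⁻¹ = w * ((k : G) * w⁻¹ * (k : G)⁻¹) := by group
      rw [e]; exact W.mul_mem hw h3
    have h5 : w * (k : G) * w⁻¹ * (k : G)⁻¹ ∈ W ⊓ D := Subgroup.mem_inf.2 ⟨h4, h2⟩
    rw [hWD, Subgroup.mem_bot] at h5
    calc w * (k : G) = (w * (k : G) * w⁻¹ * (k : G)⁻¹) * ((k : G) * w) := by group
      _ = (k : G) * w := by rw [h5, one_mul]
  have hkercard : Nat.card f.ker ≤ Nat.card C := by
    rw [← Subgroup.card_subtype (W ⊔ D : Subgroup G) f.ker]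
    exact Subgroup.card_le_of_le hkerC
  have hrange : Nat.card f.ker * Nat.card f.range = Nat.card (W ⊔ D : Subgroup G) := by
    rw [← Subgroup.index_ker]; exact Subgroup.card_mul_index _
  have hperm : Nat.card (Equiv.Perm ((W ⊔ D : Subgroup G) ⧸ D')) = 24 := by
    rw [Nat.card_perm, hcardQ]; rfl
  have hkpos : 0 < Nat.card f.ker := Nat.card_pos
  have hr24 : 24 ≤ Nat.card f.range := by
    by_contra hlt
    push Not at hlt
    have h1 : Nat.card f.ker * Nat.card f.range ≤ Nat.card f.ker * 23 :=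
      Nat.mul_le_mul_left _ (by omega)
    have h2 : Nat.card f.ker * 23 < 4 * Nat.card D := by nlinarith
    rw [hrange, hcardK] at h1
    omega
  have hsurj : Function.Surjective f := by
    rw [← MonoidHom.range_eq_top]
    apply Subgroup.eq_top_of_card_eq
    have h1 : Nat.card f.range ≤ Nat.card (Equiv.Perm ((W ⊔ D : Subgroup G) ⧸ D')) :=
      Subgroup.card_le_card_group _
    omega
  rw [involves_iff_exists_surj]
  refine ⟨W ⊔ D, (Equiv.permCongrHom (Finite.equivFinOfCardEq hcardQ)).toMonoidHom.comp f, ?_⟩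
  exact (Equiv.permCongrHom (Finite.equivFinOfCardEq hcardQ)).surjective.comp hsurj

end Cfsg.Agent.Lib.Helper3.WC
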