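import Mathlib
import Cfsg.Agent.Lib.Helper3.WC1
import Cfsg.Agent.Lib.Helper5.BaerSuzuki
import Cfsg.Agent.Lib.Helper42.Sec23

set_option autoImplicit false

/-!
# Transvections on a normal abelian `2`-subgroup force `S₄` (helper3)

`dihedral_isPGroup`: two involutions whose product has `2`-power order generate a `2`-group.
`exists_prime_pow_power`: a power of prime power order outside a given subgroup.
-/

namespace Cfsg.Agent.Lib.Helper3.WC

open Cfsg Cfsg.Agent.Lib.Helper42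

section dihedral

variable {Q : Type*} [Group Q]

theorem dihedral_conj {s t : Q} (hs : s * s = 1) (ht : t * t = 1) (k : ℤ) :
    s * (s * t) ^ k * s⁻¹ = ((s * t) ^ k)⁻¹ := by
  have hs' : s⁻¹ = s := inv_eq_of_mul_eq_one_left hs
  have ht' : t⁻¹ = t := inv_eq_of_mul_eq_one_left ht
  have h1 : s * (s * t) * s⁻¹ = (s * t)⁻¹ := by
    rw [mul_inv_rev, ht', hs']
    calc s * (s * t) * s = (s * s) * t * s := by group
      _ = t * s := by rw [hs, one_mul]
  have h2 : s * (s * t) ^ k * s⁻¹ = (s * (s * t) * s⁻¹) ^ k := by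
    rw [conj_zpow]
  rw [h2, h1, inv_zpow]

theorem dihedral_sq {s t : Q} (hs : s * s = 1) (ht : t * t = 1) (k : ℤ) :
    ((s * t) ^ k * s) * ((s * t) ^ k * s) = 1 := by
  have h := dihedral_conj hs ht k
  calc ((s * t) ^ k * s) * ((s * t) ^ k * s)
      = (s * t) ^ k * (s * (s * t) ^ k * s⁻¹) * (s * s) := by group
    _ = 1 := by rw [h, hs, mul_one, mul_inv_cancel]

theorem dihedral_isPGroup {s t : Q} (hs : s * s = 1) (ht : t * t = 1) (e : ℕ)
    (hr : (s * t) ^ (2 ^ e) = 1) : IsPGroup 2 (Subgroup.closure ({s, t} : Set Q)) := by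
  have hs' : s⁻¹ = s := inv_eq_of_mul_eq_one_left hs
  have ht' : t⁻¹ = t := inv_eq_of_mul_eq_one_left ht
  have hconj := dihedral_conj hs ht
  have key : ∀ g ∈ Subgroup.closure ({s, t} : Set Q),
      ∃ k : ℤ, g = (s * t) ^ k ∨ g = (s * t) ^ k * s := by
    intro g hg
    induction hg using Subgroup.closure_induction with
    | mem x hx =>
      rcases hx with hx | hx
      · exact ⟨0, Or.inr (by rw [hx]; simp)⟩
      · refine ⟨-1, Or.inr ?_⟩
        have hx' : x = t := hx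
        rw [hx', zpow_neg, zpow_one, mul_inv_rev, ht', hs', mul_assoc, hs, mul_one]
    | one => exact ⟨0, Or.inl (by simp)⟩
    | mul x y _ _ hx hy =>
      obtain ⟨i, hi | hi⟩ := hx <;> obtain ⟨j, hj | hj⟩ := hy
      · exact ⟨i + j, Or.inl (by rw [hi, hj, zpow_add])⟩
      · exact ⟨i + j, Or.inr (by rw [hi, hj, zpow_add, mul_assoc])⟩
      · refine ⟨i - j, Or.inr ?_⟩
        rw [hi, hj]
        calc (s * t) ^ i * s * (s * t) ^ j
            = (s * t) ^ i * (s * (s * t) ^ j * s⁻¹) * s := by group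
          _ = (s * t) ^ (i - j) * s := by rw [hconj j, zpow_sub]
      · refine ⟨i - j, Or.inl ?_⟩
        rw [hi, hj]
        calc (s * t) ^ i * s * ((s * t) ^ j * s)
            = (s * t) ^ i * (s * (s * t) ^ j * s⁻¹) * (s * s) := by group
          _ = (s * t) ^ (i - j) := by rw [hconj j, hs, mul_one, zpow_sub]
    | inv x _ hx =>
      obtain ⟨i, hi | hi⟩ := hx
      · exact ⟨-i, Or.inl (by rw [hi, zpow_neg])⟩
      · exact ⟨i, Or.inr (by rw [hi]; exact inv_eq_of_mul_eq_one_left (dihedral_sq hs ht i))⟩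
  rintro ⟨g, hg⟩
  refine ⟨e + 1, Subtype.ext ?_⟩
  show g ^ 2 ^ (e + 1) = 1
  obtain ⟨k, hk | hk⟩ := key g hg
  · rw [hk, ← zpow_natCast, ← zpow_mul, mul_comm, zpow_mul, zpow_natCast, pow_succ, pow_mul, hr,
      one_pow, one_zpow]
  · rw [hk, pow_succ', pow_mul, pow_two, dihedral_sq hs ht k, one_pow]

end dihedral

theorem exists_prime_pow_power {Γ : Type*} [Group Γ] [Finite Γ] (D : Subgroup Γ) :
    ∀ (n : ℕ) (z : Γ), orderOf z = n → z ∉ D →
      ∃ z' ∈ Subgroup.zpowers z, z' ∉ D ∧ ∃ q f : ℕ, q.Prime ∧ orderOf z' = q ^ f := by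
  intro n
  induction n using Nat.strong_induction_on with
  | _ n ih =>
  intro z hn hz
  have hn0 : n ≠ 0 := by rw [← hn]; exact (orderOf_pos z).ne'
  have hn1 : n ≠ 1 := by
    intro h
    rw [h, orderOf_eq_one_iff] at hn
    exact hz (hn ▸ D.one_mem)
  have hq : (n.minFac).Prime := Nat.minFac_prime hn1
  obtain ⟨f, r, hr, hnr⟩ := Nat.exists_eq_pow_mul_and_not_dvd hn0 n.minFac hq.ne_one
  by_cases hr1 : r = 1
  · exact ⟨z, Subgroup.mem_zpowers z, hz, n.minFac, f, hq, by rw [hn]; rw [hr1, mul_one] at hnr; exact hnr⟩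
  · have hf0 : f ≠ 0 := by
      intro h
      rw [h, pow_zero, one_mul] at hnr
      exact hr (hnr ▸ Nat.minFac_dvd n)
    have hr0 : 0 < r := by
      rcases Nat.eq_zero_or_pos r with h | h
      · rw [h, mul_zero] at hnr; exact absurd hnr hn0
      · exact h
    have hqf : 1 < n.minFac ^ f := Nat.one_lt_pow hf0 hq.one_lt
    have ho1 : orderOf (z ^ (n.minFac ^ f)) = r := by
      rw [orderOf_pow' _ (pow_ne_zero f hq.ne_zero), hn]
      nth_rewrite 1 2 [hnr]
      rw [Nat.gcd_eq_right (dvd_mul_right _ _), Nat.mul_div_cancel_left r (by omega)]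
    have ho2 : orderOf (z ^ r) = n.minFac ^ f := by
      rw [orderOf_pow' _ hr0.ne', hn]
      nth_rewrite 1 2 [hnr]
      rw [Nat.gcd_eq_right (dvd_mul_left _ _), Nat.mul_div_cancel _ hr0]
    have hrn : r < n := by
      have h1 : 1 * r < n.minFac ^ f * r := Nat.mul_lt_mul_of_pos_right hqf hr0
      rw [one_mul, ← hnr] at h1
      exact h1
    by_cases h1 : z ^ (n.minFac ^ f) ∈ D
    · by_cases h2 : z ^ r ∈ D
      · exfalso
        have hcop : Nat.Coprime (n.minFac ^ f) r :=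
          Nat.Coprime.pow_left f ((Nat.Prime.coprime_iff_not_dvd hq).mpr hr)
        have hb := Nat.gcd_eq_gcd_ab (n.minFac ^ f) r
        rw [hcop.gcd_eq_one] at hb
        have hz' : z = (z ^ (n.minFac ^ f)) ^ (Nat.gcdA (n.minFac ^ f) r) *
            (z ^ r) ^ (Nat.gcdB (n.minFac ^ f) r) := by
          rw [← zpow_natCast, ← zpow_natCast, ← zpow_mul, ← zpow_mul, ← zpow_add, ← hb]
          simp
        apply hz
        rw [hz']
        exact D.mul_mem (D.zpow_mem h1 _) (D.zpow_mem h2 _)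
      · exact ⟨z ^ r, Subgroup.pow_mem _ (Subgroup.mem_zpowers z) r, h2, n.minFac, f, hq, ho2⟩
    · obtain ⟨z', hz', hz'D, hpp⟩ := ih r hrn (z ^ (n.minFac ^ f)) ho1 h1
      exact ⟨z', (Subgroup.zpowers_le.mpr (Subgroup.pow_mem _ (Subgroup.mem_zpowers z) _)) hz',
        hz'D, hpp⟩

section transv

variable {Γ : Type*} [Group Γ] [Finite Γ]

omit [Finite Γ] in
/-- elements congruent modulo `C(V)` act identically on `V` -/
theorem act_eq_of_mul_mem {V : Subgroup Γ} [hVn : V.Normal] {g g' : Γ}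
    (h : g * g'⁻¹ ∈ Subgroup.centralizer (V : Set Γ)) {v : Γ} (hv : v ∈ V) :
    g * v * g⁻¹ = g' * v * g'⁻¹ := by
  have hv' : g' * v * g'⁻¹ ∈ V := hVn.conj_mem v hv g'
  have h1 := (Subgroup.mem_centralizer_iff.mp h) _ hv'
  calc g * v * g⁻¹ = (g * g'⁻¹) * (g' * v * g'⁻¹) * (g * g'⁻¹)⁻¹ := by group
    _ = g' * v * g'⁻¹ := by rw [← h1]; group

omit [Finite Γ] in
theorem conj_mem_centralizer_of_mem_normalizer {W : Subgroup Γ} {g c : Γ}
    (hg : g ∈ Subgroup.normalizer (W : Set Γ)) (hc : c ∈ Subgroup.centralizer (W : Set Γ)) :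
    g * c * g⁻¹ ∈ Subgroup.centralizer (W : Set Γ) := by
  rw [Subgroup.mem_centralizer_iff]
  intro w hw
  have hw' : g⁻¹ * w * g ∈ W := by
    have := (Subgroup.mem_normalizer_iff.mp (Subgroup.inv_mem _ hg) w).mp hw
    simpa using this
  have h1 := (Subgroup.mem_centralizer_iff.mp hc) _ hw'
  calc w * (g * c * g⁻¹) = g * ((g⁻¹ * w * g) * c) * g⁻¹ := by group
    _ = g * (c * (g⁻¹ * w * g)) * g⁻¹ := by rw [h1]
    _ = g * c * g⁻¹ * w := by group

end transv

end Cfsg.Agent.Lib.Helper3.WC
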