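import Mathlib
import Cfsg.Agent.Lib.Helper3.WC2

set_option autoImplicit false

/-!
# Transvections on a normal abelian `2`-subgroup force `S₄`: the construction (helper3)
-/

namespace Cfsg.Agent.Lib.Helper3.WC

open Cfsg Cfsg.Agent.Lib.Helper42 Cfsg.Agent.Lib.Helper59

section transv

variable {Γ : Type*} [Group Γ] [Finite Γ]

set_option maxHeartbeats 1600000 in
/-- two "transvections" on `V` whose images modulo `C(V)` do not generate a `2`-group give a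
section `S₄`. -/
theorem s4_of_pair (V : Subgroup Γ) [hVn : V.Normal]
    (hVab : ∀ u ∈ V, ∀ v ∈ V, u * v = v * u) (hV2 : IsPGroup 2 V)
    (a₁ a₂ : Γ) (V₁ V₂ : Subgroup Γ) (hV₁ : V₁ ≤ V) (hV₂ : V₂ ≤ V)
    (hc₁ : Nat.card V ≤ 2 * Nat.card V₁) (hc₂ : Nat.card V ≤ 2 * Nat.card V₂)
    (h₁ : ∀ v ∈ V₁, a₁ * v = v * a₁) (h₂ : ∀ v ∈ V₂, a₂ * v = v * a₂)
    (ha₁ : a₁ ^ 2 ∈ Subgroup.centralizer (V : Set Γ))
    (ha₂ : a₂ ^ 2 ∈ Subgroup.centralizer (V : Set Γ))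
    (hnp : ¬ IsPGroup 2 (Subgroup.closure
      ({QuotientGroup.mk' (Subgroup.centralizer (V : Set Γ)) a₁,
        QuotientGroup.mk' (Subgroup.centralizer (V : Set Γ)) a₂} :
          Set (Γ ⧸ Subgroup.centralizer (V : Set Γ))))) :
    Involves (Equiv.Perm (Fin 4)) Γ := by
  set C : Subgroup Γ := Subgroup.centralizer (V : Set Γ) with hC
  set π := QuotientGroup.mk' C with hπ
  have πmem : ∀ g : Γ, π g = 1 ↔ g ∈ C := fun g => QuotientGroup.eq_one_iff g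
  set s := π a₁ with hs_def
  set t := π a₂ with ht_def
  have hs : s * s = 1 := by
    rw [hs_def, ← map_mul, πmem, ← pow_two]; exact ha₁
  have ht : t * t = 1 := by
    rw [ht_def, ← map_mul, πmem, ← pow_two]; exact ha₂
  -- the odd-order element
  set y := a₁ * a₂ with hy
  have hπy : π y = s * t := by rw [hy, map_mul]
  obtain ⟨e, m, hm, hord⟩ := Nat.exists_eq_two_pow_mul_odd (orderOf_pos y).ne'
  set y₁ := y ^ (2 ^ e) with hy₁
  have hy₁m : y₁ ^ m = 1 := by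
    rw [hy₁, ← pow_mul, ← hord, pow_orderOf_eq_one]
  have hy₁C : y₁ ∉ C := by
    intro h
    apply hnp
    apply dihedral_isPGroup hs ht e
    rw [← hπy, ← map_pow, πmem]
    exact h
  -- the subgroup centralized by `y₁`
  have hcyU : ∀ u ∈ V₁ ⊓ V₂, Commute y₁ u := by
    intro u hu
    have h1 : Commute a₁ u := h₁ u hu.1
    have h2 : Commute a₂ u := h₂ u hu.2
    exact (h1.mul_left h2).pow_left _
  have hcardU : Nat.card V ≤ 4 * Nat.card (V₁ ⊓ V₂ : Subgroup Γ) := by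
    have hN : V₂ ≤ Subgroup.normalizer (V₁ : Set Γ) := by
      intro v hv
      apply conj_mem_imp_mem_normalizer
      intro x hx
      have : v * x * v⁻¹ = x := by
        rw [hVab v (hV₂ hv) x (hV₁ hx)]; group
      rw [this]; exact hx
    have h1 := card_sup_mul_card_inf V₁ V₂ hN
    have h2 : Nat.card (V₁ ⊔ V₂ : Subgroup Γ) ≤ Nat.card V :=
      Subgroup.card_le_of_le (sup_le hV₁ hV₂)
    have h3 : 0 < Nat.card V := Nat.card_pos
    have h4 : 0 < Nat.card (V₁ ⊓ V₂ : Subgroup Γ) := Nat.card_pos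
    by_contra hlt
    push Not at hlt
    have h5 : Nat.card V₁ * Nat.card V₂ ≤ Nat.card V * Nat.card (V₁ ⊓ V₂ : Subgroup Γ) := by
      rw [← h1]; exact Nat.mul_le_mul_right _ h2
    nlinarith
  -- the commutator map
  let κ : ↥V →* ↥V :=
    { toFun := fun v => ⟨(v : Γ)⁻¹ * (y₁ * v * y₁⁻¹),
        V.mul_mem (V.inv_mem v.2) (hVn.conj_mem v v.2 y₁)⟩
      map_one' := by
        apply Subtype.ext
        show ((1 : ↥V) : Γ)⁻¹ * (y₁ * ((1 : ↥V) : Γ) * y₁⁻¹) = 1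
        simp
      map_mul' := by
        intro u v
        apply Subtype.ext
        show ((u * v : ↥V) : Γ)⁻¹ * (y₁ * ((u * v : ↥V) : Γ) * y₁⁻¹) =
          ((u : Γ)⁻¹ * (y₁ * u * y₁⁻¹)) * ((v : Γ)⁻¹ * (y₁ * v * y₁⁻¹))
        have hcu : (u : Γ)⁻¹ * (y₁ * u * y₁⁻¹) ∈ V :=
          V.mul_mem (V.inv_mem u.2) (hVn.conj_mem u u.2 y₁)
        have hcomm := hVab _ (V.inv_mem v.2) _ hcu
        rw [Subgroup.coe_mul]
        calc ((u : Γ) * (v : Γ))⁻¹ * (y₁ * ((u : Γ) * (v : Γ)) * y₁⁻¹)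
            = (v : Γ)⁻¹ * ((u : Γ)⁻¹ * (y₁ * u * y₁⁻¹)) * (y₁ * v * y₁⁻¹) := by group
          _ = ((u : Γ)⁻¹ * (y₁ * u * y₁⁻¹)) * (v : Γ)⁻¹ * (y₁ * v * y₁⁻¹) := by rw [hcomm]
          _ = ((u : Γ)⁻¹ * (y₁ * u * y₁⁻¹)) * ((v : Γ)⁻¹ * (y₁ * v * y₁⁻¹)) := by group }
  have hκ : ∀ v : ↥V, ((κ v : ↥V) : Γ) = (v : Γ)⁻¹ * (y₁ * v * y₁⁻¹) := fun v => rfl
  set W : Subgroup Γ := κ.range.map V.subtype with hW
  have hWV : W ≤ V := Subgroup.map_subtype_le _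
  have hmemW : ∀ w : Γ, w ∈ W ↔ ∃ v ∈ V, w = v⁻¹ * (y₁ * v * y₁⁻¹) := by
    intro w
    constructor
    · rintro ⟨_, ⟨v, rfl⟩, rfl⟩
      exact ⟨v, v.2, rfl⟩
    · rintro ⟨v, hv, rfl⟩
      exact ⟨κ ⟨v, hv⟩, ⟨⟨v, hv⟩, rfl⟩, rfl⟩
  have hcardW : Nat.card W ≤ 4 := by
    have h1 : Nat.card W = Nat.card κ.range := Subgroup.card_subtype V κ.range
    have h2 : Nat.card κ.ker * Nat.card κ.range = Nat.card V := by
      rw [← Subgroup.index_ker]; exact Subgroup.card_mul_index _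
    have h3 : (V₁ ⊓ V₂ : Subgroup Γ).subgroupOf V ≤ κ.ker := by
      intro u hu
      rw [MonoidHom.mem_ker]
      apply Subtype.ext
      rw [hκ]
      have := (hcyU _ (Subgroup.mem_subgroupOf.mp hu)).eq
      show (u : Γ)⁻¹ * (y₁ * u * y₁⁻¹) = 1
      rw [this]; group
    have h4 : Nat.card ((V₁ ⊓ V₂ : Subgroup Γ).subgroupOf V) = Nat.card (V₁ ⊓ V₂ : Subgroup Γ) :=
      Nat.card_congr (Subgroup.subgroupOfEquivOfLe (inf_le_left.trans hV₁)).toEquiv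
    have h5 : Nat.card (V₁ ⊓ V₂ : Subgroup Γ) ≤ Nat.card κ.ker := by
      rw [← h4]; exact Subgroup.card_le_of_le h3
    have h6 : 0 < Nat.card κ.ker := Nat.card_pos
    rw [h1]
    by_contra hlt
    push Not at hlt
    nlinarith
  have hy₁W : y₁ ∈ Subgroup.normalizer (W : Set Γ) := by
    apply conj_mem_imp_mem_normalizer
    intro w hw
    obtain ⟨v, hv, rfl⟩ := (hmemW w).mp hw
    refine (hmemW _).mpr ⟨y₁ * v * y₁⁻¹, hVn.conj_mem v hv y₁, by group⟩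
  have hfixW : ∀ w ∈ W, w * y₁ = y₁ * w → w = 1 := by
    intro w hw hcomm
    obtain ⟨v, hv, hwv⟩ := (hmemW w).mp hw
    have h1 : y₁ * v * y₁⁻¹ = v * w := by rw [hwv]; group
    have h2 : ∀ i : ℕ, y₁ ^ i * v * (y₁ ^ i)⁻¹ = v * w ^ i := by
      intro i
      induction i with
      | zero => simp
      | succ i ih =>
        have h3 : y₁ * w ^ i * y₁⁻¹ = w ^ i := by
          have : Commute y₁ (w ^ i) := (Commute.pow_right (show Commute y₁ w from hcomm.symm) i)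
          rw [this.eq]; group
        calc y₁ ^ (i + 1) * v * (y₁ ^ (i + 1))⁻¹
            = y₁ * (y₁ ^ i * v * (y₁ ^ i)⁻¹) * y₁⁻¹ := by rw [pow_succ']; group
          _ = (y₁ * v * y₁⁻¹) * (y₁ * w ^ i * y₁⁻¹) := by rw [ih]; group
          _ = v * w ^ (i + 1) := by rw [h1, h3, pow_succ', mul_assoc]
    have h4 := h2 m
    rw [hy₁m] at h4
    have h5 : w ^ m = 1 := by
      have : v * w ^ m = v * 1 := by rw [← h4]; group
      exact mul_left_cancel this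
    obtain ⟨k, hk⟩ := hV2 ⟨w, hWV hw⟩
    have h6 : w ^ 2 ^ k = 1 := congrArg Subtype.val hk
    have h7 : orderOf w ∣ Nat.gcd m (2 ^ k) :=
      Nat.dvd_gcd (orderOf_dvd_of_pow_eq_one h5) (orderOf_dvd_of_pow_eq_one h6)
    have h8 : Nat.gcd m (2 ^ k) = 1 := Nat.Coprime.pow_right k hm.coprime_two_right
    rw [h8, Nat.dvd_one] at h7
    exact orderOf_eq_one_iff.mp h7
  have hW1 : ∃ w ∈ W, w ≠ 1 := by
    have : ∃ v ∈ V, v * y₁ ≠ y₁ * v := by
      by_contra hcon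
      push Not at hcon
      exact hy₁C (Subgroup.mem_centralizer_iff.mpr hcon)
    obtain ⟨v, hv, hne⟩ := this
    refine ⟨v⁻¹ * (y₁ * v * y₁⁻¹), (hmemW _).mpr ⟨v, hv, rfl⟩, ?_⟩
    intro h1
    apply hne
    have : y₁ * v * y₁⁻¹ = v := by
      calc y₁ * v * y₁⁻¹ = v * (v⁻¹ * (y₁ * v * y₁⁻¹)) := by group
        _ = v := by rw [h1, mul_one]
    calc v * y₁ = (y₁ * v * y₁⁻¹) * y₁ := by rw [this]
      _ = y₁ * v := by group
  have hconjW : ∀ w ∈ W, y₁ * w * y₁⁻¹ ∈ W := fun w hw =>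
    (Subgroup.mem_normalizer_iff.mp hy₁W w).mp hw
  have hcard4 : Nat.card W = 4 := by
    obtain ⟨k, hk⟩ := IsPGroup.iff_card.mp (hV2.to_le hWV)
    obtain ⟨w, hw, hw1⟩ := hW1
    have hk0 : k ≠ 0 := by
      intro h
      rw [h, pow_zero] at hk
      have := Subgroup.eq_bot_of_card_eq W hk
      rw [this, Subgroup.mem_bot] at hw
      exact hw1 hw
    have hk1 : k ≠ 1 := by
      intro h
      rw [h, pow_one] at hk
      obtain ⟨u, hu, huniq⟩ := (Nat.card_eq_two_iff' (1 : ↥W)).mp hk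
      have hw' : y₁ * w * y₁⁻¹ ≠ 1 := by
        intro h1
        apply hw1
        calc w = y₁⁻¹ * (y₁ * w * y₁⁻¹) * y₁ := by group
          _ = 1 := by rw [h1]; group
      have e1 : (⟨w, hw⟩ : ↥W) = u := huniq _ (fun h => hw1 (congrArg Subtype.val h))
      have e2 : (⟨y₁ * w * y₁⁻¹, hconjW w hw⟩ : ↥W) = u :=
        huniq _ (fun h => hw' (congrArg Subtype.val h))
      have e3 : y₁ * w * y₁⁻¹ = w := congrArg Subtype.val (e2.trans e1.symm)
      apply hw1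
      apply hfixW w hw
      calc w * y₁ = (y₁ * w * y₁⁻¹) * y₁ := by rw [e3]
        _ = y₁ * w := by group
    have hk2 : k ≤ 2 := by
      by_contra hlt
      push Not at hlt
      have : 2 ^ 3 ≤ 2 ^ k := Nat.pow_le_pow_right (by norm_num) hlt
      rw [← hk] at this
      omega
    have : k = 2 := by omega
    rw [hk, this]; norm_num
  -- `a₁` inverts `y` modulo `C`
  have hinv : ∀ k : ℤ, a₁ * y ^ k * a₁⁻¹ * y ^ k ∈ C := by
    intro k
    rw [← πmem, map_mul, map_mul, map_mul, map_inv, map_zpow, hπy, ← hs_def,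
      dihedral_conj hs ht k, inv_mul_cancel]
  have ha₁W : a₁ ∈ Subgroup.normalizer (W : Set Γ) := by
    apply conj_mem_imp_mem_normalizer
    intro w hw
    obtain ⟨v, hv, rfl⟩ := (hmemW w).mp hw
    have hu : a₁ * v * a₁⁻¹ ∈ V := hVn.conj_mem v hv a₁
    have h1 : a₁ * y₁ * a₁⁻¹ * (y₁⁻¹)⁻¹ ∈ C := by
      have := hinv ((2 ^ e : ℕ) : ℤ)
      rw [zpow_natCast] at this
      rw [inv_inv]; exact this
    have h2 := act_eq_of_mul_mem (V := V) h1 hu
    have hu' : y₁⁻¹ * (a₁ * v * a₁⁻¹) * y₁ ∈ V := by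
      have := hVn.conj_mem _ hu y₁⁻¹
      simpa using this
    have h3 : a₁ * (v⁻¹ * (y₁ * v * y₁⁻¹)) * a₁⁻¹ =
        ((y₁⁻¹ * (a₁ * v * a₁⁻¹) * y₁)⁻¹ * (y₁ * (y₁⁻¹ * (a₁ * v * a₁⁻¹) * y₁) * y₁⁻¹))⁻¹ := by
      calc a₁ * (v⁻¹ * (y₁ * v * y₁⁻¹)) * a₁⁻¹
          = (a₁ * v * a₁⁻¹)⁻¹ * ((a₁ * y₁ * a₁⁻¹) * (a₁ * v * a₁⁻¹) * (a₁ * y₁ * a₁⁻¹)⁻¹) := by
            group
        _ = (a₁ * v * a₁⁻¹)⁻¹ * (y₁⁻¹ * (a₁ * v * a₁⁻¹) * y₁⁻¹⁻¹) := by rw [h2]
        _ = _ := by group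
    rw [h3]
    exact W.inv_mem ((hmemW _).mpr ⟨_, hu', rfl⟩)
  -- a power `z` of `y₁` of prime power order, acting nontrivially on `W`
  have hy₁CW : y₁ ∉ Subgroup.centralizer (W : Set Γ) := by
    intro h
    obtain ⟨w, hw, hw1⟩ := hW1
    exact hw1 (hfixW w hw ((Subgroup.mem_centralizer_iff.mp h) w hw))
  obtain ⟨z, hzy, hzCW, q, f, hq, hzord⟩ :=
    exists_prime_pow_power (Subgroup.centralizer (W : Set Γ)) _ y₁ rfl hy₁CW
  obtain ⟨j, hj⟩ := Subgroup.mem_zpowers_iff.mp hzy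
  have hzk : z = y ^ (((2 ^ e : ℕ) : ℤ) * j) := by
    rw [← hj, hy₁, zpow_mul, zpow_natCast]
  have hzm : z ^ m = 1 := by
    rw [← hj, ← zpow_natCast, ← zpow_mul, mul_comm, zpow_mul, zpow_natCast, hy₁m, one_zpow]
  have hcomm_yz : Commute y₁ z := by
    rw [← hj]; exact (Commute.refl y₁).zpow_right j
  have hf0 : f ≠ 0 := by
    intro h
    rw [h, pow_zero, orderOf_eq_one_iff] at hzord
    exact hzCW (hzord ▸ Subgroup.one_mem _)
  have hq2 : q ≠ 2 := by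
    intro h
    have h1 : q ^ f ∣ m := hzord ▸ orderOf_dvd_of_pow_eq_one hzm
    have h2 : q ∣ m := (dvd_pow_self q hf0).trans h1
    rw [h] at h2
    exact (Nat.not_even_iff_odd.mpr hm) (even_iff_two_dvd.mpr h2)
  have hzW : z ∈ Subgroup.normalizer (W : Set Γ) :=
    (Subgroup.zpowers_le.mpr hy₁W) hzy
  have hfixz : ∀ w ∈ W, w * z = z * w → w = 1 := by
    intro w hw hcomm
    by_contra hw1
    set F : Subgroup Γ := W ⊓ Subgroup.centralizer ({z} : Set Γ) with hF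
    have hmemF : ∀ x : Γ, x ∈ F ↔ x ∈ W ∧ x * z = z * x := by
      intro x
      rw [hF, Subgroup.mem_inf, Subgroup.mem_centralizer_iff]
      constructor
      · rintro ⟨h1, h2⟩; exact ⟨h1, (h2 z rfl).symm⟩
      · rintro ⟨h1, h2⟩; exact ⟨h1, fun h hh => by rw [Set.mem_singleton_iff.mp hh]; exact h2.symm⟩
    have hwF : w ∈ F := (hmemF w).mpr ⟨hw, hcomm⟩
    have hw'F : y₁ * w * y₁⁻¹ ∈ F := by
      refine (hmemF _).mpr ⟨hconjW w hw, ?_⟩
      have h1 : z * y₁ = y₁ * z := hcomm_yz.eq.symm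
      have h2 : y₁⁻¹ * z = z * y₁⁻¹ := by
        calc y₁⁻¹ * z = y₁⁻¹ * (z * y₁) * y₁⁻¹ := by group
          _ = y₁⁻¹ * (y₁ * z) * y₁⁻¹ := by rw [h1]
          _ = z * y₁⁻¹ := by group
      calc y₁ * w * y₁⁻¹ * z = y₁ * w * (y₁⁻¹ * z) := by group
        _ = y₁ * (w * z) * y₁⁻¹ := by rw [h2]; group
        _ = (y₁ * z) * w * y₁⁻¹ := by rw [hcomm]; group
        _ = z * (y₁ * w * y₁⁻¹) := by rw [← h1]; group
    have hw'1 : y₁ * w * y₁⁻¹ ≠ 1 := by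
      intro h1
      apply hw1
      calc w = y₁⁻¹ * (y₁ * w * y₁⁻¹) * y₁ := by group
        _ = 1 := by rw [h1]; group
    have hw'w : y₁ * w * y₁⁻¹ ≠ w := by
      intro e3
      apply hw1
      apply hfixW w hw
      calc w * y₁ = (y₁ * w * y₁⁻¹) * y₁ := by rw [e3]
        _ = y₁ * w := by group
    have hdvd : Nat.card F ∣ 2 ^ 2 := by
      have := Subgroup.card_dvd_of_le (inf_le_left : F ≤ W)
      rw [hcard4] at this
      exact this
    obtain ⟨i, hi, hFi⟩ := (Nat.dvd_prime_pow Nat.prime_two).mp hdvd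
    interval_cases i
    · rw [pow_zero] at hFi
      have := Subgroup.eq_bot_of_card_eq F hFi
      rw [this, Subgroup.mem_bot] at hwF
      exact hw1 hwF
    · rw [pow_one] at hFi
      obtain ⟨u, hu, huniq⟩ := (Nat.card_eq_two_iff' (1 : ↥F)).mp hFi
      have e1 : (⟨w, hwF⟩ : ↥F) = u := huniq _ (fun h => hw1 (congrArg Subtype.val h))
      have e2 : (⟨y₁ * w * y₁⁻¹, hw'F⟩ : ↥F) = u :=
        huniq _ (fun h => hw'1 (congrArg Subtype.val h))
      exact hw'w (congrArg Subtype.val (e2.trans e1.symm))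
    · have hFW : F = W := Subgroup.eq_of_le_of_card_ge inf_le_left (by rw [hFi, hcard4]; norm_num)
      apply hzCW
      rw [Subgroup.mem_centralizer_iff]
      intro x hx
      have : x ∈ F := hFW ▸ hx
      exact ((hmemF x).mp this).2
  -- the subgroup `L = ⟨z⟩ C` and Frattini
  set L : Subgroup Γ := Subgroup.zpowers z ⊔ C with hL
  have hCL : C ≤ L := le_sup_right
  have hzL : Subgroup.zpowers z ≤ L := le_sup_left
  have hzinv : a₁ * z * a₁⁻¹ * z ∈ C := by rw [hzk]; exact hinv _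
  have hconjz : a₁ * z * a₁⁻¹ ∈ L := by
    have e1 : a₁ * z * a₁⁻¹ = (a₁ * z * a₁⁻¹ * z) * z⁻¹ := by group
    rw [e1]
    exact L.mul_mem (hCL hzinv) (L.inv_mem (hzL (Subgroup.mem_zpowers z)))
  have hLdec : ∀ l ∈ L, ∃ i : ℤ, ∃ o ∈ C, l = z ^ i * o := by
    intro l hl
    obtain ⟨u, hu, o, ho, rfl⟩ := mem_sup_normal_right hl
    obtain ⟨i, rfl⟩ := Subgroup.mem_zpowers_iff.mp hu
    exact ⟨i, o, ho, rfl⟩
  have ha₁L : a₁ ∈ Subgroup.normalizer (L : Set Γ) := by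
    apply conj_mem_imp_mem_normalizer
    intro l hl
    obtain ⟨i, o, ho, rfl⟩ := hLdec l hl
    have e1 : a₁ * (z ^ i * o) * a₁⁻¹ = (a₁ * z * a₁⁻¹) ^ i * (a₁ * o * a₁⁻¹) := by
      rw [conj_zpow]; group
    rw [e1]
    exact L.mul_mem (L.zpow_mem hconjz i)
      (hCL ((inferInstance : C.Normal).conj_mem o ho a₁))
  have : Fact q.Prime := ⟨hq⟩
  obtain ⟨P₀, hP₀⟩ := exists_isSylIn q L
  have hzq : IsPGroup q (Subgroup.zpowers z) :=
    IsPGroup.of_card (n := f) (by rw [Nat.card_zpowers, hzord])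
  obtain ⟨l, hl, hle⟩ := hP₀.exists_conj_le hzL hzq
  set P : Subgroup Γ := cj l⁻¹ P₀ with hPdef
  have hP : IsSylIn q P L := by
    have := hP₀.conj l⁻¹
    rwa [cj_eq_of_mem (L.inv_mem hl)] at this
  have hzP : z ∈ P := (cj_le_iff.mp hle) (Subgroup.mem_zpowers z)
  obtain ⟨n, hnL, hnN⟩ := frattini_isSylIn hP ha₁L
  -- the final configuration
  have hCW : C ≤ Subgroup.centralizer (W : Set Γ) := Subgroup.centralizer_le hWV
  have hLN : L ≤ Subgroup.normalizer (W : Set Γ) :=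
    sup_le (Subgroup.zpowers_le.mpr hzW) (hCW.trans (Subgroup.centralizer_le_normalizer _))
  have hPN : P ≤ Subgroup.normalizer (W : Set Γ) := hP.1.trans hLN
  have htW : n * a₁ ∈ Subgroup.normalizer (W : Set Γ) :=
    Subgroup.mul_mem _ (hLN hnL) ha₁W
  have hPodd : (Nat.card P).Coprime 2 := by
    obtain ⟨k, hk⟩ := IsPGroup.iff_card.mp hP.2.1
    rw [hk]
    exact Nat.Coprime.pow_left k ((Nat.coprime_primes hq Nat.prime_two).mpr hq2)
  obtain ⟨i, o, ho, hn_eq⟩ := hLdec n hnL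
  have hπn : π n = (s * t) ^ ((((2 ^ e : ℕ) : ℤ) * j) * i) := by
    rw [hn_eq, map_mul, (πmem o).mpr ho, mul_one, map_zpow, hzk, map_zpow, hπy, ← zpow_mul]
  have hπz : π z = (s * t) ^ (((2 ^ e : ℕ) : ℤ) * j) := by
    rw [hzk, map_zpow, hπy]
  have ht2 : (n * a₁) ^ 2 ∈ Subgroup.centralizer (W : Set Γ) := by
    apply hCW
    rw [← πmem, map_pow, map_mul, hπn, ← hs_def, pow_two]
    exact dihedral_sq hs ht _
  have htn : n * a₁ ∉ Subgroup.centralizer (W : Set Γ) := by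
    intro htC
    have h1 : (n * a₁) * z * (n * a₁)⁻¹ * z ∈ C := by
      rw [← πmem, map_mul, map_mul, map_mul, map_inv, map_mul, hπn, hπz, ← hs_def]
      have hc := dihedral_conj hs ht (((2 ^ e : ℕ) : ℤ) * j)
      calc (s * t) ^ ((((2 ^ e : ℕ) : ℤ) * j) * i) * s * (s * t) ^ (((2 ^ e : ℕ) : ℤ) * j) *
            ((s * t) ^ ((((2 ^ e : ℕ) : ℤ) * j) * i) * s)⁻¹ * (s * t) ^ (((2 ^ e : ℕ) : ℤ) * j)
          = (s * t) ^ ((((2 ^ e : ℕ) : ℤ) * j) * i) *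
              (s * (s * t) ^ (((2 ^ e : ℕ) : ℤ) * j) * s⁻¹) *
              ((s * t) ^ ((((2 ^ e : ℕ) : ℤ) * j) * i))⁻¹ *
              (s * t) ^ (((2 ^ e : ℕ) : ℤ) * j) := by group
        _ = 1 := by rw [hc]; group
    have h2 : (n * a₁) * z * (n * a₁)⁻¹ * z⁻¹ ∈ Subgroup.centralizer (W : Set Γ) := by
      have h3 := conj_mem_centralizer_of_mem_normalizer hzW (Subgroup.inv_mem _ htC)
      have e1 : (n * a₁) * z * (n * a₁)⁻¹ * z⁻¹ = (n * a₁) * (z * (n * a₁)⁻¹ * z⁻¹) := by group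
      rw [e1]
      exact Subgroup.mul_mem _ htC h3
    have h4 : z ^ 2 ∈ Subgroup.centralizer (W : Set Γ) := by
      have e1 : z ^ 2 = ((n * a₁) * z * (n * a₁)⁻¹ * z⁻¹)⁻¹ * ((n * a₁) * z * (n * a₁)⁻¹ * z) := by
        rw [pow_two]; group
      rw [e1]
      exact Subgroup.mul_mem _ (Subgroup.inv_mem _ h2) (hCW h1)
    obtain ⟨c, hc⟩ := hm
    apply hzCW
    have e2 : z = (z ^ 2) ^ (c + 1) := by
      rw [← pow_mul]
      have : 2 * (c + 1) = m + 1 := by omega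
      rw [this, pow_succ, hzm, one_mul]
    rw [e2]
    exact Subgroup.pow_mem _ h4 _
  exact involves_S4_gen W P z (n * a₁) hcard4 hPN hzP htW hnN hPodd hfixz ht2 htn

/-- **transvection lemma**: if `S₄` is not involved, an element acting as a transvection on the
normal abelian `2`-subgroup `V` lies in a normal subgroup which is a `2`-group modulo `C(V)`. -/
theorem transv_normal (V V₀ : Subgroup Γ) [hVn : V.Normal]
    (hVab : ∀ u ∈ V, ∀ v ∈ V, u * v = v * u) (hV2 : IsPGroup 2 V)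
    (hV₀ : V₀ ≤ V) (hidx : Nat.card V ≤ 2 * Nat.card V₀) (a : Γ)
    (haV₀ : ∀ v ∈ V₀, a * v = v * a) (ha2 : a ^ 2 ∈ Subgroup.centralizer (V : Set Γ))
    (hnS4 : ¬ Involves (Equiv.Perm (Fin 4)) Γ) :
    ∃ N : Subgroup Γ, N.Normal ∧ a ∈ N ∧ Subgroup.centralizer (V : Set Γ) ≤ N ∧
      ∀ T : Subgroup Γ, IsSylIn 2 T ⊤ → N ≤ T ⊔ Subgroup.centralizer (V : Set Γ) := by
  set C : Subgroup Γ := Subgroup.centralizer (V : Set Γ) with hC
  set π := QuotientGroup.mk' C with hπ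
  have πmem : ∀ g : Γ, π g = 1 ↔ g ∈ C := fun g => QuotientGroup.eq_one_iff g
  have hπsurj : Function.Surjective π := QuotientGroup.mk'_surjective C
  set K : Set (Γ ⧸ C) := {x | ∃ h : Γ, x = π (h * a * h⁻¹)} with hK
  have hKc : ∀ x ∈ K, ∀ g : Γ ⧸ C, g * x * g⁻¹ ∈ K := by
    rintro _ ⟨h, rfl⟩ g
    obtain ⟨g', rfl⟩ := hπsurj g
    refine ⟨g' * h, ?_⟩
    rw [← map_inv, ← map_mul, ← map_mul]
    congr 1
    group
  by_cases hKp : ∀ x ∈ K, ∀ y ∈ K, IsPGroup 2 (Subgroup.closure ({x, y} : Set (Γ ⧸ C)))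
  · obtain ⟨Nb, hNn, hNp, hKN⟩ := Cfsg.Agent.Lib.Helper5.baer_suzuki_set (p := 2) K hKc hKp
    refine ⟨Nb.comap π, hNn.comap π, ?_, ?_, ?_⟩
    · rw [Subgroup.mem_comap]
      exact hKN ⟨1, by simp⟩
    · intro c hc
      rw [Subgroup.mem_comap, (πmem c).mpr hc]
      exact Nb.one_mem
    · intro T hT n hn
      have hTb : IsSylIn 2 (T.map π) ⊤ := by
        refine ⟨le_top, hT.2.1.map π, ?_⟩
        rw [Subgroup.relIndex_top_right]
        intro hd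
        apply hT.2.2
        rw [Subgroup.relIndex_top_right]
        exact hd.trans (Subgroup.index_map_dvd T hπsurj)
      have hle : Nb ≤ T.map π :=
        hTb.normal_le le_top hNp (by rw [Subgroup.normalizer_eq_top])
      obtain ⟨t, ht, hteq⟩ := hle (Subgroup.mem_comap.mp hn)
      have h1 : t⁻¹ * n ∈ C := by
        rw [← πmem, map_mul, map_inv, hteq, inv_mul_cancel]
      have e1 : n = t * (t⁻¹ * n) := by group
      rw [e1]
      exact Subgroup.mul_mem _ (Subgroup.mem_sup_left ht) (Subgroup.mem_sup_right h1)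
  · exfalso
    push Not at hKp
    obtain ⟨x, ⟨h₁, rfl⟩, y, ⟨h₂, rfl⟩, hnp⟩ := hKp
    apply hnS4
    have hcjV : ∀ h : Γ, cj h V₀ ≤ V := by
      intro h
      have h1 : cj h V = V :=
        cj_eq_of_mem_normalizer (by rw [Subgroup.normalizer_eq_top]; trivial)
      exact (cj_mono (g := h) hV₀).trans h1.le
    have hcent : ∀ h : Γ, ∀ v ∈ cj h V₀, (h * a * h⁻¹) * v = v * (h * a * h⁻¹) := by
      intro h v hv
      have h1 := haV₀ _ (mem_cj.mp hv)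
      calc (h * a * h⁻¹) * v = h * (a * (h⁻¹ * v * h)) * h⁻¹ := by group
        _ = h * ((h⁻¹ * v * h) * a) * h⁻¹ := by rw [h1]
        _ = v * (h * a * h⁻¹) := by group
    have hsq : ∀ h : Γ, (h * a * h⁻¹) ^ 2 ∈ C := by
      intro h
      rw [conj_pow]
      exact (inferInstance : C.Normal).conj_mem _ ha2 h
    exact s4_of_pair V hVab hV2 (h₁ * a * h₁⁻¹) (h₂ * a * h₂⁻¹) (cj h₁ V₀) (cj h₂ V₀)
      (hcjV h₁) (hcjV h₂) (by rw [card_cj]; exact hidx) (by rw [card_cj]; exact hidx)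
      (hcent h₁) (hcent h₂) (hsq h₁) (hsq h₂) hnp

end transv

end Cfsg.Agent.Lib.Helper3.WC
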