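import Mathlib
import Cfsg.Agent.Lib.Helper3.WC3

set_option autoImplicit false

/-!
# The trace argument for families of subgroups, `p = 2` (helper3)

Variant of `Cfsg.Agent.Lib.Helper42.trq`: instead of elements with vanishing norm one uses a family
of subgroups `E` with the property that a point fixed by a subgroup of index `≤ 2` of `E` is fixed
by `E`.
-/

namespace Cfsg.Agent.Lib.Helper3.WC

open Cfsg Cfsg.Agent.Lib.Helper42

section trace

open Classical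

variable {K : Type*} [Group K] {M : Type*} [CommGroup M] [MulDistribMulAction K M]
  {Ω : Type*} [MulAction K Ω] [Fintype Ω]

/-- an orbit product is fixed by the subgroup -/
theorem orb_prod_fixed (f : Ω → M) (hf : ∀ (h : K) (ω : Ω), f (h • ω) = h • f ω)
    (L : Subgroup K) (ω : Ω) {l : K} (hl : l ∈ L) :
    l • (∏ ω' ∈ orb L ω, f ω') = ∏ ω' ∈ orb L ω, f ω' := by
  rw [Finset.smul_prod']
  have h1 : ∏ ω' ∈ orb L ω, l • f ω' = ∏ ω' ∈ orb L ω, f (l • ω') :=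
    Finset.prod_congr rfl (fun ω' _ => (hf l ω').symm)
  rw [h1]
  apply Finset.prod_bij (fun ω' _ => l • ω')
  · intro ω' hω'
    obtain ⟨k, hk, rfl⟩ := mem_orb.mp hω'
    exact mem_orb.mpr ⟨l * k, L.mul_mem hl hk, mul_smul _ _ _⟩
  · intro a _ b _ hab
    exact MulAction.injective l hab
  · intro b hb
    obtain ⟨k, hk, rfl⟩ := mem_orb.mp hb
    exact ⟨(l⁻¹ * k) • ω, mem_orb.mpr ⟨l⁻¹ * k, L.mul_mem (L.inv_mem hl) hk, rfl⟩,
      by rw [← mul_smul, mul_inv_cancel_left]⟩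
  · intro a _
    rfl

/-- the product of `f` over an orbit of a `2`-group lies in `Y`, when a member of the family
moves the point -/
theorem orb_prod_mem2 [Finite K] (f : Ω → M)
    (hf : ∀ (h : K) (ω : Ω), f (h • ω) = h • f ω) (Y A : Subgroup M)
    (hY : ∀ (h : K) (y : M), y ∈ Y → h • y ∈ Y) (hfA : ∀ ω, f ω ∈ A)
    (hA2 : ∀ w ∈ A, w * w ∈ Y) (𝓕 : Set (Subgroup K))
    (hF : ∀ E ∈ 𝓕, ∀ w ∈ A, ∀ s ∈ E, (∀ l ∈ E, l • w = w ∨ (s⁻¹ * l) • w = w) → s • w = w) :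
    ∀ (n : ℕ) (L : Subgroup K), Nat.card L = n → IsPGroup 2 L → ∀ (ω : Ω) (E : Subgroup K),
      E ∈ 𝓕 → E ≤ L → (∃ e ∈ E, e • ω ≠ ω) → ∏ ω' ∈ orb L ω, f ω' ∈ Y := by
  intro n
  induction n using Nat.strong_induction_on with
  | _ n ih =>
  intro L hn hL ω E hE hEL hex
  obtain ⟨e, heE, hmove⟩ := hex
  have heL : e ∈ L := hEL heE
  have hSt : (MulAction.stabilizer K ω).subgroupOf L ≠ ⊤ := by
    intro h
    have : (⟨e, heL⟩ : ↥L) ∈ (MulAction.stabilizer K ω).subgroupOf L := h ▸ Subgroup.mem_top _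
    exact hmove (MulAction.mem_stabilizer_iff.mp (Subgroup.mem_subgroupOf.mp this))
  obtain ⟨N, hNn, hNi, hStN⟩ := exists_normal_index_p_of_ne_top hL hSt
  have hL₁L : N.map L.subtype ≤ L := Subgroup.map_subtype_le N
  have hstab : ∀ l ∈ L, l • ω = ω → l ∈ N.map L.subtype := by
    intro l hl hfix
    exact ⟨⟨l, hl⟩, hStN (Subgroup.mem_subgroupOf.mpr (MulAction.mem_stabilizer_iff.mpr hfix)),
      rfl⟩
  have hw : ∏ ω' ∈ orb (N.map L.subtype) ω, f ω' ∈ A := Subgroup.prod_mem _ (fun ω' _ => hfA ω')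
  have hmemN : ∀ (s : K) (hs : s ∈ L), s ∈ N.map L.subtype → (⟨s, hs⟩ : ↥L) ∈ N := by
    rintro s hs ⟨y, hy, hyeq⟩
    have : y = ⟨s, hs⟩ := Subtype.ext hyeq
    rw [← this]; exact hy
  have hcos : ∀ s ∈ L, s ∉ N.map L.subtype →
      (∀ l ∈ L, ∃ i < 2, (s ^ i)⁻¹ * l ∈ N.map L.subtype) ∧
      (∀ i < 2, ∀ j < 2, (s ^ j)⁻¹ * s ^ i ∈ N.map L.subtype → i = j) := by
    intro s hs hsL₁
    have hsN : (⟨s, hs⟩ : ↥L) ∉ N := fun h => hsL₁ ⟨⟨s, hs⟩, h, rfl⟩
    obtain ⟨h1, h2⟩ := coset_decomp_prime N hNi hsN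
    constructor
    · intro l hl
      obtain ⟨i, hi, hmem⟩ := h1 ⟨l, hl⟩
      exact ⟨i, hi, ⟨_, hmem, rfl⟩⟩
    · intro i hi j hj hmem
      apply h2 i hi j hj
      exact hmemN _ (L.mul_mem (L.inv_mem (L.pow_mem hs j)) (L.pow_mem hs i)) hmem
  have hdec : ∀ s ∈ L, s ∉ N.map L.subtype → ∏ ω' ∈ orb L ω, f ω' =
      ∏ i ∈ Finset.range 2, (s ^ i) • (∏ ω' ∈ orb (N.map L.subtype) ω, f ω') := by
    intro s hs hsL₁
    obtain ⟨h1, h2⟩ := hcos s hs hsL₁
    exact orb_decomp f hf hL₁L hs h1 h2 hstab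
  by_cases hEL₁ : E ≤ N.map L.subtype
  · have hex : ∃ s : ↥L, s ∉ N := by
      by_contra hall
      push Not at hall
      have : N = ⊤ := by ext s; simp [hall s]
      rw [this, Subgroup.index_top] at hNi
      exact absurd hNi (by norm_num)
    obtain ⟨s, hs⟩ := hex
    have hsL₁ : (s : K) ∉ N.map L.subtype := fun h => hs (hmemN (s : K) s.2 h)
    have hcard : Nat.card (N.map L.subtype : Subgroup K) < n := by
      rw [← hn]
      exact card_lt_of_lt (lt_of_le_of_ne hL₁L (fun h => hsL₁ (by rw [h]; exact s.2)))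
    have hw' := ih _ hcard (N.map L.subtype) rfl (hL.to_le hL₁L) ω E hE hEL₁ ⟨e, heE, hmove⟩
    rw [hdec (s : K) s.2 hsL₁]
    exact Subgroup.prod_mem _ (fun i _ => hY _ _ hw')
  · obtain ⟨s, hsE, hsL₁⟩ := SetLike.not_le_iff_exists.mp hEL₁
    have hsL : s ∈ L := hEL hsE
    obtain ⟨h1, -⟩ := hcos s hsL hsL₁
    rw [hdec s hsL hsL₁]
    have hfixs : s • (∏ ω' ∈ orb (N.map L.subtype) ω, f ω') =
        ∏ ω' ∈ orb (N.map L.subtype) ω, f ω' := by
      apply hF E hE _ hw s hsE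
      intro l hl
      obtain ⟨i, hi, hmem⟩ := h1 l (hEL hl)
      interval_cases i
      · left
        rw [pow_zero, inv_one, one_mul] at hmem
        exact orb_prod_fixed f hf _ ω hmem
      · right
        rw [pow_one] at hmem
        exact orb_prod_fixed f hf _ ω hmem
    rw [Finset.prod_range_succ, Finset.prod_range_one, pow_zero, one_smul, pow_one, hfixs]
    exact hA2 _ hw

/-- vanishing of the value at the fixed point, from the vanishing of the trace -/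
theorem trace_vanish2 [Finite K] (f : Ω → M)
    (hf : ∀ (h : K) (ω : Ω), f (h • ω) = h • f ω) (Y A : Subgroup M)
    (hY : ∀ (h : K) (y : M), y ∈ Y → h • y ∈ Y) (hfA : ∀ ω, f ω ∈ A)
    (hA2 : ∀ w ∈ A, w * w ∈ Y) (𝓕 : Set (Subgroup K))
    (hF : ∀ E ∈ 𝓕, ∀ w ∈ A, ∀ s ∈ E, (∀ l ∈ E, l • w = w ∨ (s⁻¹ * l) • w = w) → s • w = w)
    (T : Subgroup K) (hT : IsPGroup 2 T) (ω₀ : Ω) (hfix : ∀ t ∈ T, t • ω₀ = ω₀)
    (hmove : ∀ ω : Ω, ω ≠ ω₀ → ∃ E ∈ 𝓕, E ≤ T ∧ ∃ e ∈ E, e • ω ≠ ω)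
    (htr : ∏ ω : Ω, f ω ∈ Y) : f ω₀ ∈ Y := by
  have key : ∀ (k : ℕ) (S : Finset Ω), S.card = k → (∀ ω ∈ S, ω ≠ ω₀) →
      (∀ t ∈ T, ∀ ω ∈ S, t • ω ∈ S) → ∏ ω ∈ S, f ω ∈ Y := by
    intro k
    induction k using Nat.strong_induction_on with
    | _ k ih =>
    intro S hk hne hinv
    rcases S.eq_empty_or_nonempty with rfl | ⟨ω, hω⟩
    · rw [Finset.prod_empty]; exact Y.one_mem
    · obtain ⟨E, hE, hET, hmv⟩ := hmove ω (hne ω hω)
      have hO : orb T ω ⊆ S := by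
        intro ω' hω'
        obtain ⟨t, ht, rfl⟩ := mem_orb.mp hω'
        exact hinv t ht ω hω
      have hOne : (orb T ω).Nonempty := ⟨ω, mem_orb.mpr ⟨1, T.one_mem, one_smul _ _⟩⟩
      have h1 := orb_prod_mem2 f hf Y A hY hfA hA2 𝓕 hF _ T rfl hT ω E hE hET hmv
      have h2 : ∏ ω' ∈ S \ orb T ω, f ω' ∈ Y := by
        apply ih (S \ orb T ω).card (hk ▸ Finset.card_lt_card (Finset.sdiff_ssubset hO hOne)) _ rfl
        · intro ω' hω'; exact hne ω' (Finset.mem_sdiff.mp hω').1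
        · intro t ht ω' hω'
          rw [Finset.mem_sdiff] at hω' ⊢
          refine ⟨hinv t ht ω' hω'.1, fun hmem => hω'.2 ?_⟩
          obtain ⟨l, hl, hl'⟩ := mem_orb.mp hmem
          exact mem_orb.mpr ⟨t⁻¹ * l, T.mul_mem (T.inv_mem ht) hl,
            by rw [mul_smul, hl', inv_smul_smul]⟩
      rw [← Finset.prod_sdiff hO]
      exact Y.mul_mem h2 h1
  have hS := key _ (Finset.univ.erase ω₀) rfl (fun ω hω => Finset.ne_of_mem_erase hω) (by
    intro t ht ω hω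
    rw [Finset.mem_erase] at hω ⊢
    refine ⟨fun h => hω.1 ?_, Finset.mem_univ _⟩
    have : ω = t⁻¹ • ω₀ := by rw [← h, inv_smul_smul]
    rw [this]; exact hfix _ (T.inv_mem ht))
  have hmul := Finset.mul_prod_erase Finset.univ f (Finset.mem_univ ω₀)
  have : f ω₀ = (∏ ω : Ω, f ω) * (∏ ω ∈ Finset.univ.erase ω₀, f ω)⁻¹ := by
    rw [← hmul]; simp
  rw [this]
  exact Y.mul_mem htr (Y.inv_mem hS)

end trace

section trq

open Classical

variable {K : Type*} [Group K] {M : Type*} [CommGroup M] [MulDistribMulAction K M]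

/-- the trace argument for families of subgroups: a point of a `2`-group `M` fixed by a Sylow
`2`-subgroup `T` is fixed by the whole group, when every other point of its orbit is moved by a
member of the family contained in `T`. -/
theorem trq2 [Finite K] [Finite M] (hM : IsPGroup 2 M)
    (T : Subgroup K) (hT : IsPGroup 2 T) (hTi : ¬ 2 ∣ T.index)
    (x : M) (hx : ∀ t ∈ T, t • x = x) (𝓕 : Set (Subgroup K))
    (hF : ∀ E ∈ 𝓕, ∀ w : M, ∀ s ∈ E, (∀ l ∈ E, l • w = w ∨ (s⁻¹ * l) • w = w) → s • w = w)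
    (hmove : ∀ h : K, h • x ≠ x → ∃ E ∈ 𝓕, E ≤ T ∧ ∃ e ∈ E, e • h • x ≠ h • x) :
    ∀ h : K, h • x = x := by
  have hp : (2 : ℕ).Prime := Nat.prime_two
  let _ : Fintype ↥(MulAction.orbit K x) := Fintype.ofFinite _
  set n := Fintype.card ↥(MulAction.orbit K x) with hn
  have hnp : ¬ 2 ∣ n := by
    have h1 : (MulAction.stabilizer K x).index = (MulAction.orbit K x).ncard :=
      MulAction.index_stabilizer K x
    have h2 : n = (MulAction.orbit K x).ncard := by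
      rw [hn, ← Nat.card_eq_fintype_card, Nat.card_coe_set_eq]
    have h3 : T ≤ MulAction.stabilizer K x :=
      fun t ht => MulAction.mem_stabilizer_iff.mpr (hx t ht)
    have h4 : (MulAction.stabilizer K x).index ∣ T.index := Subgroup.index_dvd_of_le h3
    rw [h2, ← h1]
    exact fun h => hTi (h.trans h4)
  have hcop : (Nat.card M).Coprime n := by
    obtain ⟨k, hk⟩ := IsPGroup.iff_card.mp hM
    rw [hk]
    exact Nat.Coprime.pow_left k ((Nat.Prime.coprime_iff_not_dvd hp).mpr hnp)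
  set τ : M := ∏ ω : ↥(MulAction.orbit K x), (ω : M) with hτ
  have hτinv : ∀ h : K, h • τ = τ := by
    intro h
    rw [hτ, Finset.smul_prod']
    exact Equiv.prod_comp (MulAction.toPerm h : Equiv.Perm ↥(MulAction.orbit K x))
      (fun ω => (ω : M))
  obtain ⟨σ, hσ⟩ := hcop.pow_left_bijective.surjective τ
  have hσ' : σ ^ n = τ := hσ
  have hσinv : ∀ h : K, h • σ = σ := by
    intro h
    apply hcop.pow_left_bijective.injective
    show (h • σ) ^ n = σ ^ n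
    rw [← smul_pow', hσ', hτinv]
  let f : ↥(MulAction.orbit K x) → M := fun ω => (ω : M) * σ⁻¹
  have hf : ∀ (h : K) (ω : ↥(MulAction.orbit K x)), f (h • ω) = h • f ω := by
    intro h ω
    show ((h • ω : ↥(MulAction.orbit K x)) : M) * σ⁻¹ = h • ((ω : M) * σ⁻¹)
    rw [smul_mul', smul_inv', hσinv]; rfl
  have htr : ∏ ω : ↥(MulAction.orbit K x), f ω = 1 := by
    show ∏ ω : ↥(MulAction.orbit K x), ((ω : M) * σ⁻¹) = 1
    rw [Finset.prod_mul_distrib, Finset.prod_const, Finset.card_univ, ← hτ, ← hσ', inv_pow,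
      mul_inv_cancel]
  let ω₀ : ↥(MulAction.orbit K x) := ⟨x, MulAction.mem_orbit_self x⟩
  set A : Subgroup M := Subgroup.closure (Set.range f) with hA
  have hAinv : ∀ (h : K) (w : M), w ∈ A → h • w ∈ A := by
    intro h w hw
    induction hw using Subgroup.closure_induction with
    | mem y hy =>
      obtain ⟨ω, rfl⟩ := hy
      rw [← hf]; exact Subgroup.subset_closure ⟨_, rfl⟩
    | one => rw [smul_one]; exact Subgroup.one_mem _
    | mul y z _ _ hy hz => rw [smul_mul']; exact Subgroup.mul_mem _ hy hz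
    | inv y _ hy => rw [smul_inv']; exact Subgroup.inv_mem _ hy
  set Y : Subgroup M := A.map (powMonoidHom 2) with hY
  have hYinv : ∀ (h : K) (y : M), y ∈ Y → h • y ∈ Y := by
    rintro h _ ⟨w, hw, rfl⟩
    exact ⟨h • w, hAinv h w hw, by simp [smul_pow']⟩
  have hfA : ∀ ω, f ω ∈ A := fun ω => Subgroup.subset_closure ⟨ω, rfl⟩
  have hA2 : ∀ w ∈ A, w * w ∈ Y := by
    intro w hw
    exact ⟨w, hw, by simp [pow_two]⟩
  have hfix : ∀ t ∈ T, t • ω₀ = ω₀ := fun t ht => Subtype.ext (hx t ht)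
  have horb : ∀ ω : ↥(MulAction.orbit K x), ∃ h : K, ω = h • ω₀ := by
    intro ω
    obtain ⟨h, hh⟩ := ω.2
    exact ⟨h, Subtype.ext hh.symm⟩
  have hmove' : ∀ ω : ↥(MulAction.orbit K x), ω ≠ ω₀ → ∃ E ∈ 𝓕, E ≤ T ∧ ∃ e ∈ E, e • ω ≠ ω := by
    intro ω hω
    obtain ⟨h, rfl⟩ := horb ω
    have hne : h • x ≠ x := fun hc => hω (Subtype.ext hc)
    obtain ⟨E, hE, hET, e, heE, hmv⟩ := hmove h hne
    exact ⟨E, hE, hET, e, heE, fun hc => hmv (congrArg Subtype.val hc)⟩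
  have ha : f ω₀ ∈ Y :=
    trace_vanish2 f hf Y A hYinv hfA hA2 𝓕 (fun E hE w _ s hs h => hF E hE w s hs h) T hT ω₀ hfix
      hmove' (by rw [htr]; exact Y.one_mem)
  have hAY : A ≤ Y := by
    rw [hA, Subgroup.closure_le]
    rintro _ ⟨ω, rfl⟩
    obtain ⟨h, rfl⟩ := horb ω
    rw [hf]; exact hYinv h _ ha
  have hroot : ∀ (j : ℕ) (w : M), w ∈ A → ∃ u ∈ A, w = u ^ 2 ^ j := by
    intro j
    induction j with
    | zero => intro w hw; exact ⟨w, hw, by simp⟩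
    | succ j ih =>
      intro w hw
      obtain ⟨u, hu, rfl⟩ := ih w hw
      obtain ⟨v, hv, rfl⟩ := hAY hu
      refine ⟨v, hv, ?_⟩
      show (v ^ 2) ^ 2 ^ j = v ^ 2 ^ (j + 1)
      rw [← pow_mul, pow_succ']
  obtain ⟨k, hk⟩ := IsPGroup.iff_card.mp hM
  have ha1 : f ω₀ = 1 := by
    obtain ⟨u, _, hu⟩ := hroot k (f ω₀) (hfA ω₀)
    rw [hu, ← hk]; exact pow_card_eq_one'
  have hxσ : x = σ := by
    have : x * σ⁻¹ = 1 := ha1
    exact mul_inv_eq_one.mp this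
  intro h
  rw [hxσ]; exact hσinv h

end trq

section concrete

variable {G : Type*} [Group G] [Finite G]

/-- the trace argument inside a group, for families of subgroups (`p = 2`) -/
theorem trq2_concrete {H V T : Subgroup G} (hVH : V ≤ H)
    (hVn : H ≤ Subgroup.normalizer (V : Set G)) (hVab : ∀ u ∈ V, ∀ v ∈ V, u * v = v * u)
    (hVp : IsPGroup 2 V) (hT : IsSylIn 2 T H) {x : G} (hxV : x ∈ V)
    (hxT : ∀ t ∈ T, t * x * t⁻¹ = x) (𝓕 : Set (Subgroup G)) (hFH : ∀ E ∈ 𝓕, E ≤ H)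
    (hF : ∀ E ∈ 𝓕, ∀ w ∈ V, ∀ s ∈ E,
      (∀ l ∈ E, l * w * l⁻¹ = w ∨ (s⁻¹ * l) * w * (s⁻¹ * l)⁻¹ = w) → s * w * s⁻¹ = w)
    (hmove : ∀ h ∈ H, h * x * h⁻¹ ≠ x →
      ∃ E ∈ 𝓕, E ≤ T ∧ ∃ e ∈ E, e * (h * x * h⁻¹) * e⁻¹ ≠ h * x * h⁻¹) :
    ∀ h ∈ H, h * x * h⁻¹ = x := by
  have hN : (V.subgroupOf H).Normal :=
    (Subgroup.normal_subgroupOf_iff_le_normalizer hVH).mpr hVn
  let _ : CommGroup ↥(V.subgroupOf H) :=
    { (inferInstance : Group ↥(V.subgroupOf H)) with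
      mul_comm := fun a b => Subtype.ext (Subtype.ext (hVab _ a.2 _ b.2)) }
  let _ : MulDistribMulAction ↥H ↥(V.subgroupOf H) :=
    MulDistribMulAction.compHom ↥(V.subgroupOf H) (MulAut.conjNormal (H := V.subgroupOf H))
  have hsm : ∀ (h : ↥H) (m : ↥(V.subgroupOf H)),
      (((h • m : ↥(V.subgroupOf H)) : ↥H) : G) = (h : G) * ((m : ↥H) : G) * (h : G)⁻¹ := by
    intro h m
    rfl
  have hMp : IsPGroup 2 ↥(V.subgroupOf H) := hVp.comap_subtype
  have hTp : IsPGroup 2 ↥(T.subgroupOf H) := hT.2.1.comap_subtype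
  have hTi : ¬ 2 ∣ (T.subgroupOf H).index := hT.2.2
  let x' : ↥(V.subgroupOf H) := ⟨⟨x, hVH hxV⟩, hxV⟩
  have key := trq2 hMp (T.subgroupOf H) hTp hTi x' ?_
    {E' : Subgroup ↥H | ∃ E ∈ 𝓕, E' = E.subgroupOf H} ?_ ?_
  · intro h hh
    have h2 := congrArg (fun m : ↥(V.subgroupOf H) => ((m : ↥H) : G)) (key ⟨h, hh⟩)
    exact h2
  · intro t ht
    apply Subtype.ext; apply Subtype.ext
    rw [hsm]
    exact hxT _ (Subgroup.mem_subgroupOf.mp ht)
  · rintro _ ⟨E, hE, rfl⟩ w s hs hall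
    apply Subtype.ext; apply Subtype.ext
    rw [hsm]
    apply hF E hE _ w.2 _ (Subgroup.mem_subgroupOf.mp hs)
    intro l hl
    rcases hall ⟨l, hFH E hE hl⟩ (Subgroup.mem_subgroupOf.mpr hl) with h1 | h1
    · left
      have h2 := congrArg (fun m : ↥(V.subgroupOf H) => ((m : ↥H) : G)) h1
      exact h2
    · right
      have h2 := congrArg (fun m : ↥(V.subgroupOf H) => ((m : ↥H) : G)) h1
      exact h2
  · intro h hne
    have hne' : (h : G) * x * (h : G)⁻¹ ≠ x := by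
      intro hc
      apply hne
      apply Subtype.ext; apply Subtype.ext
      rw [hsm]; exact hc
    obtain ⟨E, hE, hET, e, heE, hmv⟩ := hmove _ h.2 hne'
    refine ⟨E.subgroupOf H, ⟨E, hE, rfl⟩, ?_, ⟨e, hFH E hE heE⟩, Subgroup.mem_subgroupOf.mpr heE, ?_⟩
    · intro y hy
      exact Subgroup.mem_subgroupOf.mpr (hET (Subgroup.mem_subgroupOf.mp hy))
    · intro hc
      apply hmv
      have h2 := congrArg (fun m : ↥(V.subgroupOf H) => ((m : ↥H) : G)) hc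
      exact h2

end concrete

end Cfsg.Agent.Lib.Helper3.WC
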