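import Mathlib
import Cfsg.Agent.Lib.Helper3.WC4
import Cfsg.Agent.Lib.Helper2.JZ

set_option autoImplicit false

/-!
# The Thompson subgroup (abelian version) as a conjugacy functor; quadratic elements (helper3)
-/

namespace Cfsg.Agent.Lib.Helper3.WC

open Cfsg Cfsg.Agent.Lib.Helper42 Cfsg.Agent.Lib.Helper59 Cfsg.Agent.Lib.Helper2
open scoped commutatorElement

section maxab

variable {G : Type*} [Group G]

theorem comm_sup {A D : Subgroup G} (hAc : ∀ a ∈ A, ∀ a' ∈ A, a * a' = a' * a)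
    (hDc : ∀ d ∈ D, ∀ d' ∈ D, d * d' = d' * d) (h : ∀ d ∈ D, ∀ a ∈ A, d * a = a * d) :
    IsMulCommutative (A ⊔ D : Subgroup G) := by
  have e : A ⊔ D = Subgroup.closure ((A : Set G) ∪ (D : Set G)) := by
    rw [Subgroup.closure_union, Subgroup.closure_eq, Subgroup.closure_eq]
  rw [e]
  apply Subgroup.isMulCommutative_closure
  intro x hx y hy
  rcases hx with hx | hx <;> rcases hy with hy | hy
  · exact hAc x hx y hy
  · exact (h y hy x hx).symm
  · exact h x hx y hy
  · exact hDc x hx y hy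

theorem le_of_maxAb_comm [Finite G] {T A D : Subgroup G} (hA : MaxAb T A) (hDT : D ≤ T)
    (hDc : ∀ d ∈ D, ∀ d' ∈ D, d * d' = d' * d) (h : ∀ d ∈ D, ∀ a ∈ A, d * a = a * d) : D ≤ A := by
  have hAc := mul_comm_of_isMulCommutative hA.2.1
  have hc := comm_sup hAc hDc h
  have hcard := hA.2.2 (A ⊔ D) (sup_le hA.1 hDT) hc
  have : A = A ⊔ D := Subgroup.eq_of_le_of_card_ge le_sup_left hcard
  rw [this]; exact le_sup_right

theorem normalizer_JJ_of_all_le [Finite G] {H T R : Subgroup G} (hRT : R ≤ T)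
    (hRn : H ≤ Subgroup.normalizer (R : Set G)) (hall : ∀ A, MaxAb T A → A ≤ R) :
    H ≤ Subgroup.normalizer (JJ T : Set G) := by
  have e : JJ T = JJ R := by
    unfold JJ
    congr 1
    ext A
    constructor
    · intro hA
      exact ⟨hall A hA, hA.2.1, fun B hB hBc => hA.2.2 B (hB.trans hRT) hBc⟩
    · intro hA
      obtain ⟨A₀, hA₀⟩ := exists_maxAb T
      exact ⟨hA.1.trans hRT, hA.2.1, fun B hB hBc =>
        (hA₀.2.2 B hB hBc).trans (hA.2.2 A₀ (hall A₀ hA₀) hA₀.2.1)⟩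
  rw [e]
  intro h hh
  exact mem_normalizer_JJ (hRn hh)

theorem isConjugacyFunctor_thompsonA [Finite G] (p : ℕ) :
    Cfsg.IsConjugacyFunctor (G := G) p (fun P => Cfsg.thompsonSubgroupAOf P) := by
  intro P _
  refine ⟨?_, ?_, ?_⟩
  · show thompsonSubgroupAOf P ≤ P
    rw [thompsonSubgroupAOf_eq_JJ]; exact JJ_le P
  · intro hne
    show thompsonSubgroupAOf P ≠ ⊥
    rw [thompsonSubgroupAOf_eq_JJ]; exact JJ_ne_bot P hne
  · intro g
    show thompsonSubgroupAOf (P.map (MulAut.conj g).toMonoidHom) =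
      (thompsonSubgroupAOf P).map (MulAut.conj g).toMonoidHom
    rw [thompsonSubgroupAOf_eq_JJ, thompsonSubgroupAOf_eq_JJ]
    exact (map_conj_JJ g P).symm

theorem center_le_thompsonA [Finite G] (P : Subgroup G) :
    P ⊓ Subgroup.centralizer (P : Set G) ≤ Cfsg.thompsonSubgroupAOf P := by
  obtain ⟨A, hA⟩ := exists_maxAb P
  rw [thompsonSubgroupAOf_eq_JJ]
  refine le_trans ?_ (le_JJ hA)
  apply le_of_maxAb_comm hA inf_le_left
  · intro d hd d' hd'
    exact (Subgroup.mem_centralizer_iff.mp hd'.2) d hd.1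
  · intro d hd a ha
    exact ((Subgroup.mem_centralizer_iff.mp hd.2) a (hA.1 ha)).symm

/-- quadratic elements for the Thompson subgroup: the hypothesis of the weak closure theorems -/
theorem hloc_thompsonA [Finite G] {p : ℕ} [Fact p.Prime] (H T : Subgroup G) (hTH : T ≤ H)
    (hTp : IsPGroup p ↥T) (hidx : ¬ p ∣ T.relIndex H)
    (hnn : ¬ H ≤ Subgroup.normalizer ((Cfsg.thompsonSubgroupAOf T : Subgroup G) : Set G)) :
    ∃ g : G, g ∈ T ∧ g ∉ Cfsg.pCoreOf p H ∧
      ⁅⁅Cfsg.pCoreOf p H ⊓ Subgroup.centralizer ((Cfsg.pCoreOf p H : Subgroup G) : Set G),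
        Subgroup.zpowers g⁆, Subgroup.zpowers g⁆ = ⊥ := by
  have hT : IsSylIn p T H := ⟨hTH, hTp, hidx⟩
  set R := Cfsg.pCoreOf p H with hR
  have hRT : R ≤ T := hT.normal_le (pCoreOf_le p H) (isPGroup_pCoreOf p H) (le_normalizer_pCoreOf p H)
  set V := R ⊓ Subgroup.centralizer (R : Set G) with hV
  have hVab : ∀ u ∈ V, ∀ v ∈ V, u * v = v * u := by
    intro u hu v hv
    exact (Subgroup.mem_centralizer_iff.mp hv.2) u hu.1
  have hRC : R ≤ Subgroup.centralizer (V : Set G) := by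
    intro r hr
    rw [Subgroup.mem_centralizer_iff]
    intro v hv
    exact ((Subgroup.mem_centralizer_iff.mp hv.2) r hr).symm
  have hVT : V ≤ T := inf_le_left.trans hRT
  have hVn : ∀ x ∈ H, cj x V = V := by
    intro x hx
    rw [hV, cj_inf, ← centralizer_cj, cj_eq_of_mem_normalizer (le_normalizer_pCoreOf p H hx)]
  have hTV : T ≤ Subgroup.normalizer (V : Set G) := fun t ht => cj_eq_self_iff.mp (hVn t (hTH ht))
  rw [thompsonSubgroupAOf_eq_JJ] at hnn
  by_cases hα : ∃ A, MaxAb T A ∧ ¬ A ≤ Subgroup.centralizer (V : Set G)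
  · obtain ⟨A₀, hA₀, hne⟩ := hα
    obtain ⟨A, hA, hAc, hVA⟩ := exists_maxAb_normalized T V hTp hVT
      (isMulCommutative_of_mul_comm hVab) hTV A₀ hA₀ hne
    obtain ⟨g, hgA, hgC⟩ := SetLike.not_le_iff_exists.mp hAc
    refine ⟨g, hA.1 hgA, fun hgR => hgC (hRC hgR), ?_⟩
    have hAab := mul_comm_of_isMulCommutative hA.2.1
    have h1 : ⁅V, Subgroup.zpowers g⁆ ≤ A := by
      rw [Subgroup.commutator_le]
      intro v hv z hz
      have hzA : z ∈ A := (Subgroup.zpowers_le.mpr hgA) hz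
      have : ⁅v, z⁆ = (v * z * v⁻¹) * z⁻¹ := by rw [commutatorElement_def]
      rw [this]
      exact A.mul_mem ((Subgroup.mem_normalizer_iff.mp (hVA hv) z).mp hzA) (A.inv_mem hzA)
    have h2 : ⁅A, A⁆ = ⊥ := by
      rw [Subgroup.commutator_eq_bot_iff_le_centralizer]
      intro a ha
      rw [Subgroup.mem_centralizer_iff]
      intro b hb
      exact hAab b hb a ha
    rw [← le_bot_iff, ← h2]
    exact Subgroup.commutator_mono h1 (Subgroup.zpowers_le.mpr hgA)
  · push Not at hα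
    have hex : ∃ A, MaxAb T A ∧ ¬ A ≤ R := by
      by_contra hcon
      push Not at hcon
      exact hnn (normalizer_JJ_of_all_le hRT (le_normalizer_pCoreOf p H) hcon)
    obtain ⟨A, hA, hAR⟩ := hex
    obtain ⟨g, hgA, hgR⟩ := SetLike.not_le_iff_exists.mp hAR
    refine ⟨g, hA.1 hgA, hgR, ?_⟩
    have h1 : ⁅V, Subgroup.zpowers g⁆ = ⊥ := by
      rw [Subgroup.commutator_eq_bot_iff_le_centralizer]
      intro v hv
      rw [Subgroup.mem_centralizer_iff]
      intro z hz
      obtain ⟨i, rfl⟩ := Subgroup.mem_zpowers_iff.mp hz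
      have hgc := (Subgroup.mem_centralizer_iff.mp (hα A hA hgA)) v hv
      exact ((Commute.zpow_left (show Commute g v from hgc.symm) i).eq)
    rw [h1, Subgroup.commutator_bot_left]

end maxab

section wrapper

variable {G : Type*} [Group G] [Finite G]

/-- the transvection lemma inside a subgroup `H` of `G` -/
theorem transv_in (hnS4 : ¬ Involves (Equiv.Perm (Fin 4)) G) {H T V V₀ : Subgroup G} {a : G}
    (hT : IsSylIn 2 T H) (hVH : V ≤ H) (hVn : H ≤ Subgroup.normalizer (V : Set G))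
    (hVab : ∀ u ∈ V, ∀ v ∈ V, u * v = v * u) (hVp : IsPGroup 2 V)
    (hV₀ : V₀ ≤ V) (hidx : Nat.card V ≤ 2 * Nat.card V₀) (haH : a ∈ H)
    (haV₀ : ∀ v ∈ V₀, a * v = v * a) (ha2 : a ^ 2 ∈ Subgroup.centralizer (V : Set G)) :
    ∃ N : Subgroup G, N ≤ H ∧ H ≤ Subgroup.normalizer (N : Set G) ∧ a ∈ N ∧
      N ≤ T ⊔ (H ⊓ Subgroup.centralizer (V : Set G)) := by
  have hN : (V.subgroupOf H).Normal :=
    (Subgroup.normal_subgroupOf_iff_le_normalizer hVH).mpr hVn
  have hnS4' : ¬ Involves (Equiv.Perm (Fin 4)) ↥H := fun h => hnS4 (involves_of_subgroup H h)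
  have hcV : Nat.card (V.subgroupOf H) = Nat.card V :=
    Nat.card_congr (Subgroup.subgroupOfEquivOfLe hVH).toEquiv
  have hcV₀ : Nat.card (V₀.subgroupOf H) = Nat.card V₀ :=
    Nat.card_congr (Subgroup.subgroupOfEquivOfLe (hV₀.trans hVH)).toEquiv
  obtain ⟨N', hN'n, haN', hCN', hTN'⟩ := transv_normal (V.subgroupOf H) (V₀.subgroupOf H)
    (fun u hu v hv => Subtype.ext (hVab _ hu _ hv)) hVp.comap_subtype
    (fun x hx => Subgroup.mem_subgroupOf.mpr (hV₀ (Subgroup.mem_subgroupOf.mp hx)))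
    (by rw [hcV, hcV₀]; exact hidx) ⟨a, haH⟩
    (fun v hv => Subtype.ext (haV₀ _ (Subgroup.mem_subgroupOf.mp hv)))
    (by
      rw [Subgroup.mem_centralizer_iff]
      intro v hv
      apply Subtype.ext
      have := (Subgroup.mem_centralizer_iff.mp ha2) (v : G) (Subgroup.mem_subgroupOf.mp hv)
      simpa using this) hnS4'
  refine ⟨N'.map H.subtype, Subgroup.map_subtype_le _, ?_, ⟨⟨a, haH⟩, haN', rfl⟩, ?_⟩
  · apply le_normalizer_of_conj_mem
    rintro x hx _ ⟨n, hn, rfl⟩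
    exact ⟨⟨x, hx⟩ * n * ⟨x, hx⟩⁻¹, hN'n.conj_mem n hn _, rfl⟩
  · have hT' : IsSylIn 2 (T.subgroupOf H) ⊤ := by
      refine ⟨le_top, hT.2.1.comap_subtype, ?_⟩
      rw [Subgroup.relIndex_top_right]
      exact hT.2.2
    have h2 : (T.subgroupOf H ⊔ Subgroup.centralizer
        ((V.subgroupOf H : Subgroup ↥H) : Set ↥H)).map H.subtype ≤
        T ⊔ (H ⊓ Subgroup.centralizer (V : Set G)) := by
      rw [Subgroup.map_sup]
      apply sup_le_sup
      · rw [Subgroup.map_subgroupOf_eq_of_le hT.1]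
      · rintro _ ⟨c, hc, rfl⟩
        refine Subgroup.mem_inf.mpr ⟨c.2, ?_⟩
        rw [Subgroup.mem_centralizer_iff]
        intro v hv
        have := (Subgroup.mem_centralizer_iff.mp hc) ⟨v, hVH hv⟩ (Subgroup.mem_subgroupOf.mpr hv)
        exact congrArg Subtype.val this
    rintro _ ⟨n, hn, rfl⟩
    exact h2 ⟨n, hTN' _ hT' hn, rfl⟩

set_option maxHeartbeats 1000000 in
/-- **no orbits of length two**: a largest abelian subgroup `A` of `T` normalized by `V`, with
`|A ∩ V|` as large as possible among those not centralizing `V`, fixes every element of `V`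
fixed by a subgroup of index at most two of `A` (if `S₄` is not involved). -/
theorem no_two_orbit (hnS4 : ¬ Involves (Equiv.Perm (Fin 4)) G) {H T V A : Subgroup G}
    (hT : IsSylIn 2 T H) (hVT : V ≤ T) (hVn : H ≤ Subgroup.normalizer (V : Set G))
    (hVab : ∀ u ∈ V, ∀ v ∈ V, u * v = v * u) (hVp : IsPGroup 2 V)
    (hO : ∀ N : Subgroup G, N ≤ H → H ≤ Subgroup.normalizer (N : Set G) →
      N ≤ T ⊔ (H ⊓ Subgroup.centralizer (V : Set G)) →
      T ⊓ N ≤ Subgroup.centralizer (V : Set G))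
    (hA : MaxAb T A) (hVA : V ≤ Subgroup.normalizer (A : Set G))
    (hmax : ∀ B : Subgroup G, MaxAb T B → ¬ B ≤ Subgroup.centralizer (V : Set G) →
      V ≤ Subgroup.normalizer (B : Set G) →
      Nat.card (B ⊓ V : Subgroup G) ≤ Nat.card (A ⊓ V : Subgroup G))
    {w s : G} (hw : w ∈ V) (hs : s ∈ A)
    (hall : ∀ l ∈ A, l * w * l⁻¹ = w ∨ (s⁻¹ * l) * w * (s⁻¹ * l)⁻¹ = w) : s * w * s⁻¹ = w := by
  by_contra hsw
  have hAc := mul_comm_of_isMulCommutative hA.2.1
  have hwT : w ∈ T := hVT hw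
  have hwA : w ∉ A := fun h => hsw (by rw [hAc s hs w h]; group)
  set F : Subgroup G := Subgroup.centralizer ({w} : Set G) with hF
  have hmemF : ∀ l : G, l ∈ F ↔ l * w * l⁻¹ = w := by
    intro l
    rw [hF, Subgroup.mem_centralizer_iff]
    constructor
    · intro h
      have := h w rfl
      rw [← this]; group
    · intro h x hx
      rw [Set.mem_singleton_iff.mp hx]
      calc w * l = (l * w * l⁻¹) * l := by rw [h]
        _ = l * w := by group
  set A₀ := A ⊓ F with hA₀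
  have hA₀A : A₀ ≤ A := inf_le_left
  set Z := Subgroup.zpowers w with hZ
  have hcomm : ∀ d ∈ Z, ∀ a ∈ A₀, d * a = a * d := by
    intro d hd a ha
    obtain ⟨i, rfl⟩ := Subgroup.mem_zpowers_iff.mp hd
    have h1 : Commute a w := by
      have := (hmemF a).mp ha.2
      show a * w = w * a
      calc a * w = (a * w * a⁻¹) * a := by group
        _ = w * a := by rw [this]
    exact ((h1.zpow_right i).eq).symm
  have hAZ : A₀ ≤ Subgroup.normalizer (Z : Set G) := by
    intro a ha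
    apply conj_mem_imp_mem_normalizer
    intro d hd
    have := hcomm d hd a ha
    have e : a * d * a⁻¹ = d := by rw [← this]; group
    rw [e]; exact hd
  set Astar := A₀ ⊔ Z with hAstar
  have hAsc : IsMulCommutative Astar :=
    comm_sup (fun a ha a' ha' => hAc a ha.1 a' ha'.1)
      (fun d hd d' hd' => by
        obtain ⟨i, rfl⟩ := Subgroup.mem_zpowers_iff.mp hd
        obtain ⟨j, rfl⟩ := Subgroup.mem_zpowers_iff.mp hd'
        exact (Commute.zpow_zpow_self w i j).eq) hcomm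
  have hAsT : Astar ≤ T := sup_le (hA₀A.trans hA.1) (Subgroup.zpowers_le.mpr hwT)
  have hc1 : Nat.card Astar ≤ Nat.card A := hA.2.2 Astar hAsT hAsc
  have hc2 : Nat.card A ≤ 2 * Nat.card A₀ := by
    have hsub : (A : Set G) ⊆ (A₀ : Set G) ∪ (fun l => s * l) '' (A₀ : Set G) := by
      intro l hl
      rcases hall l hl with h | h
      · left; exact ⟨hl, (hmemF l).mpr h⟩
      · right
        exact ⟨s⁻¹ * l, ⟨A.mul_mem (A.inv_mem hs) hl, (hmemF _).mpr h⟩, by group⟩
    have h1 : (A : Set G).ncard ≤ ((A₀ : Set G) ∪ (fun l => s * l) '' (A₀ : Set G)).ncard :=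
      Set.ncard_le_ncard hsub (Set.toFinite _)
    have h2 := Set.ncard_union_le (A₀ : Set G) ((fun l => s * l) '' (A₀ : Set G))
    have h3 := Set.ncard_image_le (f := fun l => s * l) (s := (A₀ : Set G)) (Set.toFinite _)
    have e1 : Nat.card A = (A : Set G).ncard := Nat.card_coe_set_eq (A : Set G)
    have e2 : Nat.card A₀ = (A₀ : Set G).ncard := Nat.card_coe_set_eq (A₀ : Set G)
    omega
  have hlt : A₀ < Astar := by
    refine lt_of_le_of_ne le_sup_left ?_
    intro h
    have : w ∈ A₀ := h ▸ (Subgroup.mem_sup_right (Subgroup.mem_zpowers w))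
    exact hwA this.1
  have hrel : Nat.card A₀ * A₀.relIndex Astar = Nat.card Astar := by
    have := Subgroup.relIndex_mul_relIndex ⊥ A₀ Astar bot_le hlt.le
    rwa [Subgroup.relIndex_bot_left, Subgroup.relIndex_bot_left] at this
  have hrel2 : 2 ≤ A₀.relIndex Astar := by
    have h0 : A₀.relIndex Astar ≠ 0 := by
      intro h0
      rw [h0, mul_zero] at hrel
      exact (Nat.card_pos (α := Astar)).ne' hrel.symm
    have h1 : A₀.relIndex Astar ≠ 1 := by
      intro h1
      exact (not_le_of_gt hlt) (Subgroup.relIndex_eq_one.mp h1)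
    omega
  have hpos : 0 < Nat.card A₀ := Nat.card_pos
  have hc3 : 2 * Nat.card A₀ ≤ Nat.card Astar := by
    rw [← hrel]; nlinarith
  have hcA : Nat.card Astar = Nat.card A := by omega
  have hrel_eq : A₀.relIndex Astar = 2 := by
    have : Nat.card A₀ * A₀.relIndex Astar = Nat.card A₀ * 2 := by rw [hrel]; omega
    exact Nat.eq_of_mul_eq_mul_left hpos this
  have hAsMax : MaxAb T Astar := ⟨hAsT, hAsc, fun B hB hBc => (hA.2.2 B hB hBc).trans hcA.ge⟩
  have hVAs : V ≤ Subgroup.normalizer (Astar : Set G) := by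
    intro v hv
    apply conj_mem_imp_mem_normalizer
    intro a ha
    obtain ⟨u, hu, o, ho, rfl⟩ := mem_sup_of_le_normalizer hAZ ha
    have h1 : v * u * v⁻¹ ∈ A₀ := by
      refine Subgroup.mem_inf.mpr ⟨(Subgroup.mem_normalizer_iff.mp (hVA hv) u).mp hu.1,
        (hmemF _).mpr ?_⟩
      have hvw : v * w = w * v := hVab v hv w hw
      have huw := (hmemF u).mp hu.2
      have e1 : v⁻¹ * w * v = w := by
        calc v⁻¹ * w * v = v⁻¹ * (w * v) := by group
          _ = v⁻¹ * (v * w) := by rw [hvw]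
          _ = w := by group
      calc v * u * v⁻¹ * w * (v * u * v⁻¹)⁻¹ = v * (u * (v⁻¹ * w * v) * u⁻¹) * v⁻¹ := by group
        _ = v * w * v⁻¹ := by rw [e1, huw]
        _ = w := by rw [hvw]; group
    have h2 : v * o * v⁻¹ = o := by
      obtain ⟨i, rfl⟩ := Subgroup.mem_zpowers_iff.mp ho
      have : Commute v (w ^ i) := (show Commute v w from hVab v hv w hw).zpow_right i
      rw [this.eq]; group
    have e : v * (u * o) * v⁻¹ = (v * u * v⁻¹) * (v * o * v⁻¹) := by group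
    rw [e, h2]
    exact Subgroup.mul_mem _ (Subgroup.mem_sup_left h1) (Subgroup.mem_sup_right ho)
  have hAVle : A ⊓ V ≤ Astar ⊓ V := by
    intro l hl
    refine ⟨Subgroup.mem_sup_left ⟨hl.1, (hmemF l).mpr ?_⟩, hl.2⟩
    rw [hVab l hl.2 w hw]; group
  have hcardlt : Nat.card (A ⊓ V : Subgroup G) < Nat.card (Astar ⊓ V : Subgroup G) :=
    card_lt_of_lt_mem hAVle (y := w) ⟨Subgroup.mem_sup_right (Subgroup.mem_zpowers w), hw⟩
      (fun h => hwA h.1)
  have hAsC : Astar ≤ Subgroup.centralizer (V : Set G) := by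
    by_contra h
    exact absurd (hmax Astar hAsMax h hVAs) (not_le.mpr hcardlt)
  have hVAstar : V ≤ Astar := le_of_maxAb_comm hAsMax hVT hVab
    (fun d hd a ha => (Subgroup.mem_centralizer_iff.mp (hAsC ha)) d hd)
  have hsV₀ : ∀ v ∈ V ⊓ A, s * v = v * s := fun v hv => hAc s hs v hv.2
  have hidx : Nat.card V ≤ 2 * Nat.card (V ⊓ A : Subgroup G) := by
    have h1 : (A₀ ⊓ V).relIndex V = A₀.relIndex V := Subgroup.inf_relIndex_right A₀ V
    have h2 : A₀.relIndex V ≤ A₀.relIndex Astar :=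
      Subgroup.relIndex_le_of_le_right hVAstar (by rw [hrel_eq]; norm_num)
    have h3 : A₀ ⊓ V ≤ V ⊓ A := fun l hl => ⟨hl.2, hl.1.1⟩
    have h4 : Nat.card (A₀ ⊓ V : Subgroup G) * (A₀ ⊓ V).relIndex V = Nat.card V := by
      have := Subgroup.relIndex_mul_relIndex ⊥ (A₀ ⊓ V) V bot_le inf_le_right
      rwa [Subgroup.relIndex_bot_left, Subgroup.relIndex_bot_left] at this
    have h5 : Nat.card (A₀ ⊓ V : Subgroup G) ≤ Nat.card (V ⊓ A : Subgroup G) :=
      Subgroup.card_le_of_le h3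
    rw [h1] at h4
    rw [hrel_eq] at h2
    have h6 : Nat.card (A₀ ⊓ V : Subgroup G) * A₀.relIndex V ≤
        Nat.card (A₀ ⊓ V : Subgroup G) * 2 := Nat.mul_le_mul_left _ h2
    omega
  have hs2 : s ^ 2 ∈ Subgroup.centralizer (V : Set G) := by
    have hs2w : (s ^ 2) * w * (s ^ 2)⁻¹ = w := by
      rcases hall (s ^ 2) (A.pow_mem hs 2) with h | h
      · exact h
      · exfalso
        apply hsw
        have e : s⁻¹ * s ^ 2 = s := by rw [pow_two]; group
        rwa [e] at h
    rw [Subgroup.mem_centralizer_iff]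
    intro v hv
    obtain ⟨u, hu, o, ho, rfl⟩ := mem_sup_of_le_normalizer hAZ (hVAstar hv)
    have h1 : Commute (s ^ 2) u := (show Commute s u from hAc s hs u hu.1).pow_left 2
    have h2 : Commute (s ^ 2) o := by
      obtain ⟨i, rfl⟩ := Subgroup.mem_zpowers_iff.mp ho
      have : Commute (s ^ 2) w := by
        show s ^ 2 * w = w * s ^ 2
        calc s ^ 2 * w = (s ^ 2 * w * (s ^ 2)⁻¹) * s ^ 2 := by group
          _ = w * s ^ 2 := by rw [hs2w]
      exact this.zpow_right i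
    exact ((h1.mul_right h2).eq).symm
  obtain ⟨N, hNH, hNn, hsN, hNle⟩ := transv_in hnS4 hT (hVT.trans hT.1) hVn hVab hVp
    inf_le_left hidx (hT.1 (hA.1 hs)) hsV₀ hs2
  have hsC : s ∈ Subgroup.centralizer (V : Set G) := hO N hNH hNn hNle ⟨hA.1 hs, hsN⟩
  apply hsw
  have := (Subgroup.mem_centralizer_iff.mp hsC) w hw
  rw [← this]; group

end wrapper

end Cfsg.Agent.Lib.Helper3.WC
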