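import Mathlib
import Cfsg.Agent.Lib.Helper3.SC1
import Cfsg.Agent.Lib.Helper3.WC5
import Cfsg.Agent.Lib.Helper42.Fusion6

/-!
# Local control at subgroups containing the centre of the Sylow subgroup (helper3)

* `wp_local_control_Z`, `wp_global_fac_Z`: the well-placed local-to-global principle of helper42
  where local control is only required in the normalizers of well-placed subgroups containing
  `Z(S)` (non-centric subgroups are handled by the Frattini argument).
* `sl2Free_normalizer`: transport of the hypothesis "no section of a subgroup of `N` is `SL₂(p)`".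
* `zjA_conj_of_local_sl2Free`: conjugacy of elements is controlled by `N(Z(J(S)))`.
-/

set_option autoImplicit false

namespace Cfsg.Agent.Lib.Helper3.ZJ

open Cfsg
open Cfsg.Agent.Lib.Helper26
open Cfsg.Agent.Lib.Helper42
open scoped commutatorElement

universe u

section wp

variable {G : Type u} [Group G]

theorem wp_local_control_Z [Finite G] {p : ℕ} [Fact p.Prime] (S : Sylow p G)
    {W : Subgroup G → Subgroup G} (hW : IsConjugacyFunctor p W) (Z : Subgroup G)
    (hZW : ∀ R : Subgroup G, R ≤ (S : Subgroup G) → Z ≤ R → Z ≤ W R)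
    (hloc : ∀ T : Subgroup G, T ≠ ⊥ → Z ≤ T → IsWellPlaced p W (S : Subgroup G) T →
      ControlsStrongFusionIn p W (Subgroup.normalizer ((T : Subgroup G) : Set G))) :
    ∀ U : Subgroup G, U ≠ ⊥ → Z ≤ U → IsWellPlaced p W (S : Subgroup G) U →
      ∀ y ∈ Subgroup.normalizer (U : Set G), ∀ B : Subgroup G,
        B ≤ (S : Subgroup G) ⊓ Subgroup.normalizer (U : Set G) →
        cj y B ≤ (S : Subgroup G) ⊓ Subgroup.normalizer (U : Set G) →
        Fac (Subgroup.normalizer ((W (S : Subgroup G) : Subgroup G) : Set G)) B y := by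
  intro U
  induction' hn : Nat.card (S : Subgroup G) -
    Nat.card ((S : Subgroup G) ⊓ Subgroup.normalizer (U : Set G) : Subgroup G)
    using Nat.strong_induction_on with n ih generalizing U
  intro hne hZU hU y hy B hB hBy
  have hsyl := IsWellPlaced.isSylIn S.isPGroup' hU 0
  have hsyl' : IsSylIn p ((S : Subgroup G) ⊓ Subgroup.normalizer (U : Set G))
      (Subgroup.normalizer (U : Set G)) := hsyl
  have h1 := controlsStrongFusionIn_fac hW hsyl' (hloc U hne hZU hU) hy hB hBy
  obtain ⟨y₁, hy₁, hcj, c₁, hc₁, rfl⟩ := h1.cj_eq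
  by_cases hRS : (S : Subgroup G) ⊓ Subgroup.normalizer (U : Set G) = (S : Subgroup G)
  · rw [hRS] at hy₁
    exact (Fac.of_mem hy₁.2).mul_right hc₁
  · have hR_le : (S : Subgroup G) ⊓ Subgroup.normalizer (U : Set G) ≤
        (S : Subgroup G) ⊓ Subgroup.normalizer
          ((W ((S : Subgroup G) ⊓ Subgroup.normalizer (U : Set G)) : Subgroup G) : Set G) :=
      le_inf inf_le_left
        (Subgroup.le_normalizer.trans (conjFunctor_normalizer_le hW S.isPGroup'.to_inf_left))
    have hlt := card_lt_card_inf_normalizer S.isPGroup' inf_le_left hRS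
    have hle : Nat.card ((S : Subgroup G) ⊓ Subgroup.normalizer
        (((S : Subgroup G) ⊓ Subgroup.normalizer (U : Set G) : Subgroup G) : Set G) : Subgroup G) ≤
        Nat.card ((S : Subgroup G) ⊓ Subgroup.normalizer
          ((W ((S : Subgroup G) ⊓ Subgroup.normalizer (U : Set G)) : Subgroup G) : Set G) :
            Subgroup G) :=
      Subgroup.card_le_of_le (inf_le_inf_left _
        (conjFunctor_normalizer_le hW S.isPGroup'.to_inf_left))
    have hle2 : Nat.card ((S : Subgroup G) ⊓ Subgroup.normalizer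
          ((W ((S : Subgroup G) ⊓ Subgroup.normalizer (U : Set G)) : Subgroup G) : Set G) :
            Subgroup G) ≤
        Nat.card (S : Subgroup G) := Subgroup.card_le_of_le inf_le_left
    have hU₁ := wellPlaced_succ hW S.isPGroup' hU
    have hRne : (S : Subgroup G) ⊓ Subgroup.normalizer (U : Set G) ≠ ⊥ := by
      intro h0
      apply hne
      have : U ≤ (S : Subgroup G) ⊓ Subgroup.normalizer (U : Set G) :=
        le_inf hU.1 Subgroup.le_normalizer
      rw [h0] at this
      exact le_bot_iff.mp this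
    have hU₁ne := conjFunctor_ne_bot hW S.isPGroup'.to_inf_left hRne
    have hZU₁ : Z ≤ W ((S : Subgroup G) ⊓ Subgroup.normalizer (U : Set G)) :=
      hZW _ inf_le_left (le_inf (hZU.trans hU.1) (hZU.trans Subgroup.le_normalizer))
    have h2 := ih _ (by omega) _ rfl hU₁ne hZU₁ hU₁ y₁ hy₁.2 B (hB.trans hR_le)
      (by rw [← hcj]; exact hBy.trans hR_le)
    exact h2.mul_right hc₁

/-- local control in normalizers of well-placed subgroups containing `Z(S)` gives global
control. -/
theorem wp_global_fac_Z [Finite G] {p : ℕ} [Fact p.Prime] (S : Sylow p G)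
    {W : Subgroup G → Subgroup G} (hW : IsConjugacyFunctor p W)
    (hZW : ∀ R : Subgroup G, R ≤ (S : Subgroup G) →
      (S : Subgroup G) ⊓ Subgroup.centralizer ((S : Subgroup G) : Set G) ≤ R →
      (S : Subgroup G) ⊓ Subgroup.centralizer ((S : Subgroup G) : Set G) ≤ W R)
    (hloc : ∀ T : Subgroup G, T ≠ ⊥ →
      (S : Subgroup G) ⊓ Subgroup.centralizer ((S : Subgroup G) : Set G) ≤ T →
      IsWellPlaced p W (S : Subgroup G) T →
      ControlsStrongFusionIn p W (Subgroup.normalizer ((T : Subgroup G) : Set G))) :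
    ∀ (T : Subgroup G) (g : G), T ≤ (S : Subgroup G) → cj g T ≤ (S : Subgroup G) →
      Fac (Subgroup.normalizer ((W (S : Subgroup G) : Subgroup G) : Set G)) T g := by
  apply alperin_fac S
  intro A hA IH
  obtain ⟨m, hm⟩ := exists_wellPlaced_conj S hW hA
  refine ⟨m, hm.1, hm.2 0, fun t ht => ?_⟩
  by_cases hbot : cj m A = ⊥
  · rw [hbot]
    refine ⟨1, Subgroup.one_mem _, t, ?_, by group⟩
    rw [Subgroup.mem_centralizer_iff]
    intro a ha
    rw [Subgroup.mem_bot.mp ha]
    group
  have hsylN : IsSylIn p ((S : Subgroup G) ⊓ Subgroup.normalizer ((cj m A : Subgroup G) : Set G))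
      (Subgroup.normalizer ((cj m A : Subgroup G) : Set G)) :=
    IsWellPlaced.isSylIn S.isPGroup' hm 0
  have hsylC := isSylIn_inf_centralizer hsylN
  by_cases hcen : (S : Subgroup G) ⊓ Subgroup.centralizer ((cj m A : Subgroup G) : Set G) ≤ cj m A
  · have hpc : PCentric p (cj m A) := pcentric_of_fn hsylC hcen
    have hZU := hpc.center_le S.isPGroup' hm.1
    have hle : cj m A ≤ (S : Subgroup G) ⊓ Subgroup.normalizer ((cj m A : Subgroup G) : Set G) :=
      le_inf hm.1 Subgroup.le_normalizer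
    exact wp_local_control_Z S hW _ hZW hloc (cj m A) hbot hZU hm t ht (cj m A) hle
      (by rw [cj_eq_of_mem_normalizer ht]; exact hle)
  · obtain ⟨n, hn, c, hc, rfl⟩ := frattini_centralizer hsylC ht
    have hBS : cj m A ⊔ ((S : Subgroup G) ⊓ Subgroup.centralizer ((cj m A : Subgroup G) : Set G)) ≤
        (S : Subgroup G) := sup_le hm.1 inf_le_left
    have hnB : cj n (cj m A ⊔
        ((S : Subgroup G) ⊓ Subgroup.centralizer ((cj m A : Subgroup G) : Set G))) =
        cj m A ⊔ ((S : Subgroup G) ⊓ Subgroup.centralizer ((cj m A : Subgroup G) : Set G)) := by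
      have e : cj n (cj m A ⊔
          ((S : Subgroup G) ⊓ Subgroup.centralizer ((cj m A : Subgroup G) : Set G))) =
          cj n (cj m A) ⊔ cj n
            ((S : Subgroup G) ⊓ Subgroup.centralizer ((cj m A : Subgroup G) : Set G)) :=
        Subgroup.map_sup _ _ _
      rw [e, cj_eq_of_mem_normalizer hn.1, cj_eq_of_mem_normalizer hn.2]
    have hlt : Nat.card A < Nat.card (cj m A ⊔
        ((S : Subgroup G) ⊓ Subgroup.centralizer ((cj m A : Subgroup G) : Set G)) : Subgroup G) := by
      rw [← card_cj m A]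
      apply card_lt_of_lt
      refine lt_of_le_of_ne le_sup_left ?_
      intro heq
      apply hcen
      have h2 : (S : Subgroup G) ⊓ Subgroup.centralizer ((cj m A : Subgroup G) : Set G) ≤
          cj m A ⊔ ((S : Subgroup G) ⊓ Subgroup.centralizer ((cj m A : Subgroup G) : Set G)) :=
        le_sup_right
      rw [← heq] at h2
      exact h2
    have h1 := IH _ n hBS (by rw [hnB]; exact hBS) hlt
    exact (h1.mono le_sup_left).mul_right hc

end wp


section sl2loc

variable {G : Type u} [Group G]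

theorem sl2Free_of_sub {p : ℕ} (N : Subgroup G)
    (h : ¬ ∃ (H K : Subgroup G) (_ : (K.subgroupOf H).Normal), H ≤ N ∧
      Nonempty ((H ⧸ K.subgroupOf H) ≃* Matrix.SpecialLinearGroup (Fin 2) (ZMod p))) :
    SL2Free p ↥N := by
  rintro ⟨H₁, K₁, hK₁, ⟨e⟩⟩
  apply h
  obtain ⟨φ, hφ⟩ : ∃ φ : ↥H₁ ≃* ↥(H₁.map N.subtype), ∀ y : ↥H₁, ((φ y : ↥(H₁.map N.subtype)) : G) =
      ((y : ↥N) : G) :=
    ⟨H₁.equivMapOfInjective N.subtype N.subtype_injective, fun y => rfl⟩
  have heq : (K₁.subgroupOf H₁).map φ.toMonoidHom =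
      (K₁.map N.subtype).subgroupOf (H₁.map N.subtype) := by
    ext x
    constructor
    · rintro ⟨y, hy, rfl⟩
      rw [Subgroup.mem_subgroupOf]
      refine ⟨(y : ↥N), Subgroup.mem_subgroupOf.mp hy, ?_⟩
      exact (hφ y).symm
    · intro hx'
      rw [Subgroup.mem_subgroupOf] at hx'
      obtain ⟨k, hk, hkx⟩ := hx'
      obtain ⟨h₁, hh₁, hh₁x⟩ := x.2
      have hkh : k = h₁ := N.subtype_injective (hkx.trans hh₁x.symm)
      subst hkh
      refine ⟨⟨k, hh₁⟩, Subgroup.mem_subgroupOf.mpr hk, ?_⟩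
      apply Subtype.ext
      rw [← hkx]
      exact hφ ⟨k, hh₁⟩
  have hn : ((K₁.map N.subtype).subgroupOf (H₁.map N.subtype)).Normal := by
    rw [← heq]; exact Subgroup.Normal.map hK₁ _ φ.surjective
  exact ⟨H₁.map N.subtype, K₁.map N.subtype, hn, Subgroup.map_subtype_le _,
    ⟨(QuotientGroup.congr _ _ φ heq).symm.trans e⟩⟩

theorem classHyp_sl2 {p : ℕ} [Fact p.Prime] (hp2 : p ≠ 2) :
    ClassHyp.{u} p (fun X _ => SL2Free p X) where
  sub := fun _ _ h K => sl2Free_of_isSec (isSec_subgroup K) h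
  quot := fun _ _ h N _ => sl2Free_of_isSec (isSec_quotient N) h
  stab := fun _ _ _ h => hst_of_sl2Free hp2 h

theorem wd_conjFunctor {p : ℕ} [Finite G]
    {WD : ∀ (X : Type u) [Group X], Subgroup X → Subgroup X} (hW : WDHyp p WD) :
    IsConjugacyFunctor p (fun T : Subgroup G => WD G T) := by
  intro T hT
  exact ⟨hW.le G T, fun hne => hW.ne_bot G T hT hne, fun g => wd_cj hW g T⟩

/-- **S3071**, subgroup form. -/
theorem zjA_fac_of_local_sl2Free {p : ℕ} [Fact p.Prime] (hp2 : p ≠ 2) [Finite G] (S : Sylow p G)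
    (hfree : ∀ P : Subgroup G,
      (S : Subgroup G) ⊓ Subgroup.centralizer ((S : Subgroup G) : Set G) ≤ P → P ≤ S →
      ¬ ∃ (H K : Subgroup G) (_ : (K.subgroupOf H).Normal),
        H ≤ Subgroup.normalizer (P : Set G) ∧
        Nonempty ((H ⧸ K.subgroupOf H) ≃* Matrix.SpecialLinearGroup (Fin 2) (ZMod p)))
    (T : Subgroup G) (g : G) (hT : T ≤ (S : Subgroup G)) (hgT : cj g T ≤ (S : Subgroup G)) :
    Fac (Subgroup.normalizer (centerThompsonAOf (S : Subgroup G) : Set G)) T g := by
  have hW : WDHyp.{u} p (fun _ _ D => centerThompsonAOf D) := wdHyp_ctA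
  have hWc : IsConjugacyFunctor p (fun T : Subgroup G => centerThompsonAOf T) :=
    wd_conjFunctor (WD := fun _ _ D => centerThompsonAOf D) hW
  refine wp_global_fac_Z S hWc ?_ ?_ T g hT hgT
  · intro R hRS hZR
    have hRp : IsPGroup p R := S.isPGroup'.to_le hRS
    have h1 : (S : Subgroup G) ⊓ Subgroup.centralizer ((S : Subgroup G) : Set G) ≤
        R ⊓ Subgroup.centralizer (R : Set G) :=
      le_inf hZR (inf_le_right.trans (Subgroup.centralizer_le hRS))
    have hJR : thompsonSubgroupAOf R ≤ R :=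
      (Cfsg.Agent.Lib.Helper3.WC.isConjugacyFunctor_thompsonA (G := G) p R hRp).1
    have h2 : R ⊓ Subgroup.centralizer (R : Set G) ≤ centerThompsonAOf R := by
      unfold centerThompsonAOf
      exact le_inf (Cfsg.Agent.Lib.Helper3.WC.center_le_thompsonA R)
        (inf_le_right.trans (Subgroup.centralizer_le hJR))
    exact h1.trans h2
  · intro U hUne hZU hUwp
    have hsyl : IsSylIn p ((S : Subgroup G) ⊓ Subgroup.normalizer (U : Set G))
        (Subgroup.normalizer (U : Set G)) := IsWellPlaced.isSylIn S.isPGroup' hUwp 0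
    have hfreeH : SL2Free p ↥(Subgroup.normalizer (U : Set G)) :=
      sl2Free_of_sub _ (hfree U hZU hUwp.1)
    obtain ⟨H, hH⟩ : ∃ H : Subgroup G, H = Subgroup.normalizer (U : Set G) := ⟨_, rfl⟩
    rw [← hH] at hsyl hfreeH ⊢
    obtain ⟨R, hR⟩ : ∃ R : Subgroup G, R = (S : Subgroup G) ⊓ H := ⟨_, rfl⟩
    rw [← hR] at hsyl
    have hRp : IsPGroup p (R.subgroupOf H) :=
      hsyl.2.1.comap_of_injective H.subtype H.subtype_injective
    have hidx : ¬ p ∣ (R.subgroupOf H).index := hsyl.2.2
    obtain ⟨R', hR'coe⟩ : ∃ R' : Sylow p ↥H, (R' : Subgroup ↥H) = R.subgroupOf H :=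
      ⟨hRp.toSylow hidx, IsPGroup.toSylow_coe hRp hidx⟩
    refine ⟨R, hsyl.1, hsyl.2.1, hsyl.2.2, ?_⟩
    intro A h hh hA hAh
    have hB : Subgroup.closure A ≤ R := (Subgroup.closure_le _).mpr hA
    have hBh : cj h (Subgroup.closure A) ≤ R := image_conj_subset_iff.mp hAh
    have hfac := classical_fac hp2 (classHyp_sl2 hp2) hfreeH R'
      ((Subgroup.closure A).subgroupOf H) ⟨h, hh⟩
      (by
        rw [hR'coe]
        intro x hx
        exact Subgroup.mem_subgroupOf.mpr (hB (Subgroup.mem_subgroupOf.mp hx)))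
      (by
        rw [hR'coe]
        intro x hx
        rw [mem_cj] at hx
        rw [Subgroup.mem_subgroupOf] at hx ⊢
        apply hBh
        rw [mem_cj]
        exact hx)
    rw [hR'coe] at hfac
    obtain ⟨x, hx, hxa⟩ := hfac.conj_eq
    have hmapR : (R.subgroupOf H).map H.subtype = R :=
      Subgroup.map_subgroupOf_eq_of_le hsyl.1
    have hJ1 : (centerThompsonAOf (R.subgroupOf H)).map H.subtype = centerThompsonAOf R := by
      rw [← hW.map ↥H G H.subtype (R.subgroupOf H) (fun u _ hu => Subtype.ext hu), hmapR]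
    refine ⟨(x : G), Subgroup.mem_inf.mpr ⟨x.2, ?_⟩, ?_⟩
    · show (x : G) ∈ Subgroup.normalizer ((centerThompsonAOf R : Subgroup G) : Set G)
      rw [← hJ1]
      exact Subgroup.le_normalizer_map H.subtype (Subgroup.mem_map_of_mem _ hx)
    · intro a ha
      have haH : a ∈ H := hsyl.1 (hA ha)
      have := hxa ⟨a, haH⟩ (Subgroup.mem_subgroupOf.mpr (Subgroup.subset_closure ha))
      exact congrArg Subtype.val this

/-- **S3071**. -/
theorem zjA_conj_of_local_sl2Free {p : ℕ} [Fact p.Prime] (hp2 : p ≠ 2) [Finite G] (S : Sylow p G)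
    (hfree : ∀ P : Subgroup G,
      (S : Subgroup G) ⊓ Subgroup.centralizer ((S : Subgroup G) : Set G) ≤ P → P ≤ S →
      ¬ ∃ (H K : Subgroup G) (_ : (K.subgroupOf H).Normal),
        H ≤ Subgroup.normalizer (P : Set G) ∧
        Nonempty ((H ⧸ K.subgroupOf H) ≃* Matrix.SpecialLinearGroup (Fin 2) (ZMod p)))
    (x : G) (hx : x ∈ S) (y : G) (hy : y ∈ S) :
    (∃ g : G, g * x * g⁻¹ = y) ↔
      ∃ n ∈ Subgroup.normalizer (centerThompsonAOf (S : Subgroup G) : Set G), n * x * n⁻¹ = y := by
  constructor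
  · rintro ⟨g, rfl⟩
    have hT : Subgroup.zpowers x ≤ (S : Subgroup G) := by
      rw [Subgroup.zpowers_le]; exact hx
    have hgT : cj g (Subgroup.zpowers x) ≤ (S : Subgroup G) := by
      have e : cj g (Subgroup.zpowers x) = Subgroup.zpowers (g * x * g⁻¹) := by
        show (Subgroup.zpowers x).map (MulAut.conj g).toMonoidHom = _
        rw [MonoidHom.map_zpowers]; rfl
      rw [e, Subgroup.zpowers_le]; exact hy
    obtain ⟨n, hn, hna⟩ := (zjA_fac_of_local_sl2Free hp2 S hfree _ g hT hgT).conj_eq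
    exact ⟨n, hn, hna x (Subgroup.mem_zpowers x)⟩
  · rintro ⟨n, _, hn⟩
    exact ⟨n, hn⟩

end sl2loc

end Cfsg.Agent.Lib.Helper3.ZJ
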