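import Mathlib
import Cfsg.Agent.Lib.Helper3.ZJ9
import Cfsg.Prelude.Def_FusionComponents

/-!
# The fusion system of a `Qd(p)`-free group is solvable

For a strongly closed `R < P`, the preimage `Q` of `Z(J(P/R))` (computed in `N_G(R)/R`) is such
that `N_G(Q) ∩ N_G(R)` controls strong fusion modulo `R`; hence the image of `Q` is a nontrivial
normal subgroup of the factor system.
-/

set_option autoImplicit false

namespace Cfsg.Agent.Lib.Helper3.ZJ

open Cfsg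
open Cfsg.Agent.Lib.Helper26
open Cfsg.Agent.Lib.Helper42

universe u

section quot

variable {p : ℕ} [Fact p.Prime]

/-- control of fusion modulo a strongly closed subgroup in a `Qd(p)`-free group. -/
theorem quot_ctl (hp2 : p ≠ 2) {G : Type u} [Group G] [Finite G] (hqd : ¬ Involves ↥(qd p) G)
    (P : Sylow p G) (R : Subgroup G) (hR : IsStronglyClosed R (P : Subgroup G))
    (hRP : R ≠ (P : Subgroup G)) :
    ∃ Q : Subgroup G, R ≤ Q ∧ Q ≤ (P : Subgroup G) ∧ Q ≠ R ∧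
      ∀ A : Subgroup G, R ≤ A → A ≤ (P : Subgroup G) → ∀ g : G, cj g A ≤ (P : Subgroup G) →
        ∃ x : G, cj x R = R ∧ cj x Q = Q ∧ ∀ a ∈ A, (x * a * x⁻¹)⁻¹ * (g * a * g⁻¹) ∈ R := by
  obtain ⟨N, hNdef⟩ : ∃ N : Subgroup G, N = Subgroup.normalizer (R : Set G) := ⟨_, rfl⟩
  have hPN : (P : Subgroup G) ≤ N := hNdef ▸ sc_le_normalizer hR
  have hRN : R ≤ N := hR.1.trans hPN
  have hRn : (R.subgroupOf N).Normal := by
    rw [hNdef]; infer_instance
  have hqd' : ¬ Involves ↥(qd p) (↥N ⧸ R.subgroupOf N) := fun h =>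
    hqd (Cfsg.Agent.Lib.Helper2.involves_of_subgroup N
      (Cfsg.Agent.Lib.Helper2.involves_of_quotient (R.subgroupOf N) h))
  set π := QuotientGroup.mk' (R.subgroupOf N) with hπdef
  have hπ : Function.Surjective π := QuotientGroup.mk'_surjective _
  have hπeq : ∀ a b : ↥N, π a = π b ↔ (a : G)⁻¹ * (b : G) ∈ R := by
    intro a b
    rw [hπdef, QuotientGroup.mk'_apply, QuotientGroup.mk'_apply, QuotientGroup.eq,
      Subgroup.mem_subgroupOf]
    rfl
  have hπone : ∀ a : ↥N, π a = 1 ↔ (a : G) ∈ R := by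
    intro a
    rw [hπdef, QuotientGroup.mk'_apply, QuotientGroup.eq_one_iff, Subgroup.mem_subgroupOf]
  set S : Sylow p (↥N ⧸ R.subgroupOf N) := (P.subtype hPN).mapSurjective hπ with hSdef
  have hcoe : (S : Subgroup (↥N ⧸ R.subgroupOf N)) = ((P : Subgroup G).subgroupOf N).map π := by
    rw [hSdef, Sylow.coe_mapSurjective, Sylow.coe_subtype]
  have hSmem : ∀ n : ↥N, π n ∈ (S : Subgroup (↥N ⧸ R.subgroupOf N)) ↔ (n : G) ∈ (P : Subgroup G) := by
    intro n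
    rw [hcoe]
    constructor
    · rintro ⟨m, hm, hmn⟩
      have h1 := (hπeq m n).mp hmn
      have h2 : (m : G) ∈ (P : Subgroup G) := Subgroup.mem_subgroupOf.mp hm
      have e : (n : G) = (m : G) * ((m : G)⁻¹ * (n : G)) := by group
      rw [e]
      exact Subgroup.mul_mem _ h2 (hR.1 h1)
    · intro hn
      exact ⟨n, Subgroup.mem_subgroupOf.mpr hn, rfl⟩
  set Zb := centerThompsonAOf (S : Subgroup (↥N ⧸ R.subgroupOf N)) with hZb
  have hZbS : Zb ≤ (S : Subgroup (↥N ⧸ R.subgroupOf N)) := ctA_le _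
  have hSne : (S : Subgroup (↥N ⧸ R.subgroupOf N)) ≠ ⊥ := by
    intro hbot
    apply hRP
    apply le_antisymm hR.1
    intro s hs
    have h1 : π ⟨s, hPN hs⟩ ∈ (S : Subgroup (↥N ⧸ R.subgroupOf N)) := (hSmem _).mpr hs
    rw [hbot, Subgroup.mem_bot] at h1
    exact (hπone _).mp h1
  have hZbne : Zb ≠ ⊥ := (wdHyp_ctA (p := p)).ne_bot _ _ S.isPGroup' hSne
  refine ⟨(Zb.comap π).map N.subtype, ?_, ?_, ?_, ?_⟩
  · intro r hr
    refine ⟨⟨r, hRN hr⟩, ?_, rfl⟩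
    show π ⟨r, hRN hr⟩ ∈ Zb
    rw [(hπone _).mpr hr]
    exact Subgroup.one_mem _
  · rintro _ ⟨n, hn, rfl⟩
    exact (hSmem n).mp (hZbS hn)
  · intro heq
    apply hZbne
    rw [eq_bot_iff]
    intro z hz
    obtain ⟨n, rfl⟩ := hπ z
    have h1 : (n : G) ∈ (Zb.comap π).map N.subtype := ⟨n, hz, rfl⟩
    rw [heq] at h1
    rw [Subgroup.mem_bot]
    exact (hπone n).mpr h1
  · intro A hRA hAP g hgA
    -- `g` normalizes `R`
    have hgR : cj g R = R := by
      apply Subgroup.eq_of_le_of_card_ge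
      · rintro _ ⟨r, hr, rfl⟩
        have h1 : g * r * g⁻¹ ∈ (P : Subgroup G) := hgA (conj_mem_cj (hRA hr))
        exact hR.2 r hr g h1
      · rw [card_cj]
    have hgN : g ∈ N := by rw [hNdef]; exact cj_eq_self_iff.mp hgR
    have hAN : A ≤ N := hAP.trans hPN
    have hT : (A.subgroupOf N).map π ≤ (S : Subgroup (↥N ⧸ R.subgroupOf N)) := by
      rintro _ ⟨a, ha, rfl⟩
      exact (hSmem a).mpr (hAP (Subgroup.mem_subgroupOf.mp ha))
    have hgT : cj (π ⟨g, hgN⟩) ((A.subgroupOf N).map π) ≤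
        (S : Subgroup (↥N ⧸ R.subgroupOf N)) := by
      rintro _ ⟨_, ⟨a, ha, rfl⟩, rfl⟩
      have e : (MulAut.conj (π ⟨g, hgN⟩)).toMonoidHom (π a) = π (⟨g, hgN⟩ * a * ⟨g, hgN⟩⁻¹) := by
        simp [MulAut.conj_apply]
      rw [e, hSmem]
      exact hgA (conj_mem_cj (Subgroup.mem_subgroupOf.mp ha))
    obtain ⟨xb, hxb, hxa⟩ := (classical_fac hp2 (classHyp_qd hp2) hqd' S _ _ hT hgT).conj_eq
    obtain ⟨n, rfl⟩ := hπ xb
    have hkey : ∀ m : ↥N, π m ∈ Zb → ∀ y : ↥N, π y ∈ Subgroup.normalizer (Zb : Set _) →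
        π (y * m * y⁻¹) ∈ Zb := by
      intro m hm y hy
      rw [map_mul, map_mul, map_inv]
      exact (Subgroup.mem_normalizer_iff.mp hy _).mp hm
    refine ⟨(n : G), ?_, ?_, ?_⟩
    · have : (n : G) ∈ Subgroup.normalizer (R : Set G) := hNdef ▸ n.2
      exact cj_eq_self_iff.mpr this
    · apply Subgroup.eq_of_le_of_card_ge
      · rintro _ ⟨_, ⟨m, hm, rfl⟩, rfl⟩
        exact ⟨n * m * n⁻¹, hkey m hm n hxb, by simp [MulAut.conj_apply]⟩
      · rw [card_cj]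
    · intro a ha
      have h1 := hxa (π ⟨a, hAN ha⟩) ⟨⟨a, hAN ha⟩, Subgroup.mem_subgroupOf.mpr ha, rfl⟩
      have h2 : π (n * ⟨a, hAN ha⟩ * n⁻¹) = π (⟨g, hgN⟩ * ⟨a, hAN ha⟩ * ⟨g, hgN⟩⁻¹) := by
        rw [map_mul, map_mul, map_inv, map_mul, map_mul, map_inv]
        exact h1
      exact (hπeq _ _).mp h2

end quot

section fus

/-- the homomorphism induced on a subgroup of `P/R` by conjugation with an element normalizing
`R`. -/
theorem exists_induced_hom {G : Type u} [Group G] (P R : Subgroup G)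
    [hRn : (R.subgroupOf P).Normal] (x : G) (hxR : cj x R = R) (B : Subgroup G)
    (hxB : cj x B ≤ P) (P'' : Subgroup (↥P ⧸ R.subgroupOf P))
    (hP'' : ∀ y ∈ P'', ∃ b : ↥P, (b : G) ∈ B ∧ QuotientGroup.mk' (R.subgroupOf P) b = y) :
    ∃ ψ : ↥P'' →* (↥P ⧸ R.subgroupOf P), ∀ (b : ↥P) (hb : (b : G) ∈ B)
      (h : QuotientGroup.mk' (R.subgroupOf P) b ∈ P''),
      ψ ⟨QuotientGroup.mk' (R.subgroupOf P) b, h⟩ =
        QuotientGroup.mk' (R.subgroupOf P) ⟨x * (b : G) * x⁻¹, hxB (conj_mem_cj hb)⟩ := by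
  set θ := QuotientGroup.mk' (R.subgroupOf P) with hθ
  have hθone : ∀ a : ↥P, θ a = 1 ↔ (a : G) ∈ R := by
    intro a
    rw [hθ, QuotientGroup.mk'_apply, QuotientGroup.eq_one_iff, Subgroup.mem_subgroupOf]
  let B₁ : Subgroup ↥P := B.subgroupOf P ⊓ P''.comap θ
  let c : ↥B₁ →* ↥P :=
    { toFun := fun b => ⟨x * ((b : ↥P) : G) * x⁻¹,
        hxB (conj_mem_cj (Subgroup.mem_subgroupOf.mp b.2.1))⟩
      map_one' := Subtype.ext (by simp)
      map_mul' := fun a b => Subtype.ext (by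
        show x * (((a : ↥P) : G) * ((b : ↥P) : G)) * x⁻¹ =
          (x * ((a : ↥P) : G) * x⁻¹) * (x * ((b : ↥P) : G) * x⁻¹)
        group) }
  let f : ↥B₁ →* (↥P ⧸ R.subgroupOf P) := θ.comp c
  let π' : ↥B₁ →* ↥P'' := (θ.comp B₁.subtype).codRestrict P'' (fun b => b.2.2)
  have hπ' : Function.Surjective π' := by
    rintro ⟨y, hy⟩
    obtain ⟨b, hb, hby⟩ := hP'' y hy
    refine ⟨⟨b, ⟨Subgroup.mem_subgroupOf.mpr hb, ?_⟩⟩, Subtype.ext hby⟩
    show θ b ∈ P''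
    rw [hby]; exact hy
  have hker : π'.ker ≤ f.ker := by
    intro b hb
    rw [MonoidHom.mem_ker] at hb ⊢
    have h1 : θ (b : ↥P) = 1 := congrArg Subtype.val hb
    have h2 : ((b : ↥P) : G) ∈ R := (hθone _).mp h1
    show θ (c b) = 1
    rw [hθone]
    have h3 : x * ((b : ↥P) : G) * x⁻¹ ∈ cj x R := conj_mem_cj h2
    rw [hxR] at h3
    exact h3
  refine ⟨MonoidHom.liftOfSurjective π' hπ' ⟨f, hker⟩, ?_⟩
  intro b hb h
  have e : (⟨θ b, h⟩ : ↥P'') = π' ⟨b, ⟨Subgroup.mem_subgroupOf.mpr hb, h⟩⟩ := rfl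
  rw [e, MonoidHom.liftOfRightInverse_comp_apply]
  rfl

variable {p : ℕ} [Fact p.Prime]

/-- the fusion system of a `Qd(p)`-free group on a Sylow `p`-subgroup is solvable (`p` odd). -/
theorem group_fusion_solvable (hp2 : p ≠ 2) {G : Type u} [Group G] [Finite G]
    (hqd : ¬ Involves ↥(qd p) G) (P : Sylow p G) :
    (groupFusionSystem (P : Subgroup G)).IsSolvableSystem := by
  intro R hRsc hRP hRn E hE
  obtain ⟨hRle, hker, hrange, hHom⟩ := hE
  have hR : IsStronglyClosed R (P : Subgroup G) := by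
    refine ⟨hRsc.1, fun r hr g hg => ?_⟩
    have hz : Subgroup.zpowers r ≤ R := by rw [Subgroup.zpowers_le]; exact hr
    have hmem : conjHom (Subgroup.zpowers r) g ∈
        (groupFusionSystem (P : Subgroup G)).Hom (Subgroup.zpowers r) := by
      refine ⟨hz.trans hRsc.1, ?_, g, fun x => rfl⟩
      intro x
      obtain ⟨k, hk⟩ := Subgroup.mem_zpowers_iff.mp x.2
      show g * (x : G) * g⁻¹ ∈ (P : Subgroup G)
      rw [← hk, ← conj_zpow]
      exact Subgroup.zpow_mem _ hg k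
    exact hRsc.2 _ hz _ hmem ⟨r, Subgroup.mem_zpowers r⟩
  obtain ⟨Q, hRQ, hQP, hQR, hctl⟩ := quot_ctl hp2 hqd P R hR hRP
  set θ := QuotientGroup.mk' (R.subgroupOf (P : Subgroup G)) with hθ
  have hθsurj : Function.Surjective θ := QuotientGroup.mk'_surjective _
  have hθone : ∀ s : ↥(P : Subgroup G), θ s = 1 ↔ (s : G) ∈ R := hker
  have hθeq : ∀ a b : ↥(P : Subgroup G), θ a = θ b ↔ (a : G)⁻¹ * (b : G) ∈ R := by
    intro a b
    rw [hθ, QuotientGroup.mk'_apply, QuotientGroup.mk'_apply, QuotientGroup.eq,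
      Subgroup.mem_subgroupOf]
    rfl
  obtain ⟨Q', hQ'⟩ : ∃ Q' : Subgroup (↥(P : Subgroup G) ⧸ R.subgroupOf (P : Subgroup G)),
      Q' = (Q.subgroupOf (P : Subgroup G)).map θ := ⟨_, rfl⟩
  have hQ'mem : ∀ s : ↥(P : Subgroup G), θ s ∈ Q' ↔ (s : G) ∈ Q := by
    intro s
    rw [hQ']
    constructor
    · rintro ⟨q, hq, hqs⟩
      have h1 := (hθeq q s).mp hqs
      have e : (s : G) = (q : G) * ((q : G)⁻¹ * (s : G)) := by group
      rw [e]
      exact Q.mul_mem (Subgroup.mem_subgroupOf.mp hq) (hRQ h1)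
    · intro hs
      exact ⟨s, Subgroup.mem_subgroupOf.mpr hs, rfl⟩
  have hQ'ne : Q' ≠ ⊥ := by
    intro hbot
    apply hQR
    apply le_antisymm _ hRQ
    intro q hq
    have h1 : θ ⟨q, hQP hq⟩ ∈ Q' := (hQ'mem _).mpr hq
    rw [hbot, Subgroup.mem_bot] at h1
    exact (hθone _).mp h1
  have hnorm : E.IsNormal Q' := by
    refine ⟨le_top, ?_⟩
    intro P' φ' hφ'
    have h0 := (hHom P' φ').mp hφ'
    obtain ⟨A, hA⟩ : ∃ A : Subgroup G, A = FusionSystem.preimageAlong θ P' := ⟨_, rfl⟩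
    rw [← hA] at h0
    obtain ⟨-, φ, hφ, hP, hφS, hP'mem, hind⟩ := h0
    obtain ⟨hAP, hφP, g, hg⟩ := hφ
    have hAmem : ∀ s : ↥(P : Subgroup G), θ s ∈ P' → (s : G) ∈ A := by
      intro s hs
      rw [hA]
      exact ⟨s, hs, rfl⟩
    have hAP' : A ≤ (P : Subgroup G) := hP
    have hRA : R ≤ A := by
      intro r hr
      have := hAmem ⟨r, hRle hr⟩ (by rw [(hθone _).mpr hr]; exact Subgroup.one_mem _)
      exact this
    have hgA : cj g A ≤ (P : Subgroup G) := by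
      rintro _ ⟨a, ha, rfl⟩
      have := hφP ⟨a, ha⟩
      rw [hg] at this
      exact this
    obtain ⟨x, hxR, hxQ, hxa⟩ := hctl A hRA hAP' g hgA
    have hxA : cj x A ≤ (P : Subgroup G) := by
      rintro _ ⟨a, ha, rfl⟩
      have h1 := hxa a ha
      have h2 : g * a * g⁻¹ ∈ (P : Subgroup G) := hgA (conj_mem_cj ha)
      have e : (MulAut.conj x).toMonoidHom a =
          (g * a * g⁻¹) * ((x * a * x⁻¹)⁻¹ * (g * a * g⁻¹))⁻¹ := by
        show x * a * x⁻¹ = _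
        group
      rw [e]
      exact Subgroup.mul_mem _ h2 (Subgroup.inv_mem _ (hRle h1))
    have hxB : cj x (A ⊔ Q) ≤ (P : Subgroup G) := by
      show (A ⊔ Q).map _ ≤ _
      rw [Subgroup.map_sup]
      refine sup_le hxA ?_
      show cj x Q ≤ _
      rw [hxQ]; exact hQP
    have hpre : ∀ s : ↥(P : Subgroup G), θ s ∈ P' ⊔ Q' → (s : G) ∈ A ⊔ Q := by
      intro s hs
      have h1 : s ∈ (P' ⊔ Q').comap θ := hs
      rw [← Subgroup.comap_sup_eq _ _ _ hθsurj] at h1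
      have h2 : (s : G) ∈ (P'.comap θ ⊔ Q'.comap θ).map (P : Subgroup G).subtype := ⟨s, h1, rfl⟩
      rw [Subgroup.map_sup] at h2
      have h3 : Subgroup.map (P : Subgroup G).subtype (P'.comap θ) ⊔
          Subgroup.map (P : Subgroup G).subtype (Q'.comap θ) ≤ A ⊔ Q := by
        refine sup_le_sup ?_ ?_
        · rintro _ ⟨q, hq, rfl⟩
          exact hAmem q hq
        · rintro _ ⟨q, hq, rfl⟩
          exact (hQ'mem q).mp hq
      exact h3 h2
    have hP'' : ∀ y ∈ P' ⊔ Q', ∃ b : ↥(P : Subgroup G), (b : G) ∈ A ⊔ Q ∧ θ b = y := by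
      intro y hy
      obtain ⟨s, rfl⟩ := hθsurj y
      exact ⟨s, hpre s hy, rfl⟩
    obtain ⟨ψ', hψ'⟩ := exists_induced_hom (P : Subgroup G) R x hxR (A ⊔ Q) hxB (P' ⊔ Q') hP''
    refine ⟨ψ', ?_, ?_, ?_⟩
    · rw [hHom]
      have hle : FusionSystem.preimageAlong θ (P' ⊔ Q') ≤ A ⊔ Q := by
        rintro _ ⟨s, hs, rfl⟩
        exact hpre s hs
      have hleP : FusionSystem.preimageAlong θ (P' ⊔ Q') ≤ (P : Subgroup G) := by
        rintro _ ⟨s, hs, rfl⟩
        exact s.2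
      refine ⟨le_top, conjHom (FusionSystem.preimageAlong θ (P' ⊔ Q')) x, ?_, ?_⟩
      · exact ⟨hleP, fun b => hxB (conj_mem_cj (hle b.2)), x, fun b => rfl⟩
      · refine ⟨hleP, fun b => hxB (conj_mem_cj (hle b.2)), ?_, ?_⟩
        · rintro ⟨_, ⟨s, hs, rfl⟩⟩
          exact hs
        · rintro ⟨_, ⟨s, hs, rfl⟩⟩
          exact hψ' s (hpre s hs) hs
    · rintro ⟨y, hy⟩
      obtain ⟨s, rfl⟩ := hθsurj y
      have ha : (s : G) ∈ A := hAmem s hy
      have h1 := hψ' s (Subgroup.mem_sup_left ha) (Subgroup.mem_sup_left hy)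
      have h2 := hind ⟨(s : G), ha⟩
      have e1 : Subgroup.inclusion (le_sup_left : P' ≤ P' ⊔ Q') ⟨θ s, hy⟩ =
          ⟨θ s, Subgroup.mem_sup_left hy⟩ := rfl
      rw [e1, h1]
      have e2 : (⟨θ s, hy⟩ : ↥P') = ⟨θ ⟨((⟨(s : G), ha⟩ : ↥A) : G), hP ha⟩,
          hP'mem ⟨(s : G), ha⟩⟩ := rfl
      rw [e2, h2, hθeq]
      show (x * (s : G) * x⁻¹)⁻¹ * φ ⟨(s : G), ha⟩ ∈ R
      rw [hg]
      exact hxa _ ha
    · ext z
      constructor
      · rintro ⟨⟨w, hwP⟩, hw, rfl⟩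
        obtain ⟨s, rfl⟩ := hθsurj w
        have hs : (s : G) ∈ Q := (hQ'mem s).mp (Subgroup.mem_subgroupOf.mp hw)
        have h1 := hψ' s (Subgroup.mem_sup_right hs) hwP
        show ψ' ⟨θ s, hwP⟩ ∈ Q'
        rw [h1, hQ'mem]
        have h3 : x * (s : G) * x⁻¹ ∈ cj x Q := conj_mem_cj hs
        rw [hxQ] at h3
        exact h3
      · intro hz
        obtain ⟨s, rfl⟩ := hθsurj z
        have hs : (s : G) ∈ Q := (hQ'mem s).mp hz
        have ht : x⁻¹ * (s : G) * x ∈ Q := by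
          have h3 : (s : G) ∈ cj x Q := by rw [hxQ]; exact hs
          exact mem_cj.mp h3
        have hθt : θ ⟨x⁻¹ * (s : G) * x, hQP ht⟩ ∈ Q' := (hQ'mem _).mpr ht
        refine ⟨⟨θ ⟨x⁻¹ * (s : G) * x, hQP ht⟩, Subgroup.mem_sup_right hθt⟩,
          Subgroup.mem_subgroupOf.mpr hθt, ?_⟩
        have h1 := hψ' ⟨x⁻¹ * (s : G) * x, hQP ht⟩ (Subgroup.mem_sup_right ht)
          (Subgroup.mem_sup_right hθt)
        rw [h1]
        congr 1
        apply Subtype.ext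
        show x * (x⁻¹ * (s : G) * x) * x⁻¹ = (s : G)
        group
  intro hcore
  apply hQ'ne
  rw [eq_bot_iff, ← hcore]
  exact le_sSup hnorm

end fus

end Cfsg.Agent.Lib.Helper3.ZJ
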